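import Cfsg.Agent.INV.L5.TT

/-! # Homomorphisms on `S` -/

set_option autoImplicit false

namespace CL.L5

open Subgroup Cfsg CL.MSS CL.PComp

variable {G W : Type*} [Group G] [Group W] {τ : W × W →* G} {s : G}

/-- `τ (a,b) s^k ↦ χ a χ b`. -/
theorem Fr.exists_hom (F : Fr τ s) {A : Type*} [CommGroup A] (χ : W →* A) :
    ∃ φ : ↥(τ.range ⊔ zpowers s) →* A, ∀ (y : ↥(τ.range ⊔ zpowers s)) a b, (y : G) = τ (a, b) ∨ (y : G) = τ (a, b) * s →
      φ y = χ a * χ b := by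
  have h : ∀ y : ↥(τ.range ⊔ zpowers s), ∃ a b, (y : G) = τ (a, b) ∨ (y : G) = τ (a, b) * s := fun y => by
    rcases F.mem_S.1 y.2 with ⟨a, b, e⟩ | ⟨a, b, e⟩
    exacts [⟨a, b, Or.inl e⟩, ⟨a, b, Or.inr e⟩]
  choose u v huv using h
  have val : ∀ (y : ↥(τ.range ⊔ zpowers s)) a b, (y : G) = τ (a, b) ∨ (y : G) = τ (a, b) * s → χ (u y) * χ (v y) = χ a * χ b := by
    intro y a b e
    obtain ⟨e1, e2⟩ : u y = a ∧ v y = b := by
      rcases huv y with e' | e' <;> rcases e with e | e <;> rw [e'] at e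
      exacts [F.eq_iff.1 e, absurd (e ▸ τ_mem τ _ _) (F.not_mem a b),
        absurd (e ▸ τ_mem τ a b) (F.not_mem _ _), F.eq_iff.1 (mul_right_cancel e)]
    rw [e1, e2]
  refine ⟨MonoidHom.mk' (fun y => χ (u y) * χ (v y)) fun x y => ?_, val⟩
  rcases huv x with e | e <;> rcases huv y with e' | e'
  · rw [val (x * y) _ _ (Or.inl (by rw [coe_mul, e, e', τ_mul])), map_mul, map_mul, mul_mul_mul_comm]
  · rw [val (x * y) _ _ (Or.inr (by rw [coe_mul, e, e', ← mul_assoc, τ_mul])), map_mul, map_mul, mul_mul_mul_comm]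
  · rw [val (x * y) _ _ (Or.inr (by rw [coe_mul, e, e', mul_assoc, F.s_mul, ← mul_assoc, τ_mul])), map_mul, map_mul,
      mul_mul_mul_comm, mul_comm (χ (v y))]
  · rw [val (x * y) _ _ (Or.inl (by
      rw [coe_mul, e, e', mul_assoc, ← mul_assoc s, F.s_mul, mul_assoc, F.s2, mul_one, τ_mul])), map_mul, map_mul,
      mul_mul_mul_comm, mul_comm (χ (v y))]

/-- the sign character of a subgroup of index 2. -/
theorem exists_sign {H : Subgroup G} (h : H.index = 2) : ∃ χ : G →* ℤˣ, ∀ x, χ x = 1 ↔ x ∈ H := by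
  classical
  refine ⟨MonoidHom.mk' (fun x => if x ∈ H then 1 else -1) fun x y => ?_, fun x => ?_⟩
  · simp only [mul_mem_iff_of_index_two h]
    by_cases hx : x ∈ H <;> by_cases hy : y ∈ H <;> simp [hx, hy]
  · by_cases hx : x ∈ H <;> simp [hx]

theorem relIndex_ker {S : Subgroup G} (φ : S →* ℤˣ) {x : S} (hx : φ x ≠ 1) :
    (φ.ker.map S.subtype).relIndex S = 2 := by
  rw [relIndex, subgroupOf, comap_map_eq_self_of_injective S.subtype_injective, index_eq_two_iff]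
  refine ⟨x, fun y => ?_⟩
  simp only [MonoidHom.mem_ker, map_mul, Int.units_ne_iff_eq_neg.1 hx]
  rcases Int.units_eq_one_or (φ y) with h | h <;> simp [h]

theorem sw_congr {X Y : Type*} [Group X] [Group Y] (f : X ≃* Y) (h : IsQuasiDihedral X ∨ IsWreathed X) :
    IsQuasiDihedral Y ∨ IsWreathed Y := by
  rcases h with ⟨n, hn, hc, x, y, h1, h2, h3⟩ | ⟨n, hn, hc, x, y, z, h1, h2, h3, h4, h5⟩
  · exact Or.inl ⟨n, hn, by rw [← hc, Nat.card_congr f.toEquiv], f x, f y, by rwa [f.orderOf_eq],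
      by rwa [f.orderOf_eq], by rw [← map_pow, ← h3, map_mul, map_mul, map_inv]⟩
  · refine Or.inr ⟨n, hn, by rw [← hc, Nat.card_congr f.toEquiv], f x, f y, f z, by rwa [f.orderOf_eq],
      by rw [← map_mul, h2, map_mul], ?_, by rwa [f.orderOf_eq], by rw [← h5, map_mul, map_mul, map_inv]⟩
    have := congrArg (Subgroup.map f.toMonoidHom) h3
    rwa [map_inf _ _ _ f.injective, MonoidHom.map_zpowers, MonoidHom.map_zpowers, Subgroup.map_bot] at this

end CL.L5
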