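import Cfsg.Agent.INV.L5.M3G
import Cfsg.Agent.CHEV.Phan3

/-! # The facts `M3` for `SL₃(q)` -/

set_option autoImplicit false

namespace CL.L5

open Subgroup Cfsg CL.MSS CL.PComp

namespace G3

open Matrix CL.Chev.Phan
open scoped MatrixGroups

variable {F : Type*} [Field F]

theorem two_ne [Fintype F] (hF : Odd (Fintype.card F)) : (2 : F) ≠ 0 := fun h => by
  have := (FiniteField.even_card_iff_char_two (F := F)).1 (by
    have h2 : CharP F 2 := (CharP.charP_iff_prime_eq_zero Nat.prime_two).2 (by exact_mod_cast h)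
    exact ringChar.eq F 2)
  rw [Nat.odd_iff] at hF
  omega

/-- the first block. -/
def g0 : Fin 2 ↪ Fin 3 := off 0 (by omega)

/-- the second block. -/
def g1 : Fin 2 ↪ Fin 3 := off 1 (by omega)

theorem not_mem_g0 {r : Fin 3} : r ∉ Set.range g0 ↔ r = 2 := by
  rw [g0, mem_range_off, Fin.ext_iff]; simp; omega

theorem not_mem_g1 {r : Fin 3} : r ∉ Set.range g1 ↔ r = 0 := by
  rw [g1, mem_range_off, Fin.ext_iff]; simp

theorem blk_embM {g : Fin 2 ↪ Fin 3} {r : Fin 3} (hr : r ∉ Set.range g) (A : Matrix (Fin 2) (Fin 2) F) :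
    Blk r (embM g A) ∧ embM g A r r = 1 :=
  ⟨fun c hc => ⟨by rw [embM_row g A hr, one_apply_ne hc.symm], by rw [embM_col g A c hr, one_apply_ne hc]⟩,
    by rw [embM_row g A hr, one_apply_eq]⟩

theorem eq_embM' {g : Fin 2 ↪ Fin 3} {r : Fin 3} (hr : ∀ s, s ∉ Set.range g ↔ s = r) {M : Matrix (Fin 3) (Fin 3) F}
    (h : Blk r M ∧ M r r = 1) : M = embM g (M.submatrix g g) :=
  eq_embM g (fun _ _ => rfl) fun s hs c => by
    obtain rfl := (hr s).1 hs
    by_cases hc : c = s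
    · subst hc; rw [h.2, one_apply_eq]; exact ⟨rfl, rfl⟩
    · rw [(h.1 c hc).1, (h.1 c hc).2, one_apply_ne hc, one_apply_ne' hc]; exact ⟨rfl, rfl⟩

/-- the block embedding. -/
def embL (g : Fin 2 ↪ Fin 3) : SL(2, F) →* SL(3, F) where
  toFun A := ⟨embM g A.1, by rw [det_embM, A.2]⟩
  map_one' := Subtype.ext (embM_one g)
  map_mul' A B := Subtype.ext (embM_mul g A.1 B.1)

theorem embL_inj (g : Fin 2 ↪ Fin 3) : Function.Injective (embL (F := F) g) := fun _ _ h =>
  Subtype.ext (embM_inj g (congrArg Subtype.val h))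

theorem mem_embL {g : Fin 2 ↪ Fin 3} {r : Fin 3} (hr : ∀ s, s ∉ Set.range g ↔ s = r) (x : SL(3, F)) :
    x ∈ (embL g).range ↔ Blk r (slToMat 3 F x) ∧ slToMat 3 F x r r = 1 := by
  constructor
  · rintro ⟨A, rfl⟩
    exact blk_embM ((hr r).2 rfl) A.1
  · intro h
    have e : x.1 = embM g (x.1.submatrix g g) := eq_embM' hr h
    exact ⟨⟨x.1.submatrix g g, by rw [← det_embM g, ← e, x.2]⟩, Subtype.ext e.symm⟩

theorem det_dg (r : Fin 3) : (dg F r).det = 1 := by
  fin_cases r <;> simp [dg, Fin.prod_univ_three]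

theorem tv_mem {i j r : Fin 3} (h : i ≠ j) (hi : i ≠ r) (hj : j ≠ r) (c : F) :
    Blk r (slToMat 3 F (SpecialLinearGroup.transvection h c)) ∧
      slToMat 3 F (SpecialLinearGroup.transvection h c) r r = 1 := by
  change Blk r (1 + single i j c) ∧ (1 + single i j c : Matrix _ _ F) r r = 1
  exact ⟨fun s hs => ⟨by simp [one_apply_ne' hs, hi], by simp [one_apply_ne hs, hj]⟩, by simp [hi]⟩

end G3

open G3 in
theorem m3_SL {F : Type*} [Field F] [Fintype F] (hF : Odd (Fintype.card F)) :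
    ∃ (a b : Matrix.SpecialLinearGroup (Fin 3) F) (K₁ K₂ : Subgroup (Matrix.SpecialLinearGroup (Fin 3) F)),
      M3 (ringChar F) a b K₁ K₂ ∧ Nonempty (Matrix.SpecialLinearGroup (Fin 2) F ≃* K₁) ∧
        Nonempty (Matrix.SpecialLinearGroup (Fin 2) F ≃* K₂) ∧ K₁ ⊔ K₂ = ⊤ := by
  have : Fact (ringChar F).Prime := ⟨CharP.char_is_prime F _⟩
  have h1 := mem_embL (F := F) (fun _ => not_mem_g0)
  have h0 := mem_embL (F := F) (fun _ => not_mem_g1)
  have e1 := MonoidHom.ofInjective (embL_inj (F := F) g0)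
  have e0 := MonoidHom.ofInjective (embL_inj (F := F) g1)
  refine ⟨⟨dg F 2, det_dg 2⟩, ⟨dg F 0, det_dg 0⟩, (embL g0).range, (embL g1).range,
    m3_gen (μ := slToMat 3 F) (two_ne hF) Subtype.val_injective (fun x => x.2) hF rfl rfl h1 h0 e1 e0 ?_
      (CL.SL.commutator_eq_top_of_three_le (by simp)), ⟨e1⟩, ⟨e0⟩, ?_⟩
  · rw [CL.SL.card_center_SL, Fintype.card_fin]
    rcases (Nat.dvd_prime Nat.prime_three).1 (Nat.gcd_dvd_left 3 (Nat.card F - 1)) with h | h
    · exact Or.inl h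
    refine Or.inr ⟨h, fun h3 => ?_⟩
    have h4 : 3 ∣ Nat.card F - 1 := h ▸ Nat.gcd_dvd_right _ _
    have h5 : ringChar F ∣ Fintype.card F := (ringChar.spec F _).1 (FiniteField.cast_card_eq_zero F)
    rw [h3] at h5
    rw [Nat.card_eq_fintype_card] at h4
    have := Fintype.card_pos (α := F)
    omega
  · have k1 : ∀ {i j : Fin 3} (h : i ≠ j) (c : F), i ≠ 2 → j ≠ 2 → Matrix.SpecialLinearGroup.transvection h c ∈
        (embL g0).range ⊔ (embL g1).range := fun h c hi hj => mem_sup_left ((h1 _).2 (tv_mem h hi hj c))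
    have k0 : ∀ {i j : Fin 3} (h : i ≠ j) (c : F), i ≠ 0 → j ≠ 0 → Matrix.SpecialLinearGroup.transvection h c ∈
        (embL g0).range ⊔ (embL g1).range := fun h c hi hj => mem_sup_right ((h0 _).2 (tv_mem h hi hj c))
    refine CL.SL.eq_top_of_transvection_mem _ fun i j h c => ?_
    by_cases c1 : i ≠ 2 ∧ j ≠ 2
    · exact k1 h c c1.1 c1.2
    by_cases c0 : i ≠ 0 ∧ j ≠ 0
    · exact k0 h c c0.1 c0.2
    have hi : i ≠ 1 := by omega
    have hj : (1 : Fin 3) ≠ j := by omega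
    have k : ∀ {s t : Fin 3} (h : s ≠ t) (c : F), s = 1 ∨ t = 1 → Matrix.SpecialLinearGroup.transvection h c ∈
        (embL g0).range ⊔ (embL g1).range := fun {s t} h c hs => by
      by_cases c1 : s ≠ 2 ∧ t ≠ 2
      · exact k1 h c c1.1 c1.2
      · exact k0 h c (by omega) (by omega)
    rw [← mul_one c, ← CL.SL.commutator_transvection h hi hj, commutatorElement_def]
    exact mul_mem (mul_mem (mul_mem (k _ _ (Or.inr rfl)) (k _ _ (Or.inl rfl))) (inv_mem (k _ _ (Or.inr rfl))))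
      (inv_mem (k _ _ (Or.inl rfl)))

end CL.L5
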