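import Cfsg.Agent.INV.L5.Tool

/-! # Central quotients of `Γ` -/

set_option autoImplicit false

namespace CL.L5

open Subgroup Cfsg CL.MSS CL.PComp

variable {G Γ : Type*} [Group G] [Group Γ] {p : ℕ} {a b : Γ} {K₁ K₂ : Subgroup Γ} (m : M3 p a b K₁ K₂)
  {f : Γ →* G} (hk : f.ker ≤ center Γ)
include m

theorem M3.center_dvd : Nat.card (center Γ) ∣ 3 := by
  rcases m.zc with h | ⟨h, -⟩ <;> rw [h]
  exact one_dvd 3

theorem M3.cube {x : Γ} (hx : x ∈ center Γ) : x ^ 3 = 1 :=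
  orderOf_dvd_iff_pow_eq_one.1 ((orderOf_dvd_natCard _ hx).trans m.center_dvd)

include hk

theorem M3.ker_odd : (Nat.card f.ker).Coprime 2 :=
  Nat.Coprime.coprime_dvd_left ((card_dvd_of_le hk).trans m.center_dvd) (by norm_num)

theorem M3.ker_cop : (Nat.card f.ker).Coprime p := by
  rcases m.zc with h | ⟨h, h3⟩
  · exact Nat.Coprime.coprime_dvd_left (h ▸ card_dvd_of_le hk) (Nat.coprime_one_left p)
  · exact Nat.Coprime.coprime_dvd_left (h ▸ card_dvd_of_le hk)
      ((Nat.coprime_primes Nat.prime_three m.prime).2 h3.symm)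

theorem M3.ne_one {x : Γ} (h2 : x * x = 1) (h1 : x ≠ 1) : f x ≠ 1 := fun h => h1 (by
  have := m.cube (hk h)
  rwa [pow_succ, pow_two, h2, one_mul] at this)

/-- the preimage of the centraliser of an involution. -/
theorem M3.comm_of_map {x y : Γ} (h2 : x * x = 1) (h : Commute (f y) (f x)) : Commute y x := by
  have h1 : x⁻¹ * (y * x * y⁻¹) ∈ center Γ := hk (by
    rw [MonoidHom.mem_ker, map_mul, map_mul, map_mul, map_inv, map_inv, conj_eq_of_comm h, inv_mul_cancel])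
  have h3 : y * x * y⁻¹ * (y * x * y⁻¹) = 1 := by rw [conj_mul_conj, h2, mul_one, mul_inv_cancel]
  have h4 := m.cube h1
  have h5 : x⁻¹ * (y * x * y⁻¹) * (x⁻¹ * (y * x * y⁻¹)) = 1 := by
    rw [← mul_assoc, ← mem_center_iff.1 h1 x⁻¹, mul_assoc, mul_assoc, h3, mul_one, ← mul_inv_rev, h2, inv_one]
  rw [pow_succ, pow_two, h5, one_mul] at h4
  exact comm_of_conj_eq (inv_mul_eq_one.1 h4).symm

end CL.L5
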