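import Cfsg.Agent.INV.L5.M3L
import Cfsg.Agent.CLAS.UniTwo
import Cfsg.Agent.CLAS.UniGen
import Cfsg.Prelude.Def_PhanSystems

/-! # The facts `M3`, `U3` for `SU₃(q)` -/

set_option autoImplicit false

namespace CL.L5

open Subgroup Cfsg CL.MSS CL.PComp

namespace G3

open Matrix CL.Chev.Phan CL.SpU CL.Uni
open scoped MatrixGroups

variable {F : Type*} [Field F]

theorem pow_add_nil {M : Matrix (Fin 2) (Fin 2) F} (hM : M * M = 0) (α : F) (n : ℕ) :
    (α • (1 : Matrix (Fin 2) (Fin 2) F) + M) ^ (n + 1) = α ^ (n + 1) • 1 + (((n + 1 : ℕ) : F) * α ^ n) • M := by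
  induction n with
  | zero => simp
  | succ n ih =>
    rw [pow_succ, ih]
    simp only [Matrix.add_mul, Matrix.mul_add, Matrix.smul_mul, Matrix.mul_smul, Matrix.one_mul, Matrix.mul_one, hM,
      smul_zero, add_zero, smul_add, smul_smul]
    rw [add_assoc, ← add_smul]
    congr 2 <;> push_cast <;> ring

/-- a 2-element which commutes with a nontrivial unipotent element is scalar. -/
theorem scal (h3 : (3 : F) = 0) {X Y : Matrix (Fin 2) (Fin 2) F} (hY3 : Y ^ 3 = 1) (hY : Y ≠ 1)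
    (hc : X * Y = Y * X) {k : ℕ} (hX : X ^ 2 ^ k = 1) : X 0 1 = 0 ∧ X 1 0 = 0 ∧ X 0 0 = X 1 1 := by
  have h2 : (2 : F) ≠ 0 := fun h => one_ne_zero (show (1 : F) = 0 by linear_combination h3 - h)
  obtain ⟨N, rfl⟩ : ∃ N, Y = 1 + N := ⟨Y - 1, by abel⟩
  have hN : N * N * N = 0 := by
    have : (1 + N) ^ 3 = 1 + (3 : F) • (N + N * N) + N * N * N := by
      rw [show (3 : F) = 1 + 1 + 1 by norm_num, add_smul, add_smul, one_smul]; noncomm_ring
    rw [this, h3, zero_smul, add_zero] at hY3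
    simpa using hY3
  have hd : N 0 0 * N 1 1 - N 0 1 * N 1 0 = 0 := by
    have := congrArg det hN
    rw [det_mul, det_mul, det_zero, det_fin_two] at this
    simpa using this
  have ht : N 0 0 + N 1 1 = 0 := by
    have e0 := congrFun (congrFun hN 0) 0
    have e1 := congrFun (congrFun hN 1) 1
    simp only [mul_apply, Fin.sum_univ_two, Matrix.zero_apply] at e0 e1
    exact pow_eq_zero_iff (n := 3) (by norm_num) |>.1 (by linear_combination e0 + e1 + 3 * (N 0 0 + N 1 1) * hd)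
  have hc' : X * N = N * X := by simpa [Matrix.mul_add, Matrix.add_mul] using hc
  have c00 := congrFun (congrFun hc' 0) 0
  have c01 := congrFun (congrFun hc' 0) 1
  have c10 := congrFun (congrFun hc' 1) 0
  simp only [mul_apply, Fin.sum_univ_two] at c00 c01 c10
  obtain ⟨α, hα⟩ : ∃ α, X 0 0 + X 1 1 = 2 * α := ⟨(X 0 0 + X 1 1) / 2, by field_simp⟩
  obtain ⟨m, hm⟩ : ∃ m, X 0 0 = α + m := ⟨X 0 0 - α, by ring⟩
  have hm' : X 1 1 = α - m := by linear_combination hα - hm
  have hn : N 1 1 = -N 0 0 := by linear_combination ht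
  rw [hm, hm', hn] at c01 c10
  rw [hn] at hd
  have d01 : m * N 0 1 = N 0 0 * X 0 1 := mul_left_cancel₀ h2 (by linear_combination c01)
  have d10 : m * N 1 0 = N 0 0 * X 1 0 := mul_left_cancel₀ h2 (by linear_combination -c10)
  have d00 : X 0 1 * N 1 0 = N 0 1 * X 1 0 := by linear_combination c00
  have hq : m ^ 2 + X 0 1 * X 1 0 = 0 := by
    by_contra hq
    refine hY ?_
    have k0 : N 0 0 = 0 := pow_eq_zero_iff (n := 2) (by norm_num) |>.1 (mul_left_cancel₀ hq (by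
      linear_combination (-m ^ 2) * hd - (N 0 0 * X 1 0) * d01 - (m * N 0 1) * d10))
    have k1 : N 0 1 = 0 := pow_eq_zero_iff (n := 2) (by norm_num) |>.1 (mul_left_cancel₀ hq (by
      linear_combination (-X 0 1 ^ 2) * hd + (m * N 0 1 + N 0 0 * X 0 1) * d01 - (N 0 1 * X 0 1) * d00))
    have k2 : N 1 0 = 0 := pow_eq_zero_iff (n := 2) (by norm_num) |>.1 (mul_left_cancel₀ hq (by
      linear_combination (-X 1 0 ^ 2) * hd + (m * N 1 0 + N 0 0 * X 1 0) * d10 + (N 1 0 * X 1 0) * d00))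
    have : N = 0 := by
      ext i j; fin_cases i <;> fin_cases j <;> simp [k0, k1, k2, hn]
    rw [this, add_zero]
  obtain ⟨M, hM⟩ : ∃ M : Matrix (Fin 2) (Fin 2) F, M = !![m, X 0 1; X 1 0, -m] := ⟨_, rfl⟩
  have hXM : X = α • (1 : Matrix (Fin 2) (Fin 2) F) + M := by
    rw [hM]; ext i j; fin_cases i <;> fin_cases j <;> simp [hm, hm', sub_eq_add_neg]
  have hMM : M * M = 0 := by
    rw [hM]; ext i j
    fin_cases i <;> fin_cases j <;> simp [mul_apply, Fin.sum_univ_two] <;> first | ring1 | linear_combination hq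
  have hM0 : M = 0 := by
    obtain ⟨n, hn⟩ : ∃ n, 2 ^ k = n + 1 := ⟨2 ^ k - 1, by have := Nat.one_le_two_pow (n := k); omega⟩
    rw [hn, hXM, pow_add_nil hMM] at hX
    by_cases h1 : α ^ (n + 1) = 1
    · have h0 : α ≠ 0 := by rintro rfl; simp at h1
      rw [h1, one_smul, add_eq_left, smul_eq_zero] at hX
      refine hX.resolve_left (mul_ne_zero ?_ (pow_ne_zero _ h0))
      rw [← hn]; push_cast; exact pow_ne_zero _ h2
    · have := congrArg (· * M) hX
      simp only [Matrix.add_mul, Matrix.smul_mul, Matrix.one_mul, hMM, smul_zero, add_zero] at this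
      have h4 : (α ^ (n + 1) - 1) • M = 0 := by rw [sub_smul, this, one_smul, sub_self]
      exact (smul_eq_zero.1 h4).resolve_left (sub_ne_zero.2 h1)
  rw [hM] at hM0
  have z0 := congrFun (congrFun hM0 0) 0
  have z1 := congrFun (congrFun hM0 0) 1
  have z2 := congrFun (congrFun hM0 1) 0
  simp at z0 z1 z2
  exact ⟨z1, z2, by rw [hm, hm', z0]; ring⟩

/-- the upper left block on the centraliser. -/
def blk {Γ : Type*} [Group Γ] {μ : Γ →* Matrix (Fin 3) (Fin 3) F} (h2 : (2 : F) ≠ 0) (hμ : Function.Injective μ)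
    {a : Γ} (ha : μ a = dg F 2) : Cz a →* Matrix (Fin 2) (Fin 2) F where
  toFun x := (μ x).submatrix Fin.castSucc Fin.castSucc
  map_one' := by rw [coe_one, map_one]; ext i j; fin_cases i <;> fin_cases j <;> simp
  map_mul' x y := by
    have h := (comm_iff h2 hμ ha).1 (mem_Cz.1 x.2)
    have h0 := (h 0 (by decide)).2
    have h1 := (h 1 (by decide)).2
    rw [coe_mul, map_mul]
    ext i j
    fin_cases i <;> fin_cases j <;> simp [mul_apply, Fin.sum_univ_three, h0, h1]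

variable [Fintype F] {q : ℕ} (hF : Fintype.card F = q ^ 2)

/-- diagonal unitary matrices. -/
def mkD (d : Fin 3 → F) (h : ∀ i, d i ^ (q + 1) = 1) (hd : d 0 * d 1 * d 2 = 1) : SU 3 F q :=
  mkSU hF (diagonal d) (by
    have : ct hF (diagonal d) = diagonal fun i => d i ^ q := by
      ext i j
      rw [ct_apply, diagonal_apply, diagonal_apply]
      by_cases e : i = j
      · simp [e]
      · simp [e, Ne.symm e, CL.SqField.q_ne_zero hF]
    rw [this, diagonal_mul_diagonal, ← diagonal_one]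
    congr 1; ext i; rw [← pow_succ, h]) (by rw [det_diagonal, Fin.prod_univ_three, hd])

theorem mat_mkD (d : Fin 3 → F) (h : ∀ i, d i ^ (q + 1) = 1) (hd : d 0 * d 1 * d 2 = 1) :
    suMat 3 F q (mkD hF d h hd) = diagonal d := rfl

include hF in
theorem mem_block {g : Fin 2 ↪ Fin 3} {r : Fin 3} (hr : ∀ s, s ∉ Set.range g ↔ s = r) (x : SU 3 F q) :
    x ∈ (emb hF g).range ↔ Blk r (suMat 3 F q x) ∧ suMat 3 F q x r r = 1 := by
  constructor
  · rintro ⟨A, rfl⟩
    exact blk_embM ((hr r).2 rfl) _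
  · intro h
    refine (mem_range_emb hF g).2 fun s hs => ?_
    obtain rfl := (hr s).1 hs
    ext c
    rw [mulVec_single_one, col_apply, Pi.single_apply]
    split_ifs with e
    exacts [e ▸ h.2, (h.1 c e).2]

include hF in
theorem norm_rr {r : Fin 3} {x : SU 3 F q} (h : Blk r (suMat 3 F q x)) : suMat 3 F q x r r ^ (q + 1) = 1 := by
  have h1 := congrFun (congrFun (ct_mat hF x) r) r
  rw [mul_apply, Finset.sum_eq_single r (fun c _ hc => by rw [(h c hc).2, mul_zero]) (by simp), ct_apply,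
    one_apply_eq] at h1
  rwa [pow_succ]

theorem range_g0 : Set.range g0 = {0, 1} := by
  ext r; rw [← not_iff_not, not_mem_g0]; fin_cases r <;> simp

theorem range_g1 : Set.range g1 = {1, 2} := by
  ext r; rw [← not_iff_not, not_mem_g1]; fin_cases r <;> simp

omit [Fintype F] in
theorem eq_diag {M : Matrix (Fin 3) (Fin 3) F} (h2 : Blk 2 M) (h0 : Blk 0 M) : M = diagonal fun i => M i i := by
  have a1 := h2 0 (by decide)
  have a2 := h2 1 (by decide)
  have a3 := h0 1 (by decide)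
  ext i j
  fin_cases i <;> fin_cases j <;> simp [a1.1, a1.2, a2.1, a2.2, a3.1, a3.2]

omit [Fintype F] in
theorem blk_diag (r : Fin 3) (d : Fin 3 → F) : Blk r (diagonal d) := fun _ hc =>
  ⟨diagonal_apply_ne _ hc.symm, diagonal_apply_ne _ hc⟩

theorem u3_SU (hF : Fintype.card F = 3 ^ 2) (h3 : (3 : F) = 0) {a b : SU 3 F 3} (ha : suMat 3 F 3 a = dg F 2)
    (hb : suMat 3 F 3 b = dg F 0) {K₁ : Subgroup (SU 3 F 3)}
    (h1 : ∀ x, x ∈ K₁ ↔ Blk 2 (suMat 3 F 3 x) ∧ suMat 3 F 3 x 2 2 = 1) (e : SU 2 F 3 ≃* K₁) : U3 a b K₁ := by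
  have h2 : (2 : F) ≠ 0 := fun h => one_ne_zero (show (1 : F) = 0 by linear_combination h3 - h)
  have hμ := suMat_injective 3 F 3
  have ca : ∀ {x}, Commute x a ↔ Blk 2 (suMat 3 F 3 x) := comm_iff h2 hμ ha
  have cb : ∀ {x}, Commute x b ↔ Blk 0 (suMat 3 F 3 x) := comm_iff h2 hμ hb
  obtain ⟨e'⟩ := nonempty_SU_two_equiv (K := ZMod 3) hF (by simp)
  have c4 := CL.SqField.card_norm_eq hF (μ := 1) one_ne_zero (one_pow _)
  have hdet : ∀ {x : SU 3 F 3}, Commute x a → Commute x b →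
      suMat 3 F 3 x 0 0 * suMat 3 F 3 x 1 1 * suMat 3 F 3 x 2 2 = 1 := fun {x} hx hx' => by
    have := det_mat x
    rwa [eq_diag (ca.1 hx) (cb.1 hx'), det_diagonal, Fin.prod_univ_three] at this
  have inv4 : ∀ {c : F}, c ^ (3 + 1) = 1 → c ≠ 0 := by rintro _ h rfl; simp at h
  refine
    { zc := card_eq_one.1 (by rw [card_center_SU hF (by norm_num)]; norm_num)
      u1 := ?_
      exp4 := fun x hx hx' => hμ ?_
      sq := ?_
      u2 := ?_
      u3 := fun y hy ho x hx hxy ⟨k, hk⟩ w hw => ?_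
      u4 := ⟨e.symm.trans e'⟩ }
  · refine Eq.trans ?_ (show Nat.card ({x : F // x ^ (3 + 1) = 1} × {x : F // x ^ (3 + 1) = 1}) = 16 by
      rw [Nat.card_prod, c4])
    refine Nat.card_eq_of_bijective (fun x => (⟨suMat 3 F 3 x 0 0, norm_rr hF (cb.1 (mem_Cz.1 x.2.2))⟩,
      ⟨suMat 3 F 3 x 2 2, norm_rr hF (ca.1 (mem_Cz.1 x.2.1))⟩)) ⟨fun x y h => ?_, fun ⟨c, d⟩ => ?_⟩
    · have e0 : suMat 3 F 3 x 0 0 = suMat 3 F 3 y 0 0 := congrArg (fun z => (z.1 : F)) h
      have e2 : suMat 3 F 3 x 2 2 = suMat 3 F 3 y 2 2 := congrArg (fun z => (z.2 : F)) h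
      have dx := hdet (mem_Cz.1 x.2.1) (mem_Cz.1 x.2.2)
      have dy := hdet (mem_Cz.1 y.2.1) (mem_Cz.1 y.2.2)
      have e1 : suMat 3 F 3 x 1 1 = suMat 3 F 3 y 1 1 := by
        rw [e0, e2, ← dy] at dx
        exact mul_left_cancel₀ (inv4 (norm_rr hF (cb.1 (mem_Cz.1 y.2.2))))
          (mul_right_cancel₀ (inv4 (norm_rr hF (ca.1 (mem_Cz.1 y.2.1)))) dx)
      refine Subtype.ext (hμ ?_)
      rw [eq_diag (ca.1 (mem_Cz.1 x.2.1)) (cb.1 (mem_Cz.1 x.2.2)),
        eq_diag (ca.1 (mem_Cz.1 y.2.1)) (cb.1 (mem_Cz.1 y.2.2))]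
      congr 1; ext i; fin_cases i
      exacts [e0, e1, e2]
    · have hc := inv4 c.2
      have hd := inv4 d.2
      refine ⟨⟨mkD hF ![c, (c * d : F)⁻¹, d] (fun i => ?_) (by simp; field_simp), mem_inf.2
        ⟨mem_Cz.2 (ca.2 (blk_diag _ _)), mem_Cz.2 (cb.2 (blk_diag _ _))⟩⟩, rfl⟩
      fin_cases i
      exacts [c.2, by simp only [Fin.mk_one, cons_val_one, cons_val_zero]; rw [inv_pow, mul_pow, c.2, d.2]; simp, d.2]
  · have n0 := norm_rr hF (cb.1 hx')
    have n2 := norm_rr hF (ca.1 hx)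
    have n1 : suMat 3 F 3 x 1 1 ^ (3 + 1) = 1 := by
      have := congrArg (· ^ (3 + 1)) (hdet hx hx')
      simpa only [mul_pow, n0, n2, one_mul, mul_one, one_pow] using this
    rw [map_pow, map_one, eq_diag (ca.1 hx) (cb.1 hx'), diagonal_pow, ← diagonal_one]
    congr 1; ext i; fin_cases i
    exacts [n0, n1, n2]
  · obtain ⟨i, hi0, hi⟩ := CL.SqField.exists_trace_zero hF
    obtain ⟨j, hj⟩ : ∃ j : F, j * j = -1 := ⟨i, mul_left_cancel₀ hi0 (by linear_combination hi)⟩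
    refine ⟨mkD hF ![1, j, -j] (fun l => ?_) (by simp; linear_combination -hj), ca.2 (blk_diag _ _),
      cb.2 (blk_diag _ _), hμ ?_⟩
    · fin_cases l <;> simp <;> linear_combination (j * j - 1) * hj
    · rw [map_mul, mat_mkD, hb, diagonal_mul_diagonal, dg]
      congr 1; ext l; fin_cases l <;> simp [hj]
  · have k1 : Nat.card K₁ = 24 := by
      rw [← Nat.card_congr e.toEquiv, Nat.card_congr e'.toEquiv, CL.SL.card_SL_two]; simp
    have hle : K₁ ≤ Cz a := fun z hz => mem_Cz.2 (ca.2 ((h1 z).1 hz).1)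
    set χ := (chi h2 hμ ha).toHomUnits with hχ
    have k2 : χ.ker = K₁.subgroupOf (Cz a) := by
      ext x
      rw [MonoidHom.mem_ker, mem_subgroupOf, h1, Units.ext_iff]
      exact ⟨fun h => ⟨ca.1 (mem_Cz.1 x.2), h⟩, fun h => h.2⟩
    have k3 : χ.range = rootsOfUnity (3 + 1) F := by
      ext c
      rw [mem_rootsOfUnity']
      constructor
      · rintro ⟨x, rfl⟩
        exact norm_rr hF (ca.1 (mem_Cz.1 x.2))
      · intro hc
        refine ⟨⟨mkD hF ![1, (c : F)⁻¹, c] (fun i => ?_) (by simp), mem_Cz.2 (ca.2 (blk_diag _ _))⟩, Units.ext rfl⟩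
        fin_cases i
        exacts [one_pow _, by simp only [Fin.mk_one, cons_val_one, cons_val_zero]; rw [inv_pow, hc, inv_one], hc]
    rw [← χ.ker.card_mul_index, index_ker, k2, k3, Nat.card_congr (subgroupOfEquivOfLe hle).toEquiv, k1,
      CL.SL.card_rootsOfUnity_field, Nat.card_eq_fintype_card, hF]
    norm_num
  · have hya : Commute y a := ca.2 ((h1 y).1 hy).1
    set X : Cz a := ⟨x, mem_Cz.2 hx⟩
    set Y : Cz a := ⟨y, mem_Cz.2 hya⟩
    have s := scal h3 (X := blk h2 hμ ha X) (Y := blk h2 hμ ha Y) (k := k)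
      (by rw [← map_pow, show Y ^ 3 = 1 from Subtype.ext (orderOf_dvd_iff_pow_eq_one.1 ho.dvd), map_one])
      (fun h => by
        have b0 := ((h1 y).1 hy).1 0 (by decide)
        have b1 := ((h1 y).1 hy).1 1 (by decide)
        have y00 : suMat 3 F 3 y 0 0 = 1 := congrFun (congrFun h 0) 0
        have y01 : suMat 3 F 3 y 0 1 = 0 := congrFun (congrFun h 0) 1
        have y10 : suMat 3 F 3 y 1 0 = 0 := congrFun (congrFun h 1) 0
        have y11 : suMat 3 F 3 y 1 1 = 1 := congrFun (congrFun h 1) 1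
        have : y = 1 := hμ (by
          rw [map_one]; ext i j
          fin_cases i <;> fin_cases j <;> simp [b0.1, b0.2, b1.1, b1.2, y00, y01, y10, y11, ((h1 y).1 hy).2])
        rw [this, orderOf_one] at ho
        omega)
      (by rw [← map_mul, ← map_mul]; exact congrArg _ (Subtype.ext hxy.eq))
      (by rw [← map_pow, show X ^ 2 ^ k = 1 from Subtype.ext hk, map_one])
    have x01 : suMat 3 F 3 x 0 1 = 0 := s.1
    have x10 : suMat 3 F 3 x 1 0 = 0 := s.2.1
    have x00 : suMat 3 F 3 x 0 0 = suMat 3 F 3 x 1 1 := s.2.2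
    have b0 := ca.1 hx 0 (by decide)
    have b1 := ca.1 hx 1 (by decide)
    have w0 := ca.1 hw 0 (by decide)
    have w1 := ca.1 hw 1 (by decide)
    refine hμ ?_
    rw [map_mul, map_mul]
    ext i j
    fin_cases i <;> fin_cases j <;>
      simp [mul_apply, Fin.sum_univ_three, b0.1, b0.2, b1.1, b1.2, w0.1, w0.2, w1.1, w1.2, x01, x10, x00, mul_comm]

end G3

open G3 in
theorem m3_SU {F : Type*} [Field F] [Fintype F] {q : ℕ} (hF : Fintype.card F = q ^ 2) (hq : Odd q) :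
    ∃ a b : SU 3 F q, M3 (ringChar F) a b (suBlock 3 F q {0, 1}) (suBlock 3 F q {1, 2}) ∧
      Nonempty (SU 2 F q ≃* suBlock 3 F q {0, 1}) ∧ Nonempty (SU 2 F q ≃* suBlock 3 F q {1, 2}) ∧
        (q = 3 → ringChar F = 3 ∧ U3 a b (suBlock 3 F q {0, 1})) := by
  classical
  have : Fact (ringChar F).Prime := ⟨CharP.char_is_prime F _⟩
  have hm : (-1 : F) ^ (q + 1) = 1 := hq.add_one.neg_one_pow
  rw [← range_g0, ← range_g1, CL.Chev.Phan.suBlock_eq hF, CL.Chev.Phan.suBlock_eq hF]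
  have h1 := mem_block hF (fun _ => not_mem_g0)
  have h0 := mem_block hF (fun _ => not_mem_g1)
  have e1 := MonoidHom.ofInjective (CL.Chev.Phan.emb_inj hF g0)
  have e0 := MonoidHom.ofInjective (CL.Chev.Phan.emb_inj hF g1)
  let _ : Fintype (CL.SqField.fixedSubfield hF) := Fintype.ofFinite _
  obtain ⟨e⟩ := CL.Uni.nonempty_SU_two_equiv hF (CL.SqField.card_fixedSubfield hF)
  have hd : ∀ r i : Fin 3, (if i = r then (1 : F) else -1) ^ (q + 1) = 1 := fun r i => by
    split_ifs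
    exacts [one_pow _, hm]
  have hpq : ringChar F ∣ q := (ringChar.spec F _).1 (CL.SqField.cast_q hF)
  refine ⟨mkD hF _ (hd 2) (by simp), mkD hF _ (hd 0) (by simp),
    m3_gen (μ := CL.Uni.suMat 3 F q) (K := CL.SqField.fixedSubfield hF) (two_ne (hF ▸ hq.pow))
      (CL.Uni.suMat_injective 3 F q) CL.Chev.Phan.det_mat
      (by rwa [← Nat.card_eq_fintype_card, CL.SqField.card_fixedSubfield]) rfl rfl h1 h0 (e.symm.trans e1)
      (e.symm.trans e0) ?_ (CL.Uni.commutator_SU hF le_rfl fun h => by rw [h.2] at hq; exact absurd hq (by decide)),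
    ⟨e1⟩, ⟨e0⟩, ?_⟩
  · rw [CL.Uni.card_center_SU hF (by norm_num)]
    rcases (Nat.dvd_prime Nat.prime_three).1 (Nat.gcd_dvd_left 3 (q + 1)) with h | h
    · exact Or.inl h
    refine Or.inr ⟨h, fun h3 => ?_⟩
    have h4 : 3 ∣ q + 1 := h ▸ Nat.gcd_dvd_right _ _
    rw [h3] at hpq
    omega
  · rintro rfl
    exact ⟨(Nat.prime_dvd_prime_iff_eq Fact.out Nat.prime_three).1 hpq,
      u3_SU hF (by exact_mod_cast CL.SqField.cast_q hF) rfl rfl h1 e1⟩

end CL.L5
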