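import Cfsg.Agent.INV.L5.U
import Cfsg.Agent.INV.TransferCtl

/-! # `U` is strongly closed

`υ a = τ (a, ψ a)`, `τ (a', b') = υ a' · κ (v)` with "`V`-part" `v = (ψ a')⁻¹ b'`.  `ρ` centralises `z₁ = υ z` (`WF.map_z`).
(a) If `c ∈ E' = C(z₁) ⊓ C(κ B)` and `(υ a)^c ∈ T` then `(υ a)^c ∈ U`: `P` is Sylow in `E'` (`sylP`), the transfer `E' → B` of `τ (a,b) ↦ b` is an odd power on the central
subgroup `κ B`, so `κ B ⊓ ⁅E', E'⁆ = ⊥`.  `f = (υ a)⁻¹ (υ a)^c = υ a₀ κ β ∈ P ⊓ ⁅E', E'⁆`, `ρ` normalises `E'`, so `f⁻¹ f^ρ = (κ β)⁻¹ (κ β)^ρ = 1` and `β = 1` (`ρ` has no fixed point on `κ B`).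
(b) `N_{C₁}(V) = T C_{C₁}(V)` (`norm_split`, `aut`).
(c) `y = (υ a)^g = υ a' κ z` is impossible: `two_sub` in `C₁ ⊓ C(y)` for `V^g` and `V`, `scV`: `ν g ∈ N(V)`, so `y = ((υ a)^t)^c` with `c ∈ C(V)`; (a).
(d) `V`-part conjugate to `e`: conjugate by `V` and `ρ⁻¹` to (c).  (e) Powers (`exists_pow`): a nontrivial `V`-part is a noncentral involution which is not a square, of the second
type in `typ`.  (f) `y = υ a' κ v` of this kind; `g₁` from `cls'` for `v`: `(υ a')^g₁ = υ a'' κ λ`, `y^g₁ = υ a'' κ (λ z)`; `λ = 1` contradicts (c), so `λ` is of the second type;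
`(κ z)^g₁ = κ a₁` is a square `≠ κ z`, so `a₁ ~ e`, and `λ` commutes with `a₁`, against `typ`.
`one`: `g` from `cls'` maps `U` into `T`, so normalises `U`; `norm_split` (`U ≅ W`): `g = t c`, `c ∈ C(U)`. -/

set_option autoImplicit false
set_option linter.unusedSectionVars false

namespace CL.L5

open Subgroup Cfsg CL.MSS CL.PComp

variable {G W : Type*} [Group G] [Finite G] [Group W] [Finite W] {τ : W × W →* G} {s ρ : G} {z e n i : W}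
  {ψ : W →* W}

theorem aut_range (w : WF z e n i) {f : W →* G} (hf : Function.Injective f) : IsPGroup 2 (MulAut f.range) :=
  w.aut.of_equiv (MulAut.congr (MonoidHom.ofInjective hf))

/-- `v` is the `V`-part of a conjugate of an element of `U`. -/
def Bad (τ : W × W →* G) (z : W) (ψ : W →* W) (v : W) : Prop :=
  ∃ a g a', Commute g (τ (z, 1)) ∧ g * τ (a, ψ a) * g⁻¹ = τ (a', ψ a' * v)

namespace PreU

variable (w : WF z e n i) (Γ : PreU τ s z e ψ ρ)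
include Γ

theorem cψ (x a : W) : Commute x (ψ a) := mem_center_iff.1 (Γ.ψc a) x

theorem ψ_conj (x a : W) : ψ (x * a * x⁻¹) = ψ a := by
  rw [map_mul, map_mul, map_inv, conj_eq_of_comm (Γ.cψ _ a)]

theorem bad_pow {v : W} (h : Bad τ z ψ v) (k : ℕ) : Bad τ z ψ (v ^ k) := by
  obtain ⟨a, g, a', hg, e1⟩ := h
  exact ⟨a ^ k, g, a' ^ k, hg, by
    rw [map_pow, map_pow, ← (Γ.cψ v a').symm.mul_pow, ← τ_pow, ← τ_pow, ← e1, conj_pow]⟩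

include w

theorem ψz : ψ z = 1 := w.map_z ψ fun _ b => Γ.cψ _ b

theorem ρ1 : Commute ρ (τ (z, 1)) := Γ.ψz w ▸ Γ.ρU z

theorem ρ_mem : ρ ∈ Nn τ z e := Γ.toGood.mem_Nn w (Γ.ρ1 w) fun a c hc => by
  obtain ⟨c', h1, e1⟩ := Γ.ρB ((ψ a)⁻¹ * c) ((Γ.cψ e a).symm.inv_left.mul_left hc)
  refine ⟨a, ψ a * c', (Γ.cψ e a).symm.mul_left h1, ?_⟩
  rw [show τ (a, c) = τ (a, ψ a) * τ (1, (ψ a)⁻¹ * c) by simp [τ_mul], ← conj_mul_conj, e1,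
    conj_eq_of_comm (Γ.ρU a), τ_mul, mul_one]

open scoped IsMulCommutative in
theorem scA {c : G} (h1 : Commute c (τ (z, 1))) (h2 : ∀ b, Commute b e → Commute c (τ (1, b))) {a a' b' : W}
    (h : c * τ (a, ψ a) * c⁻¹ = τ (a', b')) : b' = ψ a' := by
  have F := Γ.toFr
  have : IsMulCommutative (Cz e) := ⟨⟨fun a b => Subtype.ext (w.abB (mem_Cz.1 a.2) (mem_Cz.1 b.2))⟩⟩
  set E : Subgroup G := Cz (τ (z, 1)) ⊓ centralizer ((((⊥ : Subgroup W).prod (Cz e)).map τ : Subgroup G) : Set G)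
    with hE
  have mE : ∀ {x}, x ∈ E ↔ Commute x (τ (z, 1)) ∧ ∀ b, Commute b e → Commute x (τ (1, b)) :=
    ⟨fun h => ⟨mem_Cz.1 h.1, fun b hb =>
      Eq.symm (h.2 _ (mem_prod_map.2 ⟨1, one_mem _, b, mem_Cz.2 hb, rfl⟩))⟩, fun h => ⟨mem_Cz.2 h.1,
      fun y hy => by
        obtain ⟨a, ha, b, hb, rfl⟩ := mem_prod_map.1 hy
        rw [mem_bot.1 ha]; exact (h.2 b (mem_Cz.1 hb)).eq.symm⟩⟩
  have pE : ∀ a b, Commute b e → τ (a, b) ∈ E := fun a b hb => mE.2 ⟨mem_Cz.1 (w.T_le1 (τ_mem τ a b)),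
    fun b' hb' => τ_comm τ (Commute.one_right a) (w.abB hb hb')⟩
  have sP : SylIn 2 (((⊤ : Subgroup W).prod (Cz e)).map τ) E := (Γ.toGood.sylP w).of_le (fun x hx => by
      obtain ⟨a, -, b, hb, rfl⟩ := mem_prod_map.1 hx
      exact pE a b (mem_Cz.1 hb)) fun x hx => ⟨⟨hx.1, mem_Cz.2 ((mE.1 hx).2 z (w.zc e).symm)⟩,
    mem_Cz.2 ((mE.1 hx).2 e (Commute.refl e))⟩
  obtain ⟨α, β, h3⟩ := F.coords (E.subtype.comp ((((⊤ : Subgroup W).prod (Cz e)).map τ).subgroupOf E).subtype)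
    fun x => map_le_range τ _ x.2
  set φ := β.codRestrict (Cz e) fun x => by
    obtain ⟨a, -, b, hb, e1⟩ := mem_prod_map.1 x.2
    rw [(F.eq_iff.1 ((h3 x).symm.trans e1)).2]; exact hb
  have hv : ∀ b : Cz e, MonoidHom.transfer φ ⟨τ (1, b), pE 1 b (mem_Cz.1 b.2)⟩ =
      b ^ ((((⊤ : Subgroup W).prod (Cz e)).map τ).subgroupOf E).index := fun b => by
    have := CL.Iso.transfer_eq_pow_of_ctrl φ ⟨⟨τ (1, b), pE 1 b (mem_Cz.1 b.2)⟩,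
      mem_prod_map.2 ⟨1, mem_top _, b, b.2, rfl⟩⟩ fun k x hx => by
        rw [← map_pow]
        refine congrArg φ (Subtype.ext (Subtype.ext ?_))
        change (x : G)⁻¹ * τ (1, b) ^ k * x = τ (1, b) ^ k
        rw [mul_assoc, ← (((mE.1 x.2).2 b (mem_Cz.1 b.2)).pow_right k).eq, inv_mul_cancel_left]
    rw [this]
    congr 1
    exact Subtype.ext (F.eq_iff.1 (h3 ⟨⟨τ (1, b), pE 1 b (mem_Cz.1 b.2)⟩,
      mem_prod_map.2 ⟨1, mem_top _, b, b.2, rfl⟩⟩ : τ (1, b) = _)).2.symm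
  have hb : Commute ((ψ a')⁻¹ * b') e := (Γ.cψ e a').symm.inv_left.mul_left (F.comm_iff (a := a') (c := 1) |>.1 (by
    rw [← h]
    exact ((h2 e (Commute.refl e)).mul_left (τ_comm τ (Commute.one_right a) (Γ.cψ e a).symm)).mul_left
      (h2 e (Commute.refl e)).inv_left)).2
  obtain ⟨b'', hb', e1⟩ := Γ.ρB _ hb
  have m1 : ρ * c * ρ⁻¹ ∈ E := mE.2 ⟨((Γ.ρ1 w).mul_left h1).mul_left (Γ.ρ1 w).inv_left, fun b hb => by
    obtain ⟨b₁, h4, e2⟩ := Nn.B (inv_mem (Γ.ρ_mem w)) hb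
    have := comm_conj (h2 b₁ h4) ρ
    rwa [← e2, show ρ * (ρ⁻¹ * τ (1, b) * ρ⁻¹⁻¹) * ρ⁻¹ = τ (1, b) by group] at this⟩
  have k : ∀ x (hx : x ∈ E) (b : Cz e), x * τ (a, ψ a) * x⁻¹ = τ (a', ψ a') * τ (1, b) →
      MonoidHom.transfer φ ⟨_, pE a _ (Γ.cψ e a).symm⟩ = MonoidHom.transfer φ ⟨_, pE a' _ (Γ.cψ e a').symm⟩ *
        b ^ ((((⊤ : Subgroup W).prod (Cz e)).map τ).subgroupOf E).index := fun x hx b e2 => by
    rw [← hv, ← map_mul, ← mul_inv_cancel_comm (MonoidHom.transfer φ ⟨x, hx⟩) (MonoidHom.transfer φ _),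
      ← map_inv, ← map_mul, ← map_mul]
    exact congrArg _ (Subtype.ext e2)
  have e2 : c * τ (a, ψ a) * c⁻¹ = τ (a', ψ a') * τ (1, (ψ a')⁻¹ * b') := by rw [h, τ_mul]; simp
  have e3 := mul_left_cancel ((k c (mE.2 ⟨h1, h2⟩) ⟨_, mem_Cz.2 hb⟩ e2).symm.trans (k _ m1 ⟨_, mem_Cz.2 hb'⟩ (by
    calc _ = ρ * (c * (ρ⁻¹ * τ (a, ψ a) * ρ⁻¹⁻¹) * c⁻¹) * ρ⁻¹ := by group
      _ = _ := by rw [conj_eq_of_comm (Γ.ρU a).inv_left, e2, ← conj_mul_conj, e1, conj_eq_of_comm (Γ.ρU a')])))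
  obtain ⟨l, hl⟩ := IsPGroup.iff_card.1 (w.pg.to_subgroup (Cz e))
  have e4 : (ψ a')⁻¹ * b' = b'' := congrArg Subtype.val ((powCoprime (G := Cz e) (hl ▸ Nat.Coprime.pow_left l
    ((Nat.Prime.coprime_iff_not_dvd Nat.prime_two).2 sP.not_dvd_relIndex))).injective e3)
  rw [← e4] at e1
  exact (inv_mul_eq_one.1 (Γ.toGood.fpf w Γ.ρz Γ.ρe hb (comm_of_conj_eq e1))).symm

theorem normV {g : G} (hg : Commute g (τ (z, 1))) (h : ∀ b, g * τ (1, b) * g⁻¹ ∈ τ.range) :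
    g ∈ normalizer ((kap τ).range : Set G) := mem_normalizer_of_cj_le fun y hy => by
  obtain ⟨_, ⟨b, rfl⟩, rfl⟩ := mem_cj'.1 hy
  obtain ⟨a', b', e1⟩ := mem_T.1 (h b)
  exact mem_V.2 ⟨b', Γ.scV b g hg a' b' e1 ▸ e1⟩

theorem scC {v : W} (h : Bad τ z ψ v) (hv : v ∈ center W) : v = 1 := by
  have F := Γ.toFr
  obtain ⟨a, g, a', hg, e1⟩ := h
  have cz : ∀ a c, Commute (τ (a, c)) (τ (z, 1)) := fun a c => mem_Cz.1 (w.T_le1 (τ_mem τ a c))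
  have pV : IsPGroup 2 (kap τ).range := F.pgT.to_le fun x ⟨b, hb⟩ => hb ▸ τ_mem τ 1 b
  obtain ⟨ν, hν, k, hk, hP, hQ⟩ := two_sub (F.sylT w) (N := Cz (τ (z, 1)) ⊓ Cz (τ (a', ψ a' * v))) inf_le_left
    (isPGroup_cj g pV) pV (fun x hx => by
      obtain ⟨_, ⟨b, rfl⟩, rfl⟩ := mem_cj'.1 hx
      exact ⟨mem_Cz.2 ((hg.mul_left (cz 1 b)).mul_left hg.inv_left),
        mem_Cz.2 (e1 ▸ comm_conj (τ_comm τ (Commute.one_left a) (Γ.cψ b a)) g)⟩) (by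
      rintro _ ⟨b, rfl⟩
      exact ⟨mem_Cz.2 (cz 1 b), mem_Cz.2 (τ_comm τ (Commute.one_left a')
        ((Γ.cψ b a').mul_right (mem_center_iff.1 hv b)))⟩)
  have m1 := Γ.normV w (((mem_Cz.1 hk).mul_left (mem_Cz.1 hν.1)).mul_left hg) fun b => by
    simpa [mul_assoc] using hP _ (conj_mem_cj (mem_V.2 ⟨b, rfl⟩))
  have m2 := Γ.normV w (mem_Cz.1 hk) fun b => hQ _ (mem_V.2 ⟨b, rfl⟩)
  obtain ⟨t, ht, c, hc, h1, e2⟩ := norm_split (F.sylT w) (fun x hx => Γ.normV w (mem_Cz.1 (w.T_le1 hx))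
    fun b => mul_mem (mul_mem hx (τ_mem τ 1 b)) (inv_mem hx)) (aut_range w F.kap_inj) (g := ν * g)
    (mul_mem hν.1 (mem_Cz.2 hg)) (by simpa [mul_assoc] using mul_mem (inv_mem m2) m1)
  obtain ⟨p, q, rfl⟩ := mem_T.1 ht
  have e3 : c * τ (a, ψ a) * c⁻¹ = (τ (p, q))⁻¹ * τ (a', ψ a' * v) * (τ (p, q))⁻¹⁻¹ := by
    rw [← conj_eq_of_comm (mem_Cz.1 hν.2), ← e1]
    calc _ = (τ (p, q))⁻¹ * (τ (p, q) * c * τ (a, ψ a) * (τ (p, q) * c)⁻¹) * (τ (p, q))⁻¹⁻¹ := by group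
      _ = _ := by rw [← e2]; group
  rw [τ_inv, τ_conj, conj_eq_of_comm ((Γ.cψ _ a').mul_right (mem_center_iff.1 hv _))] at e3
  have := Γ.scA w (mem_Cz.1 hc) (fun b _ => h1 _ (mem_V.2 ⟨b, rfl⟩)) e3
  rwa [Γ.ψ_conj, mul_eq_left] at this

theorem scD {v y : W} (h : Bad τ z ψ v) (hy : y * v * y⁻¹ = e) : False := by
  obtain ⟨a, g, a', hg, e1⟩ := h
  refine w.z_ne (Γ.scC w ⟨a, ρ⁻¹ * τ (1, y) * g, a', ((Γ.ρ1 w).inv_left.mul_left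
    (mem_Cz.1 (w.T_le1 (τ_mem τ 1 y)))).mul_left hg, ?_⟩ w.z_cen)
  calc _ = ρ⁻¹ * (τ (1, y) * (g * τ (a, ψ a) * g⁻¹) * (τ (1, y))⁻¹) * ρ := by group
    _ = ρ⁻¹ * (ρ * τ (a', ψ a') * ρ⁻¹ * (ρ * τ (1, z) * ρ⁻¹)) * ρ := by
      rw [e1, τ_conj, ← conj_mul_conj y, hy, conj_eq_of_comm (Γ.cψ y a'), Γ.ρz, conj_eq_of_comm (Γ.ρU a'), τ_mul]
      simp
    _ = τ (a', ψ a') * τ (1, z) := by group
    _ = _ := by rw [τ_mul, mul_one]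

theorem scE {v : W} (h : Bad τ z ψ v) (h1 : v ≠ 1) : ∃ k : ℕ, v ^ k ≠ 1 ∧ v ^ k * v ^ k = 1 ∧
    (∃ ζ ∈ center W, ζ * ζ = z) ∧ ∀ y, ¬ Commute (v ^ k) (y * e * y⁻¹) := by
  obtain ⟨j, j1, j2⟩ := w.exists_pow h1
  rcases w.typ _ (fun hc => j1 (Γ.scC w (Γ.bad_pow h _) hc)) j2 with ⟨y, hy⟩ | ⟨k1, -, k2⟩
  exacts [(Γ.scD w (Γ.bad_pow h _) hy).elim, ⟨_, j1, j2, k1, k2⟩]

theorem scF {v : W} (h : Bad τ z ψ v) : v = 1 := by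
  have F := Γ.toFr
  by_contra h1
  obtain ⟨k, v1, v2, ⟨ζ, hζ, ζ2⟩, -⟩ := Γ.scE w h h1
  obtain ⟨a, g, a', hg, e1⟩ := Γ.bad_pow h k
  generalize v ^ k = u at v1 v2 e1
  obtain ⟨g₁, hg₁, e2, h2⟩ := Γ.toGood.cls' w v2 v1
  obtain ⟨a'', b'', e3⟩ := mem_T.1 (h2 a' (ψ a') (Γ.cψ u a').symm)
  have b1 : Bad τ z ψ ((ψ a'')⁻¹ * b'') := ⟨a', g₁, a'', hg₁, by rw [e3, mul_inv_cancel_left]⟩
  have l1 : (ψ a'')⁻¹ * b'' ≠ 1 := fun e4 => w.z_ne (Γ.scC w ⟨a, g₁ * g, a'', hg₁.mul_left hg, by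
    calc _ = g₁ * (g * τ (a, ψ a) * g⁻¹) * g₁⁻¹ := by group
      _ = g₁ * (τ (a', ψ a') * τ (1, u)) * g₁⁻¹ := by rw [e1, τ_mul, mul_one]
      _ = _ := by rw [← conj_mul_conj, e3, e2, τ_mul, mul_one, inv_mul_eq_one.1 e4]⟩ w.z_cen)
  obtain ⟨l, -, -, -, h3⟩ := Γ.scE w b1 l1
  obtain ⟨a₀, b₁, e4⟩ := mem_T.1 (h2 1 ζ (mem_center_iff.1 hζ u).symm)
  obtain rfl := Γ.scV ζ g₁ hg₁ _ _ e4
  have e5 : g₁ * τ (1, z) * g₁⁻¹ = τ (1, b₁ * b₁) := by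
    rw [← ζ2, ← one_mul (1 : W), ← τ_mul, ← conj_mul_conj, e4, τ_mul]
  have a2 : b₁ * b₁ * (b₁ * b₁) = 1 := (F.eq_one_iff.1 (by
    rw [← τ_mul, ← e5, conj_mul_conj, τ_mul, w.z_sq, mul_one, τ_one, mul_one, mul_inv_cancel])).2
  have hc : b₁ * b₁ ∉ center W := fun hc => by
    rcases w.z_uniq _ hc a2 with k | k <;> rw [k] at e5
    · exact w.z_ne (F.eq_one_iff.1 (conj_eq_one_iff.1 (e5.trans (τ_one τ)))).2
    · have e6 := (F.eq_iff.1 (mul_left_cancel (mul_right_cancel (e2.trans e5.symm)))).2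
      exact w.z_ne (Γ.scC w ⟨a, g, a', hg, e6 ▸ e1⟩ w.z_cen)
  rcases w.typ _ hc a2 with ⟨y, hy⟩ | ⟨-, k, -⟩
  · refine h3 y⁻¹ (Commute.pow_left ?_ l)
    rw [← hy, show y⁻¹ * (y * (b₁ * b₁) * y⁻¹) * y⁻¹⁻¹ = b₁ * b₁ by group]
    refine (Γ.cψ _ a'').symm.inv_left.mul_left (F.comm_iff (a := a'') (c := 1) |>.1 ?_).2
    rw [← e3, ← e5]
    exact comm_conj (mem_Cz.1 (w.T_le2 (τ_mem τ _ _))) g₁
  · exact k b₁ rfl

end PreU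

theorem PreU.pre (w : WF z e n i) (Γ : PreU τ s z e ψ ρ) : Pre τ s z e ψ ρ := by
  have F := Γ.toFr
  have sc : ∀ a g, Commute g (τ (z, 1)) → ∀ a' b', g * τ (a, ψ a) * g⁻¹ = τ (a', b') → b' = ψ a' :=
    fun a g hg a' b' h => (inv_mul_eq_one.1 (Γ.scF w ⟨a, g, a', hg, by rw [h, mul_inv_cancel_left]⟩)).symm
  refine ⟨Γ, sc, fun b b2 b1 => ?_⟩
  obtain ⟨g, hg, e1, h1⟩ := Γ.toGood.cls' w b2 b1
  set υ : W →* G := τ.comp ((MonoidHom.id W).prod ψ) with hυ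
  have nU : ∀ x, Commute x (τ (z, 1)) → (∀ a, x * τ (a, ψ a) * x⁻¹ ∈ τ.range) →
      x ∈ normalizer (υ.range : Set G) := fun x hx h => mem_normalizer_of_cj_le fun y hy => by
    obtain ⟨_, ⟨a, rfl⟩, rfl⟩ := mem_cj'.1 hy
    obtain ⟨a', b', e2⟩ := mem_T.1 (h a)
    exact ⟨a', (sc a x hx a' b' e2 ▸ e2).symm⟩
  obtain ⟨t, ht, c, -, h2, rfl⟩ := norm_split (F.sylT w) (fun x hx => nU x (mem_Cz.1 (w.T_le1 hx))
    fun a => mul_mem (mul_mem hx (τ_mem τ _ _)) (inv_mem hx))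
    (aut_range w fun a b h => (F.eq_iff.1 h).1) (mem_Cz.2 hg) (nU g hg fun a => h1 a _ (Γ.cψ b a).symm)
  refine ⟨c, fun a => h2 _ ⟨a, rfl⟩, ?_⟩
  rw [← conj_eq_of_comm (mem_Cz.1 (w.T_le2 (inv_mem ht))), ← e1]
  group

end CL.L5
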