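import Cfsg.Agent.INV.L5.SplitA
import Cfsg.Agent.INV.TransferCtl
import Cfsg.Agent.S0215

/-! # Groups with a Sylow 2-subgroup `⟨c⟩ × W` -/

set_option autoImplicit false

namespace CL.L5

open Subgroup Cfsg CL.MSS CL.PComp

universe u

variable {W : Type*} [Group W] [Finite W] {z e n i : W}

/-- `R = ⟨c⟩ × κ W` Sylow, `c₀` an involution of `⟨c⟩`: `c₀` or `c₀ κ z` is isolated. -/
theorem key (w : WF z e n i) {X : Type u} [Group X] [Finite X] {κ : W →* X} (hκ : Function.Injective κ)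
    {c c₀ : X} (hc : ∀ a, Commute c (κ a)) (hd : ∀ (j : ℕ) a, c ^ j = κ a → a = 1)
    (hR : SylIn 2 (zpowers c ⊔ κ.range) ⊤) (h0 : c₀ ∈ zpowers c) (h2 : orderOf c₀ = 2) :
    (∀ g, g * c₀ * g⁻¹ ∈ zpowers c ⊔ κ.range → g * c₀ * g⁻¹ = c₀) ∨
      ∀ g, g * (c₀ * κ z) * g⁻¹ ∈ zpowers c ⊔ κ.range → g * (c₀ * κ z) * g⁻¹ = c₀ * κ z :=
  Sp.key' w ⟨hκ, hc, hd⟩ hR h0 h2

namespace Sp

section chg

variable {X : Type*} [Group X] [Finite X] {κ : W →* X} {c : X} (D : DP κ c) {ζ : W} (hζ : ζ ∈ center W)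
  (ho : ζ ^ orderOf c = 1)
include D

omit [Finite W] [Finite X] in
theorem DP.pw (ζ : W) (j : ℕ) : (c * κ ζ) ^ j = c ^ j * κ (ζ ^ j) := by rw [(D.cm ζ).mul_pow, map_pow]

omit [Finite W] [Finite X] in
theorem DP.sup_eq (ζ : W) : zpowers (c * κ ζ) ⊔ κ.range = zpowers c ⊔ κ.range := by
  refine le_antisymm (sup_le (zpowers_le.2 (D.mem' (mem_zpowers c) ζ)) le_sup_right)
    (sup_le (zpowers_le.2 ?_) le_sup_right)
  simpa using mul_mem (mem_sup_left (T := κ.range) (mem_zpowers (c * κ ζ))) (mem_sup_right ⟨ζ⁻¹, rfl⟩)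

include hζ ho

omit [Finite W] in
theorem DP.chg : DP κ (c * κ ζ) := by
  refine ⟨D.inj, fun a => (D.cm a).mul_left (Commute.map (mem_center_iff.1 hζ a).symm κ), fun j a h => ?_⟩
  rw [D.pw] at h
  obtain ⟨h1, h2⟩ := D.uniq (pow_mem (mem_zpowers c) j) (one_mem _) (h.trans (one_mul _).symm)
  obtain ⟨k, rfl⟩ := orderOf_dvd_of_pow_eq_one h1
  rw [← h2, pow_mul, ho, one_pow]

omit [Finite W] hζ in
theorem DP.ord : orderOf (c * κ ζ) = orderOf c := by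
  refine Nat.dvd_antisymm (orderOf_dvd_of_pow_eq_one ?_) (orderOf_dvd_of_pow_eq_one ?_)
  · rw [D.pw, ho, pow_orderOf_eq_one, map_one, mul_one]
  · have h := pow_orderOf_eq_one (c * κ ζ)
    rw [D.pw] at h
    exact (D.uniq (pow_mem (mem_zpowers c) _) (one_mem _) (b := 1) (by rw [h, map_one, mul_one])).1

end chg

/-- the conclusion of `split`. -/
def Cn {X : Type*} [Group X] (κ : W →* X) (c : X) : Prop :=
  ∃ ζ ∈ center W, ζ ^ orderOf c = 1 ∧ ∀ (j : ℕ) g,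
    g * (c * κ ζ) ^ j * g⁻¹ ∈ zpowers c ⊔ κ.range → g * (c * κ ζ) ^ j * g⁻¹ = (c * κ ζ) ^ j

omit [Finite W] in
theorem iso_step {X : Type u} [Group X] [Finite X] {κ : W →* X} {c : X} (D : DP κ c)
    (hR : SylIn 2 (zpowers c ⊔ κ.range) ⊤) {m : ℕ} (hm : orderOf c = 2 ^ (m + 1))
    (hi : ∀ g, g * c ^ 2 ^ m * g⁻¹ ∈ zpowers c ⊔ κ.range → g * c ^ 2 ^ m * g⁻¹ = c ^ 2 ^ m)
    (ih : ∀ (Y : Type u) [Group Y] [Finite Y] (κ' : W →* Y) (c' : Y), DP κ' c' →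
      SylIn 2 (zpowers c' ⊔ κ'.range) ⊤ → orderOf c' ∣ 2 ^ m → Cn κ' c') : Cn κ c := by
  set t := c ^ 2 ^ m with ht
  have tm : t ∈ zpowers c := pow_mem (mem_zpowers c) _
  have t2 : orderOf t = 2 := by
    rw [ht, orderOf_pow_of_dvd (by positivity) (hm ▸ pow_dvd_pow 2 (Nat.le_succ m)), hm, pow_succ,
      Nat.mul_div_cancel_left _ (by positivity)]
  have tt : t * t = 1 := by rw [← pow_two, ← t2, pow_orderOf_eq_one]
  obtain ⟨N₀, hN₀, hodd, hcm⟩ := Cfsg.Agent.S0215.result hR.toSylowTop t t2 (mem_sup_left tm) hi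
  have hcen : ∀ q : X ⧸ N₀, q * (t : X ⧸ N₀) = t * q := fun q => by
    obtain ⟨g, rfl⟩ := QuotientGroup.mk_surjective q
    have := (QuotientGroup.eq_one_iff _).2 (hcm g)
    simp only [QuotientGroup.mk_mul, QuotientGroup.mk_inv] at this
    rw [mul_inv_eq_one, mul_inv_eq_iff_eq_mul] at this
    exact this.symm
  have hn : (zpowers (t : X ⧸ N₀)).Normal := ⟨fun x ⟨k, hk⟩ q => by
    rw [← hk, (Commute.zpow_right (hcen q) k).eq, mul_inv_cancel_right]; exact ⟨k, rfl⟩⟩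
  set N := (zpowers (t : X ⧸ N₀)).comap (QuotientGroup.mk' N₀) with hN
  have hNn : N.Normal := hn.comap _
  have tN : t ∈ N := mem_zpowers _
  have hRN : ∀ x ∈ zpowers c ⊔ κ.range, x ∈ N → x = 1 ∨ x = t := fun x hx ⟨k, hk⟩ => by
    have h1 : (t ^ k)⁻¹ * x ∈ N₀ := QuotientGroup.eq.1 (by simpa using hk)
    have h2 : (t ^ k)⁻¹ * x ∈ zpowers c ⊔ κ.range := mul_mem (inv_mem (mem_sup_left (zpow_mem tm k))) hx
    obtain ⟨l, hl⟩ := hR.pgroup ⟨_, h2⟩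
    have h3 := eq_one_of_odd_of_two (hodd.of_dvd_nat (orderOf_dvd_natCard _ h1)) (congrArg Subtype.val hl)
    rw [← inv_mul_eq_one.1 h3]
    exact inv_uniq t2 (mem_zpowers t) ⟨k, rfl⟩ (by rw [← (Commute.refl t).mul_zpow, tt, one_zpow])
  have hRN' : ∀ x ∈ zpowers c ⊔ κ.range, x ∈ N → x ∈ zpowers c := fun x hx h => by
    rcases hRN x hx h with rfl | rfl
    exacts [one_mem _, tm]
  set π := QuotientGroup.mk' N with hπ
  have D' : DP (π.comp κ) (π c) := by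
    refine ⟨(injective_iff_map_eq_one _).2 fun a ha => ?_, fun a => (D.cm a).map π, fun j a h => ?_⟩
    · exact D.dj' (hRN' _ (mem_sup_right ⟨a, rfl⟩) ((QuotientGroup.eq_one_iff _).1 ha)) rfl
    · rw [← map_pow] at h
      have h1 := hRN' _ (D.mem' (inv_mem (pow_mem (mem_zpowers c) j)) a) (QuotientGroup.eq.1 h)
      exact D.dj' (by simpa using mul_mem (pow_mem (mem_zpowers c) j) h1) rfl
  have hmap : (zpowers c ⊔ κ.range).map π = zpowers (π c) ⊔ (π.comp κ).range := by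
    rw [Subgroup.map_sup, MonoidHom.map_zpowers, MonoidHom.map_range]
  have hR' : SylIn 2 (zpowers (π c) ⊔ (π.comp κ).range) ⊤ := by
    have := hR.map π
    rwa [hmap, map_top_of_surjective _ (QuotientGroup.mk'_surjective N)] at this
  have ho : orderOf (π c) ∣ 2 ^ m :=
    orderOf_dvd_of_pow_eq_one (by rw [← map_pow]; exact (QuotientGroup.eq_one_iff _).2 tN)
  obtain ⟨ζ, hζ, hζ1, h⟩ := ih _ _ _ D' hR' ho
  have hζ2 : ζ ^ orderOf c = 1 := by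
    obtain ⟨k, hk⟩ := orderOf_map_dvd π c
    rw [hk, pow_mul, hζ1, one_pow]
  refine ⟨ζ, hζ, hζ2, fun j g hg => ?_⟩
  have hy : (c * κ ζ) ^ j ∈ zpowers c ⊔ κ.range := pow_mem (D.mem' (mem_zpowers c) ζ) j
  have h1 : π (g * (c * κ ζ) ^ j * g⁻¹) = π ((c * κ ζ) ^ j) := by
    have := h j (π g) (by
      rw [← hmap]; exact ⟨_, hg, by simp only [map_mul, map_inv, map_pow, MonoidHom.comp_apply]⟩)
    simpa only [map_mul, map_inv, map_pow, MonoidHom.comp_apply] using this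
  rcases hRN _ (mul_mem (inv_mem hy) hg) (QuotientGroup.eq.1 h1.symm) with k | k
  · exact (inv_mul_eq_one.1 k).symm
  exfalso
  have cy : ∀ x ∈ zpowers c ⊔ κ.range, x * (c * κ ζ) ^ j = (c * κ ζ) ^ j * x := by
    rw [D.pw]; exact D.cen (pow_mem (mem_zpowers c) j) (pow_mem hζ j)
  have ct : ∀ x ∈ zpowers c ⊔ κ.range, x * t = t * x := by simpa using D.cen tm (one_mem _)
  obtain ⟨g', hg', e1⟩ := CL.P2.conj_norm hR.toSylowTop cy (c := (c * κ ζ) ^ j * t) (fun x hx => by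
    rw [← mul_assoc, cy x hx, mul_assoc, ct x hx, mul_assoc]) (isConj_of_eq (inv_mul_eq_iff_eq_mul.1 k))
  have e2 := hi g' (CL.P2.norm_mem hg' (mem_sup_left tm))
  have := CL.P2.odd_act hR.toSylowTop hg' cy (by rw [e1, ← conj_mul_conj, e1, e2, mul_assoc, tt, mul_one])
  rw [e1, mul_eq_left] at this
  rw [this, orderOf_one] at t2
  omega

theorem split' (w : WF z e n i) (m : ℕ) : ∀ (X : Type u) [Group X] [Finite X] (κ : W →* X) (c : X), DP κ c →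
    SylIn 2 (zpowers c ⊔ κ.range) ⊤ → orderOf c ∣ 2 ^ m → (∃ ζ ∈ center W, 2 ^ m ∣ orderOf ζ) → Cn κ c := by
  induction m with
  | zero =>
    intro X _ _ κ c _ _ h _
    rw [pow_zero, Nat.dvd_one, orderOf_eq_one_iff] at h
    exact ⟨1, one_mem _, one_pow _, fun j g _ => by simp [h]⟩
  | succ m ih =>
    intro X _ _ κ c D hR h ⟨ζ, hζ, hd⟩
    have hd' : ∃ ζ ∈ center W, 2 ^ m ∣ orderOf ζ := ⟨ζ, hζ, (pow_dvd_pow 2 (Nat.le_succ m)).trans hd⟩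
    by_cases h1 : orderOf c ∣ 2 ^ m
    · exact ih X κ c D hR h1 hd'
    have hm : orderOf c = 2 ^ (m + 1) := Nat.eq_prime_pow_of_dvd_least_prime_pow Nat.prime_two h1 h
    have ih' := fun (Y : Type u) [Group Y] [Finite Y] (κ' : W →* Y) (c' : Y) (D' : DP κ' c') a b =>
      ih Y κ' c' D' a b hd'
    have t2 : orderOf (c ^ 2 ^ m) = 2 := by
      rw [orderOf_pow_of_dvd (by positivity) (hm ▸ pow_dvd_pow 2 (Nat.le_succ m)), hm, pow_succ,
        Nat.mul_div_cancel_left _ (by positivity)]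
    rcases key' w D hR (pow_mem (mem_zpowers c) (2 ^ m)) t2 with k | k
    · exact iso_step D hR hm k ih'
    obtain ⟨l, hl⟩ := hd
    have l0 : 0 < l := Nat.pos_of_ne_zero fun h0 => (orderOf_pos ζ).ne' (by rw [hl, h0, mul_zero])
    have o1 : orderOf (ζ ^ l) = 2 ^ (m + 1) := by
      rw [orderOf_pow_of_dvd l0.ne' (hl ▸ dvd_mul_left _ _), hl, Nat.mul_div_cancel _ l0]
    have c1 : ζ ^ l ∈ center W := pow_mem hζ l
    have p1 : (ζ ^ l) ^ orderOf c = 1 := by rw [hm, ← o1, pow_orderOf_eq_one]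
    have e1 : (ζ ^ l) ^ 2 ^ m = z := by
      refine (w.z_uniq _ (pow_mem c1 _) (by rw [← pow_two, ← pow_mul, ← pow_succ, ← hm, p1])).resolve_left
        fun h0 => ?_
      have := Nat.le_of_dvd (by positivity) (o1 ▸ orderOf_dvd_of_pow_eq_one h0)
      rw [pow_succ] at this
      have : 0 < 2 ^ m := by positivity
      omega
    obtain ⟨ζ₂, c2, p2, h3⟩ := iso_step (D.chg c1 p1) ((D.sup_eq (ζ ^ l)).symm ▸ hR) ((D.ord p1).trans hm)
      (by rw [D.pw, e1, D.sup_eq (ζ ^ l)]; exact k) ih'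
    rw [D.ord p1] at p2
    rw [D.sup_eq (ζ ^ l), mul_assoc, ← map_mul] at h3
    exact ⟨_, mul_mem c1 c2, by
      rw [Commute.mul_pow (mem_center_iff.1 c2 _), p1, p2, mul_one], h3⟩

end Sp

/-- some generator `c κ ζ` of a complement to `κ W` has all its powers isolated. -/
theorem split (w : WF z e n i) {X : Type u} [Group X] [Finite X] {κ : W →* X} (hκ : Function.Injective κ)
    {c : X} (hc : ∀ a, Commute c (κ a)) (hd : ∀ (j : ℕ) a, c ^ j = κ a → a = 1)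
    (hR : SylIn 2 (zpowers c ⊔ κ.range) ⊤) (hζ : ∃ ζ ∈ center W, orderOf c ∣ orderOf ζ) :
    ∃ ζ ∈ center W, ζ ^ orderOf c = 1 ∧ ∀ (j : ℕ) g,
      g * (c * κ ζ) ^ j * g⁻¹ ∈ zpowers c ⊔ κ.range → g * (c * κ ζ) ^ j * g⁻¹ = (c * κ ζ) ^ j := by
  obtain ⟨m, hm⟩ := IsPGroup.iff_orderOf.1 hR.pgroup ⟨c, mem_sup_left (mem_zpowers c)⟩
  rw [orderOf_mk] at hm
  exact Sp.split' w m X κ c ⟨hκ, hc, hd⟩ hR hm.dvd (hm ▸ hζ)

open scoped IsMulCommutative in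
/-- the transfer to `⟨c κ ζ⟩`. -/
theorem split_hom (w : WF z e n i) {X : Type u} [Group X] [Finite X] {κ : W →* X}
    (hκ : Function.Injective κ) {c : X} (hc : ∀ a, Commute c (κ a)) (hd : ∀ (j : ℕ) a, c ^ j = κ a → a = 1)
    (hR : SylIn 2 (zpowers c ⊔ κ.range) ⊤) (hζ : ∃ ζ ∈ center W, orderOf c ∣ orderOf ζ) :
    ∃ (μ : W →* X) (K : Subgroup X), K.Normal ∧ (∀ a, ∃ j : ℕ, ∃ ζ ∈ center W, μ a = c ^ j * κ ζ) ∧
      (∀ a, κ a * μ a ∈ K) ∧ (∀ x ∈ K, x ∈ zpowers c ⊔ κ.range → ∃ a, x = κ a * μ a) ∧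
      ∀ x, ∃ k ∈ K, ∃ j : ℕ, ∃ ζ ∈ center W, x = k * (c ^ j * κ ζ) := by
  obtain ⟨ζ, hζc, hζ1, hiso⟩ := split w hκ hc hd hR hζ
  have D₀ : Sp.DP κ c := ⟨hκ, hc, hd⟩
  have D := D₀.chg hζc hζ1
  have hpw : ∀ u ∈ zpowers (c * κ ζ), ∃ j : ℕ, ∃ ζ ∈ center W, u = c ^ j * κ ζ := fun u hu => by
    obtain ⟨j, rfl⟩ := Sp.exists_nat hu
    exact ⟨j, _, pow_mem hζc j, D₀.pw ζ j⟩
  rw [← D₀.sup_eq ζ] at hR hiso ⊢
  generalize c * κ ζ = d at *
  have h1 : ∀ r : ↥(zpowers d ⊔ κ.range), ∃ u : zpowers d, ∃ a, (r : X) = u * κ a := fun r => by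
    obtain ⟨u, hu, a, h⟩ := D.mem.1 r.2
    exact ⟨⟨u, hu⟩, a, h⟩
  choose p q hpq using h1
  let φ : ↥(zpowers d ⊔ κ.range) →* zpowers d := MonoidHom.mk' p fun r s => Subtype.ext
    (D.uniq (p _).2 (mul_mem (p r).2 (p s).2) (a := q (r * s)) (b := q r * q s) (by
      rw [← hpq, ← D.mul (p s).2, ← hpq, ← hpq, coe_mul])).1
  have hφ : ∀ (u : zpowers d) (h : (u : X) ∈ zpowers d ⊔ κ.range), φ ⟨u, h⟩ = u := fun u h => Subtype.ext
    (D.uniq (p _).2 u.2 (a := q ⟨u, h⟩) (b := 1) (by rw [← hpq, map_one, mul_one])).1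
  set v := MonoidHom.transfer φ with hv
  set m := (zpowers d ⊔ κ.range).index with hm
  have hvu : ∀ u : zpowers d, v u = u ^ m := fun u => by
    have := CL.Iso.transfer_eq_pow_of_ctrl φ ⟨u, mem_sup_left u.2⟩ fun k a h => by
      obtain ⟨j, hj⟩ := Sp.exists_nat (pow_mem u.2 k)
      have h2 := hiso j a⁻¹ (by rw [hj, inv_inv]; exact h)
      rw [hj, inv_inv] at h2
      rw [← map_pow]
      exact congrArg φ (Subtype.ext h2)
    rwa [hφ] at this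
  have hmo : ¬ 2 ∣ m := by simpa using hR.not_dvd_relIndex
  obtain ⟨k, hk⟩ := IsPGroup.iff_card.1 (hR.pgroup.to_le (le_sup_left : zpowers d ≤ _))
  have hco : (Nat.card (zpowers d)).Coprime m := by
    rw [hk]; exact Nat.Coprime.pow_left k ((Nat.Prime.coprime_iff_not_dvd Nat.prime_two).2 hmo)
  let σ : zpowers d ≃* zpowers d := MulEquiv.ofBijective (powMonoidHom m) (powCoprime hco).bijective
  have hσ : ∀ u : zpowers d, v u = σ u := hvu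
  let μ₀ : W →* zpowers d := (invMonoidHom.comp σ.symm.toMonoidHom).comp (v.comp κ)
  have hμ : ∀ a, μ₀ a = (σ.symm (v (κ a)))⁻¹ := fun _ => rfl
  refine ⟨(zpowers d).subtype.comp μ₀, v.ker, inferInstance, fun a => hpw _ (μ₀ a).2, fun a => ?_,
    fun x hx hxR => ?_, fun x => ?_⟩
  · change v (κ a * (μ₀ a : X)) = 1
    rw [map_mul, hσ, hμ, map_inv, MulEquiv.apply_symm_apply, mul_inv_cancel]
  · obtain ⟨u, hu, a, rfl⟩ := D.mem.1 hxR
    refine ⟨a, ?_⟩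
    have h3 : σ ⟨u, hu⟩ * v (κ a) = 1 := by rw [← hσ, ← map_mul]; exact hx
    have h4 : μ₀ a = ⟨u, hu⟩ := by
      rw [hμ, eq_inv_of_mul_eq_one_right h3, map_inv, inv_inv, MulEquiv.symm_apply_apply]
    change _ = κ a * (μ₀ a : X)
    rw [h4]; exact (D.cm' hu a).eq
  · obtain ⟨j, ζ', h3, h4⟩ := hpw _ (σ.symm (v x)).2
    refine ⟨x * ((σ.symm (v x) : zpowers d) : X)⁻¹, ?_, j, ζ', h3, by rw [← h4, inv_mul_cancel_right]⟩
    rw [MonoidHom.mem_ker, map_mul, map_inv, hσ, MulEquiv.apply_symm_apply, mul_inv_cancel]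

namespace Sp

theorem cyc_step {X : Type*} [Group X] [Finite X] {R H Y : Subgroup X} (hR : SylIn 2 R H) (hY : Y ≤ R)
    (sc : ∀ y ∈ Y, ∀ g ∈ H, g * y * g⁻¹ ∈ R → g * y * g⁻¹ ∈ Y) {a : X} (ha : a ∈ R)
    (hgen : ∀ r ∈ R, ∃ k : ℕ, ∃ y ∈ Y, r = a ^ k * y) {m : ℕ} (h0 : a ^ 2 ^ m ∉ Y)
    (h1 : a ^ 2 ^ (m + 1) ∈ Y) :
    ∃ H₁ ≤ H, H ≤ normalizer (H₁ : Set X) ∧ (∀ x ∈ H, x ^ 2 ∈ H₁) ∧ Y ≤ H₁ ∧ a ∉ H₁ := by
  classical
  have hn : (Y.subgroupOf R).Normal := ⟨fun y hy g => sc _ hy _ (hR.le g.2) (g * y * g⁻¹).2⟩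
  have key : ∀ (k : ℕ) (y) (_ : y ∈ Y), (a ^ k * y) ^ 2 ^ m ∈ Y ↔ Even k := fun k y hy => by
    set π := QuotientGroup.mk' (Y.subgroupOf R)
    have hπ : ∀ (r) (hr : r ∈ R), r ∈ Y ↔ π ⟨r, hr⟩ = 1 := fun r hr =>
      ((QuotientGroup.eq_one_iff (⟨r, hr⟩ : R)).trans mem_subgroupOf).symm
    have e1 : (π ⟨a, ha⟩ ^ 2 ^ m) ^ 2 = 1 := by
      rw [← pow_mul, ← pow_succ, ← map_pow]; exact (hπ _ (pow_mem ha _)).1 h1
    have e2 : π ⟨a, ha⟩ ^ 2 ^ m ≠ 1 := fun h => h0 ((hπ _ (pow_mem ha _)).2 (by rw [← h, ← map_pow]; rfl))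
    have e3 : orderOf (π ⟨a, ha⟩ ^ 2 ^ m) = 2 := orderOf_eq_prime e1 e2
    rw [hπ _ (pow_mem (mul_mem (pow_mem ha k) (hY hy)) _)]
    change π ((⟨a, ha⟩ ^ k * ⟨y, hY hy⟩) ^ 2 ^ m) = 1 ↔ _
    rw [map_pow, map_mul, (hπ y (hY hy)).1 hy, mul_one, map_pow, ← pow_mul, mul_comm, pow_mul,
      ← orderOf_dvd_iff_pow_eq_one, e3, even_iff_two_dvd]
  let f : X → ℤˣ := fun r => if r ^ 2 ^ m ∈ Y then 1 else -1
  have hf : ∀ (k : ℕ) (y) (_ : y ∈ Y), f (a ^ k * y) = (-1) ^ k := fun k y hy => by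
    simp only [f, key k y hy]
    split_ifs with h
    exacts [h.neg_one_pow.symm, (Nat.not_even_iff_odd.1 h).neg_one_pow.symm]
  let φ : R.subgroupOf H →* ℤˣ := MonoidHom.mk' (fun r => f ((r : H) : X)) fun r s => by
    obtain ⟨k, y, hy, e1⟩ := hgen _ r.2
    obtain ⟨l, y', hy', e2⟩ := hgen _ s.2
    have e3 : (((r * s : R.subgroupOf H) : H) : X) = a ^ (k + l) * ((a ^ l)⁻¹ * y * (a ^ l)⁻¹⁻¹ * y') := by
      change ((r : H) : X) * ((s : H) : X) = _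
      simp only [Subgroup.subtype_apply] at e1 e2
      rw [e1, e2, pow_add]; group
    have hl := inv_mem (pow_mem ha l)
    simp only [Subgroup.subtype_apply] at e1 e2
    rw [e3, e1, e2, hf _ _ hy, hf _ _ hy', hf _ _ (mul_mem (sc y hy _ (hR.le hl)
      (mul_mem (mul_mem hl (hY hy)) (inv_mem hl))) hy'), pow_add]
  have hV : ∀ (r) (hr : r ∈ R), MonoidHom.transfer φ ⟨r, hR.le hr⟩ = f r := fun r hr => by
    have := CL.Iso.transfer_eq_pow_of_ctrl φ ⟨⟨r, hR.le hr⟩, hr⟩ fun k g h => by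
      rw [← map_pow]
      change f ((g : X)⁻¹ * r ^ k * g) = f (r ^ k)
      have h' : (g : X)⁻¹ * r ^ k * g ∈ R := h
      have e1 : ((g : X)⁻¹ * r ^ k * g) ^ 2 ^ m = (g : X)⁻¹ * (r ^ k) ^ 2 ^ m * (g : X)⁻¹⁻¹ := by
        rw [← conj_pow, inv_inv]
      refine if_congr ⟨fun h2 => ?_, fun h2 => ?_⟩ rfl rfl
      · have := sc _ h2 g g.2 (by rw [e1]; simpa [mul_assoc] using pow_mem (pow_mem hr k) (2 ^ m))
        rw [e1] at this
        simpa [mul_assoc] using this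
      · rw [e1]; exact sc _ h2 _ (inv_mem g.2) (e1 ▸ pow_mem h' _)
    refine this.trans ?_
    have ho : Odd (R.subgroupOf H).index := Nat.odd_iff.2 (Nat.two_dvd_ne_zero.1 hR.not_dvd_relIndex)
    change f r ^ _ = _
    rcases Int.units_eq_one_or (f r) with h | h <;> rw [h]
    exacts [one_pow _, ho.neg_one_pow]
  refine ⟨(MonoidHom.transfer φ).ker.map H.subtype, map_subtype_le _, ?_, fun x hx => ?_, fun y hy => ?_, ?_⟩
  · exact (normal_subgroupOf_iff_le_normalizer (map_subtype_le _)).1 (by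
      rw [subgroupOf, comap_map_eq_self_of_injective H.subtype_injective]; infer_instance)
  · exact ⟨⟨x, hx⟩ ^ 2, by rw [SetLike.mem_coe, MonoidHom.mem_ker, map_pow, Int.units_sq], rfl⟩
  · refine ⟨⟨y, hR.le (hY hy)⟩, ?_, rfl⟩
    rw [SetLike.mem_coe, MonoidHom.mem_ker, hV y (hY hy)]
    simpa using hf 0 y hy
  · rintro ⟨x, hx, rfl⟩
    rw [SetLike.mem_coe, MonoidHom.mem_ker] at hx
    have := (hV _ ha).symm.trans hx
    simp only [f, if_neg h0] at this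
    exact absurd this (by decide)

theorem cyc_quot' {X : Type*} [Group X] [Finite X] {Y : Subgroup X} (m : ℕ) : ∀ {R H : Subgroup X},
    SylIn 2 R H → Y ≤ R → (∀ y ∈ Y, ∀ g ∈ H, g * y * g⁻¹ ∈ R → g * y * g⁻¹ ∈ Y) → ∀ {a : X}, a ∈ R →
    (∀ r ∈ R, ∃ k : ℕ, ∃ y ∈ Y, r = a ^ k * y) → a ^ 2 ^ m ∈ Y →
    ∃ X₀ ≤ H, SylIn 2 Y X₀ ∧ ∀ x ∈ H, ∃ x₀ ∈ X₀, ∃ r ∈ R, x = x₀ * r := by
  induction m with
  | zero =>
    intro R H hR hY _ a _ hgen h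
    rw [pow_zero, pow_one] at h
    have : Y = R := le_antisymm hY fun r hr => by
      obtain ⟨k, y, hy, rfl⟩ := hgen r hr
      exact mul_mem (pow_mem h k) hy
    exact ⟨H, le_rfl, this ▸ hR, fun x hx => ⟨x, hx, 1, one_mem _, (mul_one x).symm⟩⟩
  | succ m ih =>
    intro R H hR hY sc a ha hgen h
    by_cases h0 : a ^ 2 ^ m ∈ Y
    · exact ih hR hY sc ha hgen h0
    obtain ⟨H₁, hle, hn, h2, hYH, haH⟩ := cyc_step hR hY sc ha hgen h0 h
    obtain ⟨X₀, l0, s0, d0⟩ := ih (hR.inf_normal_of_le hn hle) (le_inf hY hYH)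
      (fun y hy g hg hm => sc y hy g (hle hg) hm.1) (a := a ^ 2) ⟨pow_mem ha 2, h2 a (hR.le ha)⟩
      (fun r hr => by
        obtain ⟨k, y, hy, rfl⟩ := hgen r hr.1
        rcases Nat.even_or_odd' k with ⟨j, rfl | rfl⟩
        · exact ⟨j, y, hy, by rw [pow_mul]⟩
        · have := mul_mem (inv_mem (pow_mem (h2 a (hR.le ha)) j)) (mul_mem (mem_inf.1 hr).2 (inv_mem (hYH hy)))
          rw [mul_inv_cancel_right, pow_succ a (2 * j), pow_mul, inv_mul_cancel_left] at this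
          exact absurd this haH) (by rw [← pow_mul, ← pow_succ']; exact h)
    refine ⟨X₀, l0.trans hle, s0, fun x hx => ?_⟩
    obtain ⟨t, ht, d, hd, e1⟩ := sup_of_two hR hn (fun x hx => ⟨1, h2 x hx⟩) x⁻¹ (inv_mem hx)
    obtain ⟨x₀, hx₀, r, hr, e2⟩ := d0 d⁻¹ (inv_mem hd)
    exact ⟨x₀, hx₀, r * t⁻¹, mul_mem hr.1 (inv_mem ht), by
      rw [← mul_assoc, ← e2, ← mul_inv_rev, ← e1, inv_inv]⟩

end Sp

/-- `Y` strongly closed in the Sylow subgroup `R` of `H`, `R / Y` cyclic. -/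
theorem cyc_quot {X : Type*} [Group X] [Finite X] {R H Y : Subgroup X} (hR : SylIn 2 R H) (hY : Y ≤ R)
    (sc : ∀ y ∈ Y, ∀ g ∈ H, g * y * g⁻¹ ∈ R → g * y * g⁻¹ ∈ Y) {a : X} (ha : a ∈ R)
    (hgen : ∀ r ∈ R, ∃ k : ℕ, ∃ y ∈ Y, r = a ^ k * y) :
    ∃ X₀ ≤ H, SylIn 2 Y X₀ ∧ ∀ x ∈ H, ∃ x₀ ∈ X₀, ∃ r ∈ R, x = x₀ * r := by
  obtain ⟨m, hm⟩ := hR.pgroup ⟨a, ha⟩
  exact Sp.cyc_quot' m hR hY sc ha hgen (by
    rw [show a ^ 2 ^ m = 1 from congrArg Subtype.val hm]; exact one_mem _)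

end CL.L5
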