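import Cfsg.Agent.INV.L5.GoodA
import Cfsg.Agent.INV.L5.Split

/-! # The twisted frame

`D = C(τ (i,1)) ≤ C₁` has the Sylow subgroup `R₀ = τ (C(i) × W)` (`sylI`); `Y = τ (Z(W) × W)` is strongly closed (`stepA`), `R₀ / Y` is cyclic (`acyc`):
`cyc_quot` gives `X₀ ≤ D` with Sylow subgroup `Y = ⟨c⟩ × κ W`, `c = τ (ζ₀, 1)` (`cyc`), `D = X₀ R₀`.  Apply `split_hom` in the group `↥X₀`:
`μ b = τ (α b, β b)` with homomorphisms `α, β : W →* W` with central values, `K₀` normal in `X₀`, `K = K₀.map subtype`.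
`τ' (a, b) = τ (a β(a) α(b), b β(b) α(a))` is a homomorphism with `τ' (1,b) = τ (1,b) μ b`, `s τ' (a,b) s⁻¹ = τ' (b,a)`, `τ' = τ` on `⟨z⟩ × ⟨z⟩` (`WF.map_z`), so it is injective
(`WF.inj_of`) with the same range.  `V' = K ⊓ Y` is Sylow in `K` (`SylIn.inf_normal`).  Control: `v = τ' (1,b) = τ (α b, b β b)`, `g v g⁻¹ = d v d⁻¹` (`red`), `d = x₀ r`,
`x₀ = k y` with `y ∈ Z(T)`, `r = τ (a₁, b₁)` acts on `V'` as `τ' (1, b₁) ∈ K`; so `g v g⁻¹ = k' v k'⁻¹ ∈ K ⊓ Y = V'` (`stepA`). -/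

set_option autoImplicit false

namespace CL.L5

open Subgroup Cfsg CL.MSS CL.PComp

variable {G W : Type*} [Group G] [Finite G] [Group W] [Finite W] {τ : W × W →* G} {s ρ : G} {z e n i : W}
  {ψ : W →* W}

theorem Fr.exists_tw (w : WF z e n i) (F : Fr τ s) : ∃ (τ' : W × W →* G) (K : Subgroup G), Tw τ' s z K := by
  have iz : τ (z, 1) = τ (i, 1) * τ (i, 1) := by rw [τ_mul, mul_one, w.i_sq]
  have c1 : ∀ x ∈ Cz (τ (i, 1)), Commute x (τ (z, 1)) := fun x hx => iz ▸ (mem_Cz.1 hx).mul_right (mem_Cz.1 hx)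
  obtain ⟨a₀, ha₀, hgen⟩ := w.acyc
  obtain ⟨ζ₀, hζ₀, hcyc⟩ := w.cyc
  obtain ⟨X₀, hX, sY, hD⟩ := cyc_quot (F.sylI w) (Y := ((center W).prod ⊤).map τ)
    (map_mono (prod_mono (center_le_centralizer _) le_rfl)) (fun y hy g hg hm => by
      obtain ⟨ζ, hζ, b, -, rfl⟩ := mem_prod_map.1 hy
      obtain ⟨a', -, b', -, e1⟩ := mem_prod_map.1 hm
      exact mem_prod_map.2 ⟨a', F.stepA w hζ (c1 g hg) e1, b', mem_top _, e1⟩)
    (a := τ (a₀, 1)) (mem_prod_map.2 ⟨a₀, mem_Cz.2 ha₀, 1, mem_top _, rfl⟩) (fun r hr => by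
      obtain ⟨a, ha, b, -, rfl⟩ := mem_prod_map.1 hr
      obtain ⟨k, ζ, hζ, rfl⟩ := hgen a (mem_Cz.1 ha)
      exact ⟨k, _, mem_prod_map.2 ⟨ζ, hζ, b, mem_top _, rfl⟩, by rw [τ_pow, τ_mul, one_pow, one_mul]⟩)
  have mY : ∀ ζ ∈ center W, ∀ b, τ (ζ, b) ∈ ((center W).prod ⊤).map τ := fun ζ hζ b =>
    mem_prod_map.2 ⟨ζ, hζ, b, mem_top _, rfl⟩
  set κ : W →* X₀ := (kap τ).codRestrict X₀ fun b => sY.le (mY 1 (one_mem _) b) with hκ
  set c : X₀ := ⟨τ (ζ₀, 1), sY.le (mY ζ₀ hζ₀ 1)⟩ with hc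
  have cκ : ∀ (j : ℕ) b, ((c ^ j * κ b : X₀) : G) = τ (ζ₀ ^ j, b) := fun j b => by
    change τ (ζ₀, 1) ^ j * τ (1, b) = _
    rw [τ_pow, τ_mul, one_pow, one_mul, mul_one]
  have D : Sp.DP κ c := ⟨fun a b e => F.kap_inj (congrArg Subtype.val e),
    fun a => Subtype.ext (τ_comm τ (Commute.one_right ζ₀) (Commute.one_left a)).eq, fun j a e => by
      have e1 : τ (ζ₀, 1) ^ j = τ (1, a) := congrArg Subtype.val e
      rw [τ_pow, one_pow] at e1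
      exact (F.eq_iff.1 e1).2.symm⟩
  have hY : (((center W).prod ⊤).map τ).subgroupOf X₀ = zpowers c ⊔ κ.range := by
    ext x
    rw [D.mem, mem_subgroupOf, mem_prod_map]
    refine ⟨fun ⟨ζ, hζ, b, _, e1⟩ => ?_, fun ⟨u, hu, b, e1⟩ => ?_⟩
    · obtain ⟨j, rfl⟩ := hcyc ζ hζ
      exact ⟨_, pow_mem (mem_zpowers c) j, b, Subtype.ext (e1.trans (cκ j b).symm)⟩
    · obtain ⟨j, rfl⟩ := Sp.exists_nat hu
      exact ⟨_, pow_mem hζ₀ j, b, mem_top b, e1 ▸ cκ j b⟩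
  obtain ⟨μ, K₀, hK, m1, m2, m3, m4⟩ := split_hom w D.inj D.cm D.dj
    (by have := sY.subgroupOf le_rfl; rwa [hY, subgroupOf_self] at this)
    ⟨ζ₀, hζ₀, orderOf_dvd_of_pow_eq_one (Subtype.ext (by
      change τ (ζ₀, 1) ^ _ = 1
      rw [τ_pow, pow_orderOf_eq_one, one_pow, τ_one]))⟩
  obtain ⟨α, β, hμ⟩ := F.coords (X₀.subtype.comp μ) fun a => by
    obtain ⟨j, ζ, -, e1⟩ := m1 a
    change (μ a : G) ∈ _
    rw [e1, cκ]; exact τ_mem τ _ _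
  have hμ' : ∀ a, (μ a : G) = τ (α a, β a) := hμ
  have cen : ∀ a, α a ∈ center W ∧ β a ∈ center W := fun a => by
    obtain ⟨j, ζ, hζ, e1⟩ := m1 a
    obtain ⟨e2, e3⟩ := F.eq_iff.1 ((hμ' a).symm.trans (e1 ▸ cκ j ζ))
    exact ⟨e2 ▸ pow_mem hζ₀ j, e3 ▸ hζ⟩
  have cα : ∀ x a, Commute x (α a) := fun x a => mem_center_iff.1 (cen a).1 x
  have cβ : ∀ x a, Commute x (β a) := fun x a => mem_center_iff.1 (cen a).2 x
  have αz := w.map_z α fun a b => cα _ b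
  have βz := w.map_z β fun a b => cβ _ b
  have hm : ∀ a b a' b', a * a' * β (a * a') * α (b * b') = a * β a * α b * (a' * β a' * α b') :=
    fun a b a' b' => by
      rw [map_mul, map_mul]
      simp only [mul_assoc]
      rw [(cβ a' a).left_comm, (cα (β a') b).left_comm, (cα a' b).left_comm]
  let f : W × W →* W × W := MonoidHom.mk' (fun p => (p.1 * β p.1 * α p.2, p.2 * β p.2 * α p.1))
    fun p q => Prod.ext (hm _ _ _ _) (hm _ _ _ _)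
  have hf : ∀ a b, τ.comp f (a, b) = τ (a * β a * α b, b * β b * α a) := fun _ _ => rfl
  have f1 : f (z, 1) = (z, 1) := by simp [f, αz, βz]
  have finj : Function.Injective f := w.inj_of f (by simp [f1, w.z_ne]) (by simp [f, αz, βz, w.z_ne])
    (by simp [f, αz, βz, w.z_ne])
  have hr : (τ.comp f).range = τ.range := by
    rw [MonoidHom.range_comp, f.range_eq_top_of_surjective (Finite.surjective_of_injective finj),
      ← MonoidHom.range_eq_map]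
  have hv : ∀ b, τ.comp f (1, b) = τ (α b, b * β b) := fun b => by simp [hf]
  have hv' : ∀ b, τ.comp f (1, b) = ((κ b * μ b : X₀) : G) := fun b => by
    rw [hv, coe_mul, hμ']
    change _ = τ (1, b) * _
    rw [τ_mul, one_mul]
  have hV : ((center W).prod ⊤).map τ ⊓ K₀.map X₀.subtype = (kap (τ.comp f)).range := by
    ext x
    rw [mem_V]
    refine ⟨fun ⟨h1, y, hy, e1⟩ => ?_, fun ⟨b, e1⟩ => ⟨by rw [e1, hv]; exact mY _ (cen b).1 _, _, m2 b, ?_⟩⟩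
    · subst e1
      obtain ⟨b, e1⟩ := m3 y hy (hY ▸ h1)
      exact ⟨b, by rw [hv', ← e1]; rfl⟩
    · rw [e1, hv']; rfl
  have z1 : τ.comp f (z, 1) = τ (z, 1) := congrArg τ f1
  have vK : ∀ b, τ.comp f (1, b) ∈ K₀.map X₀.subtype := fun b => ⟨_, m2 b, (hv' b).symm⟩
  refine ⟨τ.comp f, K₀.map X₀.subtype, ⟨F.inj.comp finj, F.s2, fun a b => by rw [hf, hf, F.sw],
    hr ▸ F.sT, hr ▸ F.syl⟩, hV ▸ sY.inf_normal_of_le ((normal_subgroupOf_iff_le_normalizer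
      (map_subtype_le _)).1 (by rwa [subgroupOf, comap_map_eq_self_of_injective X₀.subtype_injective]))
      (map_subtype_le _), fun x hx => mem_Cz.2 (z1 ▸ c1 x (hX (map_subtype_le _ hx))), fun b g hg hm => ?_⟩
  rw [z1] at hg
  rw [hr, hv] at hm
  obtain ⟨d, hd, e1⟩ := F.red w (cen b).1 hg hm
  obtain ⟨x₀, hx₀, r, hr', rfl⟩ := hD d (mem_Cz.2 hd)
  obtain ⟨a₁, -, b₁, -, rfl⟩ := mem_prod_map.1 hr'
  obtain ⟨k, hk, j, ζ, hζ, e2⟩ := m4 ⟨x₀, hx₀⟩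
  have e3 : x₀ = k * τ (ζ₀ ^ j, ζ) := (congrArg Subtype.val e2).trans (by rw [coe_mul, cκ])
  have e4 : τ (ζ₀ ^ j, ζ) * τ (a₁, b₁) * τ (α b, b * β b) * (τ (ζ₀ ^ j, ζ) * τ (a₁, b₁))⁻¹ =
      τ (α b₁, b₁ * β b₁) * τ (α b, b * β b) * (τ (α b₁, b₁ * β b₁))⁻¹ := by
    rw [τ_mul τ (ζ₀ ^ j), τ_conj, τ_conj, conj_eq_of_comm (cα _ b), conj_eq_of_comm (cα _ b),
      ← mem_center_iff.1 hζ b₁]
    have k1 : ∀ x ∈ center W, ∀ y, b₁ * x * y * (b₁ * x)⁻¹ = b₁ * y * b₁⁻¹ := fun x hx y => by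
      rw [mul_assoc b₁ x, ← mem_center_iff.1 hx y]; group
    rw [k1 _ hζ, k1 _ (cen b₁).2]
  have e5 : g * τ.comp f (1, b) * g⁻¹ = k * τ.comp f (1, b₁) * τ.comp f (1, b) * (k * τ.comp f (1, b₁))⁻¹ := by
    rw [hv, hv, ← e1, e3]
    calc _ = k * (τ (ζ₀ ^ j, ζ) * τ (a₁, b₁) * τ (α b, b * β b) * (τ (ζ₀ ^ j, ζ) * τ (a₁, b₁))⁻¹) * (k : G)⁻¹ := by
          group
      _ = _ := by rw [e4]; group
  have kK := mul_mem (mem_map_of_mem X₀.subtype hk) (vK b₁)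
  obtain ⟨a', b', e6⟩ := mem_T.1 hm
  obtain ⟨b'', e7⟩ := mem_V.1 (hV ▸ mem_inf.2 ⟨by rw [hv, e6]; exact mY _ (F.stepA w (cen b).1 hg e6) _,
    e5 ▸ mul_mem (mul_mem kK (vK b)) (inv_mem kK)⟩ : g * τ.comp f (1, b) * g⁻¹ ∈ (kap (τ.comp f)).range)
  exact ⟨_, kK, b'', e5.symm.trans e7, e7⟩

end CL.L5
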