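import Cfsg.Agent.INV.L5.F1
import Cfsg.Agent.INV.L5.Hom
import Cfsg.Agent.INV.ABG.Main

/-! # The twisted frame is good

`scV` is contained in `ctl`.  `ni`: let `χ ≠ 1` be invariant; `x` of least order `2N` outside `ker χ` (`N = 2^j`), so `a^N = 1 → χ a = 1`.  `x` is noncentral:
the centre is generated by `ζ₀` (`cyc`), and `χ ζ₀ = 1` (see below).  `M = {τ (a,b) s^k | χ a χ b = 1}` has index 2 in `S`.  `CL.P2.ext_transfer` for `τ (1,x)`
(`hsq`: a conjugate `y ∈ S` of `τ (1,x)^(2k)` has `y^N = 1`; if `y = τ (a,b) s` then `N` is even and `(a b)^N = 1` by `outer_sq`) gives `g` with `τ (1,x)^g ∈ M`,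
`C_S(τ (1,x))^g ≤ S`; `LT`, `LW`: `g` or `s g` centralises `z₁` (`M` is `s`-invariant), then `τ (1,x)^g = τ (1,x')`, `χ x' = χ x = -1`, contradiction.
To avoid `χ ζ₀ = 1`: if `x` is central replace it by `x e` or `x e'`: `χ e = 1` when `N ≥ 2`, so `x e` is noncentral of the same order with `χ (x e) = -1`;
for `N = 1` a central `x` is `z` and `χ z = 1` (`WF.map_z`).
`cls`: `K` has no subgroup `H` of index 2 (otherwise `χ b = ±1` according to `τ (1,b) ∈ H` is invariant by `ctl`, and nontrivial since `V` is Sylow in `K`);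
`CL.ABG.one_class` in `↥K` (transport `w.sw` along `W ≃* V`). -/

set_option autoImplicit false

namespace CL.L5

open Subgroup Cfsg CL.MSS CL.PComp

variable {G W : Type*} [Group G] [Finite G] [Group W] [Finite W] {τ : W × W →* G} {s ρ : G} {z e n i : W}
  {ψ : W →* W}

theorem Tw.ni (w : WF z e n i) {K : Subgroup G} (T : Tw τ s z K) (h2 : ∀ H : Subgroup G, H.index ≠ 2)
    (χ : W →* ℤˣ) (hχ : ∀ b b' g, Commute g (τ (z, 1)) → g * τ (1, b) * g⁻¹ = τ (1, b') → χ b = χ b') :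
    χ = 1 := by
  classical
  have F := T.toFr
  by_contra hne
  have ex : ∃ j : ℕ, ∃ x, χ x ≠ 1 ∧ x ^ 2 ^ j = 1 := by
    obtain ⟨x, hx⟩ := DFunLike.ne_iff.1 hne
    obtain ⟨j, hj⟩ := w.pg x
    exact ⟨j, x, hx, hj⟩
  obtain ⟨x₀, hx₀, p₀⟩ := Nat.find_spec ex
  obtain ⟨j, hj⟩ := Nat.exists_eq_succ_of_ne_zero (n := Nat.find ex) fun h0 => hx₀ (by
    rw [h0, pow_zero, pow_one] at p₀; rw [p₀, map_one])
  have mn : ∀ a, a ^ 2 ^ j = 1 → χ a = 1 := fun a ha => by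
    by_contra h; exact Nat.find_min ex (m := j) (by omega) ⟨a, h, ha⟩
  rw [hj] at p₀
  obtain ⟨x, hx, p, xc⟩ : ∃ x, χ x ≠ 1 ∧ x ^ 2 ^ (j + 1) = 1 ∧ x ∉ center W := by
    by_cases hc : x₀ ∈ center W
    · have e2 : ∀ k : ℕ, e ^ 2 ^ (k + 1) = 1 := fun k => by rw [pow_succ', pow_mul, pow_two, w.e_sq, one_pow]
      rcases j with _ | j
      · rcases w.z_uniq x₀ hc (by simpa [pow_two] using p₀) with rfl | rfl
        exacts [absurd (map_one χ) hx₀, absurd (w.map_z χ fun a b => mul_comm _ _) hx₀]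
      · exact ⟨x₀ * e, by rwa [map_mul, mn e (e2 j), mul_one],
          by rw [Commute.mul_pow (mem_center_iff.1 hc e).symm, p₀, e2, mul_one],
          fun h => w.e_nc (by simpa using mul_mem (inv_mem hc) h)⟩
    · exact ⟨x₀, hx₀, p₀, hc⟩
  obtain ⟨φ, hφ⟩ := F.exists_hom χ
  obtain ⟨g, ⟨y, hy, e1⟩, hg⟩ := CL.P2.ext_transfer h2 F.syl.toSylowTop (M := φ.ker.map (Subgroup.subtype _))
    (relIndex_ker φ (x := ⟨τ (1, x), mem_sup_left (τ_mem τ 1 x)⟩) (by
      rwa [hφ _ 1 x (Or.inl rfl), map_one, one_mul])) (map_subtype_le _) (x := τ (1, x))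
    (mem_sup_left (τ_mem τ 1 x)) fun k a h => by
      refine ⟨⟨_, h⟩, ?_, rfl⟩
      have e1 : (a * τ (1, x) ^ (2 * k) * a⁻¹) ^ 2 ^ j = 1 := by
        rw [conj_pow, ← pow_mul, mul_right_comm, ← pow_succ', pow_mul, τ_pow, p, one_pow, τ_one, one_pow,
          mul_one, mul_inv_cancel]
      rcases F.mem_S.1 h with ⟨b, c, e2⟩ | ⟨b, c, e2⟩
      · rw [e2, τ_pow, F.eq_one_iff] at e1
        exact (hφ _ b c (Or.inl e2)).trans (by rw [mn b e1.1, mn c e1.2, mul_one])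
      · refine (hφ _ b c (Or.inr e2)).trans ?_
        rw [e2] at e1
        rcases j with _ | j
        · rw [pow_zero, pow_one] at e1
          exact absurd (e1 ▸ one_mem _) (F.not_mem b c)
        · rw [pow_succ', pow_mul, pow_two, F.outer_sq, τ_pow, F.eq_one_iff] at e1
          rw [← map_mul, mn _ (by rw [pow_succ, pow_mul, e1.1, one_pow])]
  have h1 := F.LT w xc fun a c hc => hg _ (mem_sup_left (τ_mem τ a c)) (τ_comm τ (Commute.one_right a) hc)
  obtain ⟨a, b, e2⟩ := mem_T.1 (h1 1 x (Commute.refl x))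
  have h3 : χ a * χ b = 1 := (hφ y a b (Or.inl (e1.trans e2))).symm.trans hy
  rcases F.LW w fun a => h1 a 1 (Commute.one_left x) with k | k
  · obtain ⟨-, -, b', -, e3⟩ := T.ctl x g (comm_of_conj_eq k) (h1 1 x (Commute.refl x))
    obtain ⟨rfl, rfl⟩ := F.eq_iff.1 (e2.symm.trans e3)
    exact hx (by rw [hχ x b g (comm_of_conj_eq k) e2, ← h3, map_one, one_mul])
  · have e4 : ∀ y, s * g * y * (s * g)⁻¹ = s * (g * y * g⁻¹) * s⁻¹ := fun y => by group
    have c : Commute (s * g) (τ (z, 1)) := comm_of_conj_eq (by rw [e4, k, F.sw])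
    have e5 : s * g * τ (1, x) * (s * g)⁻¹ = τ (b, a) := by rw [e4, e2, F.sw]
    obtain ⟨-, -, b', -, e3⟩ := T.ctl x _ c (e5 ▸ τ_mem τ b a)
    obtain ⟨rfl, rfl⟩ := F.eq_iff.1 (e5.symm.trans e3)
    exact hx (by rw [hχ x a _ c e5, ← h3, map_one, mul_one])

theorem Tw.good (w : WF z e n i) {K : Subgroup G} (T : Tw τ s z K) (h2 : ∀ H : Subgroup G, H.index ≠ 2) :
    Good τ s z := by
  have F := T.toFr
  refine ⟨F, fun b g hg a' b' e1 => ?_, T.ni w h2, fun b b2 b1 => ?_⟩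
  · obtain ⟨-, -, b'', -, e2⟩ := T.ctl b g hg (e1 ▸ τ_mem τ a' b')
    exact (F.eq_iff.1 (e1.symm.trans e2)).1
  set κ : W →* K := (kap τ).codRestrict K fun b => T.sylK.le ⟨b, rfl⟩ with hκ
  have inj : Function.Injective κ := fun a b e => F.kap_inj (congrArg Subtype.val e)
  have o : ∀ a, a * a = 1 → a ≠ 1 → orderOf (κ a) = 2 := fun a a2 a1 =>
    (orderOf_injective κ inj a).trans (orderOf_eq_prime (by rw [pow_two, a2]) a1)
  obtain ⟨g, hg⟩ := isConj_iff.1 (CL.ABG.one_class T.sylK.toSylow (sw_congr ((MonoidHom.ofInjective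
    F.kap_inj).trans (subgroupOfEquivOfLe T.sylK.le).symm) w.sw) (fun H hH => by
      obtain ⟨χ, hχ⟩ := exists_sign hH
      have h1 := T.ni w h2 (χ.comp κ) fun b b' g hg e1 => by
        obtain ⟨k, hk, b'', e2, e3⟩ := T.ctl b g hg (e1 ▸ τ_mem τ 1 b')
        have e4 : κ b' = ⟨k, hk⟩ * κ b * ⟨k, hk⟩⁻¹ := Subtype.ext (e1.symm.trans (e3.trans e2.symm))
        rw [MonoidHom.comp_apply, MonoidHom.comp_apply, e4, map_mul, map_mul, map_inv, mul_inv_cancel_comm]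
      refine T.sylK.not_dvd_relIndex (hH ▸ index_dvd_of_le fun x ⟨b, hb⟩ => (hχ x).1 ?_)
      rw [show x = κ b from Subtype.ext hb.symm]
      exact DFunLike.congr_fun h1 b) _ _ (o b b2 b1) (o z w.z_sq w.z_ne))
  exact ⟨g, mem_Cz.1 (T.le g.2), congrArg Subtype.val hg⟩

end CL.L5
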