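import Cfsg.Agent.INV.L5.Tool
import Cfsg.Agent.FGS.SchurHopf
import Cfsg.Agent.S2086
import Cfsg.Agent.S2089
import Cfsg.Agent.S2090
import Cfsg.Agent.S2034
import Cfsg.Agent.S0420
import Cfsg.Agent.S0434
import Cfsg.Agent.S0435
import Cfsg.Agent.FGS.SchurCover
import Cfsg.Agent.SPOR.Ord11c

/-! # Covering groups and facts on `M₁₁`

General lemma: `σ : Γ →* N`, `π : L →* N` surjective with central kernels, `Γ, L` finite perfect.  Let `P ≤ Γ × L` be the fibre product and
`P' = commutator P`; `P' → N` is a stem extension whose kernel embeds into `ker σ × ker π`, and `P'` maps onto `Γ` and `L`.  If the multiplier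
(`CL.Schur.card_stemKer_dvd`, universe polymorphic) forces `|ker| ≤ |ker σ|`, then `P' ≅ Γ` and `Γ` maps onto `L` over `N`. -/

set_option autoImplicit false

namespace CL.L5

open Subgroup Cfsg CL.MSS CL.PComp

open Matrix

theorem cover_gen {Γ N L : Type*} [Group Γ] [Group N] [Group L] (σ : Γ →* N) (hσ : Function.Surjective σ)
    (hL : commutator L = ⊤) (π : L →* N) (hπ : Function.Surjective π) (hk : π.ker ≤ center L)
    (η : Γ →* L) (hη : π.comp η = σ) : Function.Surjective η ∧ η.ker ≤ σ.ker := by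
  refine ⟨CL.Schur.surjective_of_over_stem hσ
    ((⟨hπ, hk⟩ : CL.Schur.IsCentralExt π).isStem_of_perfect ⟨hL⟩) η hη, fun x hx => ?_⟩
  rw [MonoidHom.mem_ker, ← hη, MonoidHom.comp_apply, MonoidHom.mem_ker.1 hx, map_one]

theorem cover_triv {Γ L : Type*} [Group Γ] [Group L] (h1 : HasCyclicSchurMultiplier Γ 1) (hΓ : commutator Γ = ⊤)
    (hL : commutator L = ⊤) (π : L →* Γ ⧸ center Γ) (hπ : Function.Surjective π) (hk : π.ker ≤ center L) :
    ∃ f : Γ →* L, Function.Surjective f ∧ f.ker ≤ center _ := by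
  obtain ⟨η, hη⟩ := CL.Schur.exists_lift_of_trivial_of_perfect h1 ⟨hΓ⟩ (QuotientGroup.mk' (center Γ))
    (⟨hπ, hk⟩ : CL.Schur.IsCentralExt π)
  obtain ⟨a, b⟩ := cover_gen _ (QuotientGroup.mk'_surjective _) hL π hπ hk η hη
  exact ⟨η, a, by rwa [QuotientGroup.ker_mk'] at b⟩

theorem cover_SL3 {F : Type} [Field F] [Fintype F] (hF : Odd (Fintype.card F)) {L : Type*} [Group L] [Finite L]
    (hL : commutator L = ⊤) (π : L →* ProjectiveSpecialLinearGroup (Fin 3) F) (hπ : Function.Surjective π)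
    (hk : π.ker ≤ center L) :
    ∃ f : SpecialLinearGroup (Fin 3) F →* L, Function.Surjective f ∧ f.ker ≤ center _ := by
  have hc : Nat.card F = Fintype.card F := Nat.card_eq_fintype_card
  obtain ⟨k, hk'⟩ := hF
  exact cover_triv (CL.Chev.Cl.trivial_SL (F := F) (n := 2) le_rfl (by omega) (by omega))
    (CL.SL.commutator_eq_top_of_three_le (by simp)) hL π hπ hk

theorem cover_SU3 {F : Type} [Field F] [Fintype F] {q : ℕ} (hF : Fintype.card F = q ^ 2) (hq : Odd q)
    {L : Type*} [Group L] [Finite L] (hL : commutator L = ⊤) (π : L →* PSU 3 F q)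
    (hπ : Function.Surjective π) (hk : π.ker ≤ center L) :
    ∃ f : SU 3 F q →* L, Function.Surjective f ∧ f.ker ≤ center _ := by
  have h2 := CL.SqField.two_le hF
  obtain ⟨k, hk'⟩ := hq
  exact cover_triv (CL.SUMult.trivial_three hF (by omega))
    (CL.Uni.commutator_SU hF le_rfl (by omega)) hL π hπ hk

/-- the kernel of the stem extension is a 2-group of order dividing 36. -/
theorem cover_SU4 {F : Type} [Field F] [Fintype F] (hF : Fintype.card F = 9) {L : Type*} [Group L] [Finite L]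
    (hL : commutator L = ⊤) (π : L →* PSU 4 F 3) (hπ : Function.Surjective π) (hk : π.ker ≤ center L)
    (h2 : IsPGroup 2 π.ker) : ∃ f : SU 4 F 3 →* L, Function.Surjective f := by
  have e : CL.F24.F9 ≃+* F := FiniteField.ringEquivOfCardEq (by rw [hF, CL.F24.card_F9]; rfl)
  have hM := CL.Schur.hasSchurMultiplier_congr_left Cfsg.Agent.S2090.main.2 (CL.Uni.suCongr e 4 3)
  have hF' : Fintype.card F = 3 ^ 2 := hF
  have hp : commutator (SU 4 F 3) = ⊤ := CL.Uni.commutator_SU hF' (by omega) (by omega)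
  have hc : CL.Schur.IsCentralExt π := ⟨hπ, hk⟩
  set σ : SU 4 F 3 →* PSU 4 F 3 := QuotientGroup.mk' _ with hσ
  have hp1 := hc.pbFst σ
  have h9 := CL.Schur.card_stemKer_dvd hM hp1
  have h9' : Nat.card (Multiplicative (ZMod 3 × ZMod 3)) = 3 ^ 2 := by
    rw [Nat.card_congr Multiplicative.toAdd, Nat.card_prod, Nat.card_zmod]; rfl
  rw [h9'] at h9
  have hk2 : IsPGroup 2 (CL.Schur.pbFst σ π).ker := h2.of_equiv (CL.Schur.pbKerEquiv σ π).symm
  have hfin : Finite (CL.Schur.pbFst σ π).ker := Finite.of_equiv _ (CL.Schur.pbKerEquiv σ π).symm.toEquiv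
  have hs2 : IsPGroup 2 (CL.Schur.stemKer (CL.Schur.pbFst σ π)) := hk2.to_le (CL.Schur.stemKer_le_ker _)
  have hfin2 : Finite (CL.Schur.stemKer (CL.Schur.pbFst σ π)) :=
    Finite.of_injective _ (inclusion_injective (CL.Schur.stemKer_le_ker (CL.Schur.pbFst σ π)))
  obtain ⟨m, hm⟩ := hs2.exists_card_eq
  have hb : CL.Schur.stemKer (CL.Schur.pbFst σ π) = ⊥ := by
    rw [← card_eq_one]
    rw [hm] at h9 ⊢
    exact Nat.Coprime.eq_one_of_dvd (Nat.Coprime.pow _ _ (by norm_num)) h9
  obtain ⟨s, hs⟩ := CL.Schur.exists_section_of_coprime hp1 hb (by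
    rw [CL.Schur.card_abelianization_of_perfect ⟨hp⟩]; exact Nat.coprime_one_right _)
  obtain ⟨η, hη⟩ := CL.Schur.exists_lift_of_section σ π s hs
  exact ⟨η, (cover_gen σ (QuotientGroup.mk'_surjective _) hL π hπ hk η hη).1⟩

/-- `SU₅(q)` is quasisimple. -/
theorem psu5_of_surj {F : Type*} [Field F] [Fintype F] {q : ℕ} (hF : Fintype.card F = q ^ 2) {G : Type*}
    [Group G] [IsSimpleGroup G] (f : SU 5 F q →* G) (hf : Function.Surjective f) :
    Nonempty (G ≃* PSU 5 F q) := by
  have hp : commutator (SU 5 F q) = ⊤ := CL.Uni.commutator_SU hF (by omega) (by omega)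
  have hS : IsSimpleGroup (PSU 5 F q) := CL.Uni.isSimpleGroup_PSU hF (by omega) (by omega)
  have hG : commutator G = ⊤ := by
    have := map_commutator_eq (SU 5 F q) f
    rw [hp, ← MonoidHom.range_eq_map, MonoidHom.range_eq_top.2 hf] at this
    exact this.symm
  have h1 : center (SU 5 F q) ≤ f.ker := by
    have hn : ((center (SU 5 F q)).map f).Normal := Normal.map inferInstance f hf
    rcases hn.eq_bot_or_eq_top with h | h
    · exact (Subgroup.map_eq_bot_iff _).1 h
    · exfalso
      have hc : ∀ a b : G, a * b = b * a := fun a b => by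
        obtain ⟨x, hx, rfl⟩ : a ∈ (center (SU 5 F q)).map f := h ▸ mem_top a
        obtain ⟨y, rfl⟩ := hf b
        rw [← map_mul, ← map_mul, mem_center_iff.1 hx y]
      have : commutator G = ⊥ := by
        rw [commutator_eq_bot_iff_center_eq_top, eq_top_iff]
        exact fun a _ => mem_center_iff.2 fun b => hc b a
      exact absurd (this.symm.trans hG) bot_ne_top
  let g : PSU 5 F q →* G := QuotientGroup.lift _ f h1
  have hg : Function.Surjective g := fun y => by
    obtain ⟨x, rfl⟩ := hf y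
    exact ⟨x, rfl⟩
  have hi : Function.Injective g := by
    rw [← MonoidHom.ker_eq_bot_iff]
    rcases (inferInstance : g.ker.Normal).eq_bot_or_eq_top with h | h
    · exact h
    · exfalso
      obtain ⟨y, hy⟩ := exists_ne (1 : G)
      obtain ⟨x, rfl⟩ := hg y
      exact hy (MonoidHom.mem_ker.1 (h ▸ mem_top x))
  exact ⟨(MulEquiv.ofBijective g ⟨hi, hg⟩).symm⟩

/-- `S0420`, `S2034`. -/
theorem cover_M11 {N L : Type*} [Group N] [Finite N] (h : IsM11 N) [Group L] [Finite L]
    (hL : commutator L = ⊤) (π : L →* N) (hπ : Function.Surjective π) (hk : π.ker ≤ center L) :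
    Function.Injective π := by
  have := h.1
  obtain ⟨e⟩ := CL.Ord.iso_M11 (G := N) h.2
  have h1 : HasCyclicSchurMultiplier N 1 :=
    CL.Schur.hasSchurMultiplier_congr_left Cfsg.Agent.S2034.result e.symm
  have hb := CL.Schur.stemKer_eq_bot_of_trivial h1 (⟨hπ, hk⟩ : CL.Schur.IsCentralExt π)
  rw [CL.Schur.stemKer, hL, inf_top_eq] at hb
  exact (MonoidHom.ker_eq_bot_iff π).1 hb

/-- e.g. from `C(t) ≅ GL₂(3)` (`S1603`, see `CL.C2.core_M11`: `4 ∤ |C(y)|`), `|N(P)| = 144` (`S0434`) and the absence of elements of order 15, 33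
(sharply 4-transitive action on 11 points), or by a direct computation in the model. -/
theorem m11_three {N : Type*} [Group N] [Finite N] (h : IsM11 N) {y : N} (hy : orderOf y = 3) :
    Nat.card (Cz y) = 18 := by
  have := h.1
  obtain ⟨T⟩ := CL.Ord.exists_T11 h.2
  obtain ⟨t, ht⟩ := exists_prime_orderOf_dvd_card' (G := N) 2 (by rw [h.2]; norm_num)
  have : Fact (Nat.Prime 11) := ⟨by norm_num⟩
  obtain ⟨x, hx⟩ := exists_prime_orderOf_dvd_card' (G := N) 11 (by rw [h.2]; norm_num)
  exact (T.three h.2 hy ht hx).1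

end CL.L5
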