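import Cfsg.Agent.INV.L5.CfB
import Cfsg.Agent.INV.L5.M3T

/-! # The fundamental subgroups -/

set_option autoImplicit false
set_option linter.unusedSectionVars false

namespace CL.L5

open Subgroup Cfsg CL.MSS CL.PComp

variable {G : Type*} [Group G] [Finite G] {t : Fin 5 → G} {p : ℕ}

namespace KC

theorem swap_LL (h : Ld₀ t) {a b d e : Fin 5} (i : Function.Injective ![a, b, d, e]) :
    ∃ g ∈ LL (t a * t b), Ind t g (Equiv.swap d e) := by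
  obtain ⟨σ, rfl, rfl, rfl, rfl⟩ := exists_perm4 i
  obtain ⟨k, hk⟩ := h.perm σ
  obtain ⟨g, hg, hs⟩ := h.swap
  exact ⟨_, hk.two 0 1 ▸ conj_mem_LL k hg, hk.conj_swap hs⟩

theorem cj_K {g : G} {σ : Equiv.Perm (Fin 5)} (hg : Ind t g σ) (a b d e : Fin 5) :
    g •ᶜ Kp p (LL (t d * t e)) (t a * t b) = Kp p (LL (t (σ d) * t (σ e))) (t (σ a) * t (σ b)) := by
  rw [cj_Kp, cj_LL, hg.two, hg.two]

theorem cen_cj {L : Subgroup G} {f g v : G} (hg : g ∈ L) (hc : Commute f g) (h : L ⊓ Cz v ≤ Cz f) :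
    L ⊓ Cz (g * v * g⁻¹) ≤ Cz f := fun x hx => by
  have := comm_conj (mem_Cz.1 (h (x := g⁻¹ * x * g) ⟨L.mul_mem (L.mul_mem (L.inv_mem hg) hx.1) hg,
    mem_Cz.2 (comm_of_conj (g := g) (by simpa [mul_assoc] using mem_Cz.1 hx.2))⟩)) g
  rw [conj_eq_of_comm hc.symm] at this
  exact mem_Cz.2 (by simpa [mul_assoc] using this)

end KC

open KC

/-- `L₁ = LL (t 0 t 1)`, `L₂ = LL (t 3 t 4)`, `K = Kp p L₂ (t 0 t 1)` is normalised by `H = C(t 0 t 1, t 3 t 4)` (`cj_Kp`) and normalises `L₁`.  `⁅K, C_{L₁}(t 3 t 4)⁆ ≤ K ⊓ L₁ = ⊥` (`odd12`, `oK` conjugated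
by a permutation `(0 3)(1 4)`).  A `p`-element `y ∈ K` acts on `{g ∈ L₁ | g swaps t 3 t 4, t 2 t 3}`, a coset of `C_{L₁}(E₂)` (nonempty: `swap` conjugated to `(2 4)`), so has a fixed point `g` (`fix_coset`, `tor`)
and centralises `C_{L₁}(t 2 t 3)`; then also `C_{L₁}(t 2 t 4)`; `genL` with `M = C(y)`. -/
theorem Ld₀.ld (h : Ld₀ t) (T : Typ t p) : Ld t p := by
  have C := h.toCf
  have := Fact.mk T.prime
  have kl := Kp_le p (LL (t 3 * t 4)) (t 0 * t 1)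
  have nL : Kp p (LL (t 3 * t 4)) (t 0 * t 1) ≤ normalizer (LL (t 0 * t 1) : Set G) :=
    (kl.trans inf_le_right).trans (Cz_le_normalizer_LL _)
  have s0 : Kp p (LL (t 3 * t 4)) (t 0 * t 1) ⊓ LL (t 0 * t 1) = ⊥ := by
    obtain ⟨σ, σ0, σ1, σ3, σ4⟩ := exists_perm4 (a := 3) (b := 4) (d := 0) (e := 1) (by decide)
    obtain ⟨g, hg⟩ := h.perm σ
    have e1 := cj_K (p := p) hg 0 1 3 4
    rw [σ0, σ1, σ3, σ4] at e1
    refine (cj_eq_bot_iff (g := g)).1 (T.oK _ (e1 ▸ cj_mono g inf_le_left) ?_ ?_)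
    · rw [← e1, ← cj_normalizer]
      exact cj_mono g (le_normalizer_inf le_normalizer nL)
    · rw [card_cj]
      exact h.odd12.of_dvd_nat (card_dvd_of_le (le_inf inf_le_right (inf_le_left.trans (kl.trans inf_le_left))))
  have s1 : ∀ y ∈ Kp p (LL (t 3 * t 4)) (t 0 * t 1), LL (t 0 * t 1) ⊓ Cz (t 3 * t 4) ≤ Cz y := fun y hy c hc => by
    have k : c •ᶜ Kp p (LL (t 3 * t 4)) (t 0 * t 1) = Kp p (LL (t 3 * t 4)) (t 0 * t 1) := by
      rw [cj_Kp, cj_LL, conj_eq_of_comm (mem_Cz.1 hc.2), conj_eq_of_comm (mem_Cz.1 (LL_le _ hc.1))]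
    have k1 : c * y * c⁻¹ * y⁻¹ ∈ Kp p (LL (t 3 * t 4)) (t 0 * t 1) ⊓ LL (t 0 * t 1) :=
      ⟨mul_mem (k ▸ conj_mem_cj hy) (Subgroup.inv_mem _ hy), by
        have := mul_mem (mem_inf.1 hc).1 (conj_mem_of_normalizes nL hy (Subgroup.inv_mem _ (mem_inf.1 hc).1))
        simpa [mul_assoc] using this⟩
    exact mem_Cz.2 (comm_of_conj_eq (mul_inv_eq_one.1 (mem_bot.1 (s0 ▸ k1))))
  refine ⟨h, fun y hy l hl => ?_⟩
  suffices H : Kp p (LL (t 3 * t 4)) (t 0 * t 1) ≤ Cz l from mem_Cz.1 (H hy)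
  refine (closure_le _).2 fun f ⟨f1, f2, k, hk⟩ => ?_
  have hf : f ∈ Kp p (LL (t 3 * t 4)) (t 0 * t 1) := subset_closure ⟨f1, f2, k, hk⟩
  have nf : ∀ {x : G}, Commute f x → zpowers f ≤ Cz x := fun h => zpowers_le.2 (mem_Cz.2 h)
  have c34 : Commute f (t 3 * t 4) := mem_Cz.1 (LL_le _ f1)
  have c23 : Commute f (t 2 * t 3) :=
    (mem_Cz.1 (s1 f hf ⟨C.mem_LL (by decide), mem_Cz.2 (C.comm2 _ _ _ _)⟩)).symm
  obtain ⟨g, hg, hi⟩ := swap_LL h (a := 0) (b := 1) (d := 2) (e := 4) (by decide)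
  have g1 : g * (t 3 * t 4) * g⁻¹ = t 2 * t 3 := by rw [hi.two, C.c]; rfl
  have g2 : g * (t 2 * t 3) * g⁻¹ = t 3 * t 4 := by rw [hi.two, C.c]; rfl
  have nL' := (zpowers_le.2 hf).trans nL
  obtain ⟨d, hd, hc⟩ := fix_coset (MSS.isPGroup_zpowers hk)
    (D := LL (t 0 * t 1) ⊓ Cz (t 3 * t 4) ⊓ Cz (t 2 * t 3))
    (le_normalizer_inf (le_normalizer_inf nL' ((nf c34).trans le_normalizer)) ((nf c23).trans le_normalizer))
    T.tor (x := g) fun a ha => by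
      have k : ∀ b b', g * b * g⁻¹ = b' → Commute f b → Commute f b' → g⁻¹ * (a * g * a⁻¹) ∈ Cz b :=
        fun b b' h c c' => by
          have k1 : Commute (g⁻¹ * a * g) b := comm_of_conj (g := g) (by
            rw [h]; simpa [mul_assoc] using mem_Cz.1 (nf c' ha))
          simpa [mul_assoc] using mul_mem (mem_Cz.2 k1) (Subgroup.inv_mem _ (nf c ha))
      exact ⟨⟨Subgroup.mul_mem _ (Subgroup.inv_mem _ hg) (conj_mem_of_normalizes nL' ha hg),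
        k _ _ g1 c34 c23⟩, k _ _ g2 c23 c34⟩
  have s2 := cen_cj (mul_mem hg hd.1.1) (hc f (mem_zpowers f)) (s1 f hf)
  rw [show g * d * (t 3 * t 4) * (g * d)⁻¹ = g * (d * (t 3 * t 4) * d⁻¹) * g⁻¹ by group,
    conj_eq_of_comm (mem_Cz.1 hd.1.2), g1] at s2
  obtain ⟨g', hg', hi'⟩ := h.swap
  have s3 := cen_cj hg' (mem_Cz.1 (s1 f hf ⟨hg', mem_Cz.2 (comm_of_conj_eq (by rw [hi'.two, C.c]; rfl))⟩)).symm s2
  rw [hi'.two] at s3
  exact mem_Cz.2 (mem_Cz.1 (h.genL (Cz f) (s1 f hf) s2 s3 hl)).symm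

section
variable {Γ : Type*} [Group Γ] [Finite Γ] {a b : Γ} {K₁ K₂ : Subgroup Γ} (m : M3 p a b K₁ K₂)
include m

theorem M3.map_Kp' (f : Γ →* G) (hk : f.ker ≤ center Γ) {c : Γ} (h2 : c * c = 1) :
    (Kp p ⊤ c).map f = Kp p f.range (f c) := by
  rw [Kp, MonoidHom.map_closure, Kp]
  congr 1
  ext x
  constructor
  · rintro ⟨y, ⟨-, h1, k, hk⟩, rfl⟩
    exact ⟨⟨y, rfl⟩, h1.map f, k, by rw [← map_pow, hk, map_one]⟩
  · rintro ⟨⟨y, rfl⟩, h1, k, h3⟩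
    obtain ⟨u, hu⟩ := exists_pow_eq_self_of_coprime (x := f y) (n := Nat.card f.ker)
      (((m.ker_cop hk).pow_right k).coprime_dvd_right (orderOf_dvd_of_pow_eq_one h3))
    refine ⟨(y ^ Nat.card f.ker) ^ u, ⟨mem_top _, ((m.comm_of_map hk h2 h1).pow_left _).pow_left _, k, ?_⟩,
      by rw [map_pow, map_pow, hu]⟩
    have h4 : (y ^ p ^ k) ^ Nat.card f.ker = 1 := orderOf_dvd_iff_pow_eq_one.1
      (orderOf_dvd_natCard _ (by rw [MonoidHom.mem_ker, map_pow, h3]))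
    rw [pow_right_comm, pow_right_comm y, h4, one_pow]

/-- The kernel is central of order 1 or 3, prime to `2p`: the preimage of `C(f a)` is `C(a)`, `p`-elements lift to `p`-elements. -/
theorem M3.map_Kp (f : Γ →* G) (hk : f.ker ≤ center Γ) :
    K₁.map f = Kp p f.range (f a) ∧ K₂.map f = Kp p f.range (f b) := by
  rw [← m.map_Kp' f hk m.a_sq, ← m.map_Kp' f hk m.b_sq, ← m.K1, ← m.K2]
  exact ⟨rfl, rfl⟩

/-- `f a, f b ∈ J(t 0 t 1)` (`inv_mem`); compose `f` with the conjugations given by `tr2` and `perm`. -/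
theorem Ld₀.pair (h : Ld₀ t) (f : Γ →* G) (hr : f.range = LL (t 0 * t 1)) (hk : f.ker ≤ center Γ)
    (σ : Equiv.Perm (Fin 5)) : ∃ f' : Γ →* G, f'.ker = f.ker ∧ f'.range = LL (t (σ 0) * t (σ 1)) ∧
      f' a = t (σ 3) * t (σ 4) ∧ f' b = t (σ 2) * t (σ 3) := by
  have J : ∀ c, c * c = 1 → c ≠ 1 → f c ∈ JJ (t 0 * t 1) := fun c h2 h1 =>
    h.inv_mem _ (hr ▸ ⟨c, rfl⟩) (by rw [← map_mul, h2, map_one]) (m.ne_one hk h2 h1)
  obtain ⟨g, g1, g2, g3⟩ := h.tr2 _ (J a m.a_sq m.a_ne) _ (J b m.b_sq m.b_ne) (m.comm.map f) fun e =>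
    m.ne_one hk (x := a * b) (by rw [mul_assoc, ← mul_assoc b, ← m.comm.eq, mul_assoc, m.b_sq, mul_one, m.a_sq])
      (fun k => m.ab_ne (by rw [← mul_one a, ← m.b_sq, ← mul_assoc, k, one_mul]))
      (by rw [map_mul, e, ← map_mul, m.b_sq, map_one])
  obtain ⟨k, hσ⟩ := h.perm σ
  have ex : ∀ x, k * g * x * (k * g)⁻¹ = k * (g * x * g⁻¹) * k⁻¹ := fun x => by group
  refine ⟨(MulAut.conj (k * g)).toMonoidHom.comp f, ?_, ?_, ?_, ?_⟩
  · ext x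
    simp [MonoidHom.mem_ker]
  · rw [MonoidHom.range_comp, hr, cj_LL, ex, conj_eq_of_comm g1, hσ.two]
  · exact (ex _).trans (by rw [g2, hσ.two])
  · exact (ex _).trans (by rw [g3, hσ.two])

theorem Ld₀.typ (h : Ld₀ t) (f : Γ →* G) (hr : f.range = LL (t 0 * t 1)) (hk : f.ker ≤ center Γ) :
    Typ t p := by
  obtain ⟨g, k1, k2, k3, k4⟩ := h.pair m f hr hk 1
  simp only [Equiv.Perm.coe_one, id] at k2 k3 k4
  rw [← k1] at hk
  refine ⟨m.prime, fun hd => m.tor (hd.trans ?_), fun N h1 h2 h3 => ?_⟩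
  · refine (card_dvd_of_le ?_).trans (card_map_dvd (Cz a ⊓ Cz b) g)
    rw [← k2, ← k3, ← k4]
    rintro _ ⟨⟨⟨x, rfl⟩, c1⟩, c2⟩
    exact ⟨x, ⟨mem_Cz.2 (m.comm_of_map hk m.a_sq (mem_Cz.1 c1)), mem_Cz.2 (m.comm_of_map hk m.b_sq (mem_Cz.1 c2))⟩, rfl⟩
  · rw [← k2, ← k3, ← (m.map_Kp g hk).1] at h1 h2
    have := m.oK (K₁ ⊓ N.comap g) inf_le_left (le_normalizer_inf le_normalizer (le_normalizer_of_cj_le fun x hx =>
      cj_le_iff_forall.2 fun y hy => by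
        rw [mem_comap, map_mul, map_mul, map_inv]
        exact conj_mem_of_normalizes h2 (mem_map_of_mem g hx) hy))
      (Nat.coprime_two_right.1 (coprime_card_of_le inf_le_right
        (coprime_card_comap_of_surjective (m.ker_odd hk) (Nat.coprime_two_right.2 h3))))
    refine eq_bot_iff.2 fun y hy => ?_
    obtain ⟨x, hx, rfl⟩ := h1 hy
    rw [mem_bot.1 (this ▸ ⟨hx, hy⟩ : x ∈ (⊥ : Subgroup Γ)), map_one]
    exact one_mem _

end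

/-- `kc` conjugated by a permutation. -/
theorem Ld.kc' (h : Ld t p) {a b d e : Fin 5} (i : Function.Injective ![a, b, d, e]) :
    ∀ y ∈ Kp p (LL (t d * t e)) (t a * t b), ∀ l ∈ LL (t a * t b), Commute y l := by
  obtain ⟨σ, rfl, rfl, rfl, rfl⟩ := exists_perm4 i
  obtain ⟨g, hg⟩ := h.perm σ
  rw [← cj_K hg, ← hg.two, ← cj_LL]
  rintro _ ⟨y, hy, rfl⟩ _ ⟨l, hl, rfl⟩
  exact comm_conj (h.kc y hy l hl) g

/-- conjugate by `g ∈ LL (t a t b)` mapping `t d t e` to `t d' t e'` (`cls`); `g` centralises the left side. -/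
theorem Ld.indep (h : Ld t p) {a b d e d' e' : Fin 5} (i : Function.Injective ![a, b, d, e])
    (i' : Function.Injective ![a, b, d', e']) :
    Kp p (LL (t d * t e)) (t a * t b) = Kp p (LL (t d' * t e')) (t a * t b) := by
  obtain ⟨l, hl, e1⟩ : ∃ l ∈ LL (t a * t b), l * (t d * t e) * l⁻¹ = t d' * t e' := by
    have j := h.toCf.mem_JJ i'
    obtain ⟨σ, rfl, rfl, rfl, rfl⟩ := exists_perm4 i
    obtain ⟨g, hg⟩ := h.perm σ
    have j1 := conj_mem_JJ g⁻¹ j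
    rw [← hg.two, show g⁻¹ * (g * (t 0 * t 1) * g⁻¹) * g⁻¹⁻¹ = t 0 * t 1 by group] at j1
    obtain ⟨l, hl, e1⟩ := (h.cls _).1 j1
    refine ⟨g * l * g⁻¹, hg.two 0 1 ▸ conj_mem_LL g hl, ?_⟩
    rw [← hg.two, show g * l * g⁻¹ * (g * (t 3 * t 4) * g⁻¹) * (g * l * g⁻¹)⁻¹ =
      g * (l * (t 3 * t 4) * l⁻¹) * g⁻¹ by group, e1]
    group
  rw [← e1, ← cj_LL, ← cj_eq_of_mem_centralizer (g := l) (Q := Kp p _ _)
    (mem_centralizer_iff.2 fun y hy => h.kc' i y hy l hl), cj_Kp, conj_eq_of_comm (mem_Cz.1 (LL_le _ hl))]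

/-- `K j = Kp p (LL c) (t j t (j+1))` for any `c` of weight 2 disjoint from `j, j+1`. -/
theorem Ld.chain (h : Ld t p) {Γ : Type*} [Group Γ] [Finite Γ] {a b : Γ} {K₁ K₂ : Subgroup Γ}
    (m : M3 p a b K₁ K₂) (f : Γ →* G) (hr : f.range = LL (t 0 * t 1)) (hk : f.ker ≤ center Γ) :
    ∃ (K : Fin 4 → Subgroup G) (φ : Fin 3 → (Γ →* G)), (∀ j, (φ j).ker = f.ker) ∧
      (∀ j : Fin 3, K₁.map (φ j) = K j.castSucc ∧ K₂.map (φ j) = K j.succ) ∧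
      (φ 0).range = LL (t 3 * t 4) ∧ (φ 1).range = LL (t 0 * t 4) ∧ (φ 2).range = LL (t 0 * t 1) ∧
      (∀ j k : Fin 4, (j : ℕ) + 2 ≤ k → ∀ x ∈ K j, ∀ y ∈ K k, x * y = y * x) ∧
      ∀ j : Fin 4, t j.castSucc * t j.succ ∈ K j ∧ ∀ y ∈ K j, Commute y (t j.castSucc * t j.succ) ∧
        ∀ l ∈ LL (t j.castSucc * t j.succ), Commute y l := by
  have C := h.toCf
  have P : ∀ {x y j k l : Fin 5}, Function.Injective ![x, y, l, k, j] → ∃ g : Γ →* G, g.ker = f.ker ∧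
      g.range = LL (t x * t y) ∧ K₁.map g = Kp p (LL (t x * t y)) (t j * t k) ∧
      K₂.map g = Kp p (LL (t x * t y)) (t k * t l) ∧ t j * t k ∈ Kp p (LL (t x * t y)) (t j * t k) ∧
      t k * t l ∈ Kp p (LL (t x * t y)) (t k * t l) := fun i => by
    obtain ⟨σ, rfl, rfl, rfl, rfl, rfl⟩ := exists_perm5 i
    obtain ⟨g, k1, k2, k3, k4⟩ := h.pair m f hr hk σ
    obtain ⟨k5, k6⟩ := m.map_Kp g (k1 ▸ hk)
    rw [C.c] at k3 k4
    rw [k2, k3] at k5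
    rw [k2, k4] at k6
    exact ⟨g, k1, k2, k5, k6, k5 ▸ k3 ▸ mem_map_of_mem g m.a_mem, k6 ▸ k4 ▸ mem_map_of_mem g m.b_mem⟩
  obtain ⟨φ0, a1, a2, a3, a4, a5, a6⟩ := P (x := 3) (y := 4) (j := 0) (k := 1) (l := 2) (by decide)
  obtain ⟨φ1, b1, b2, b3, b4, -, -⟩ := P (x := 0) (y := 4) (j := 1) (k := 2) (l := 3) (by decide)
  obtain ⟨φ2, c1, c2, c3, c4, c5, c6⟩ := P (x := 0) (y := 1) (j := 2) (k := 3) (l := 4) (by decide)
  rw [h.indep (d' := 3) (e' := 4) (by decide) (by decide)] at b3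
  rw [h.indep (d' := 0) (e' := 1) (by decide) (by decide)] at b4
  have kl : ∀ {L : Subgroup G} {c y : G}, y ∈ Kp p L c → y ∈ L ∧ Commute y c := fun hy =>
    ⟨(Kp_le _ _ _ hy).1, mem_Cz.1 (Kp_le _ _ _ hy).2⟩
  refine ⟨![Kp p (LL (t 3 * t 4)) (t 0 * t 1), Kp p (LL (t 3 * t 4)) (t 1 * t 2),
    Kp p (LL (t 0 * t 1)) (t 2 * t 3), Kp p (LL (t 0 * t 1)) (t 3 * t 4)], ![φ0, φ1, φ2], fun j => ?_,
    fun j => ?_, a2, b2, c2, fun j k hjk x hx y hy => ?_, fun j => ?_⟩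
  · fin_cases j
    exacts [a1, b1, c1]
  · fin_cases j
    exacts [⟨a3, a4⟩, ⟨b3, b4⟩, ⟨c3, c4⟩]
  · fin_cases j <;> fin_cases k <;> simp only [Fin.val_zero, Fin.mk_one, Fin.isValue] at hjk <;>
      try omega
    · exact h.kc x hx y (kl hy).1
    · exact h.kc x hx y (kl hy).1
    · exact (h.kc' (a := 3) (b := 4) (d := 0) (e := 1) (by decide) y hy x (kl hx).1).symm
  · fin_cases j
    · exact ⟨a5, fun y hy => ⟨(kl hy).2, h.kc y hy⟩⟩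
    · exact ⟨a6, fun y hy => ⟨(kl hy).2, h.kc' (a := 1) (b := 2) (d := 3) (e := 4) (by decide) y hy⟩⟩
    · exact ⟨c5, fun y hy => ⟨(kl hy).2, h.kc' (a := 2) (b := 3) (d := 0) (e := 1) (by decide) y hy⟩⟩
    · exact ⟨c6, fun y hy => ⟨(kl hy).2, h.kc' (a := 3) (b := 4) (d := 0) (e := 1) (by decide) y hy⟩⟩

end CL.L5
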