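import Cfsg.Agent.INV.L5.TT
import Cfsg.Agent.INV.GL2Sylow
import Cfsg.Agent.CLAS.SLBasic

/-! # The frame of a group with a Sylow 2-subgroup of type `L₅(q)` -/

set_option autoImplicit false

namespace CL.L5

open Subgroup Cfsg CL.MSS CL.PComp

universe v

namespace Mo

section abstract

variable {W Γ H : Type*} [Group W] [Group Γ] [Group H] {τ : W × W →* Γ} {s : Γ}

theorem map_frame (τ : W × W →* Γ) (s : Γ) (φ : Γ →* H) :
    (τ.range ⊔ zpowers s).map φ = (φ.comp τ).range ⊔ zpowers (φ s) := by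
  rw [Subgroup.map_sup, MonoidHom.map_zpowers, MonoidHom.range_comp]

theorem map_quot [Finite Γ] (h : Fr τ s) (φ : Γ →* H) (hφ : Function.Surjective φ) (ho : Odd (Nat.card φ.ker)) :
    Fr (φ.comp τ) (φ s) := by
  have key : ∀ x ∈ τ.range ⊔ zpowers s, φ x = 1 → x = 1 := fun x hx h1 => by
    obtain ⟨k, hk⟩ := h.syl.pgroup ⟨x, hx⟩
    exact eq_one_of_odd_of_two (ho.of_dvd_nat (orderOf_dvd_natCard φ.ker h1)) (congrArg Subtype.val hk)
  refine ⟨(injective_iff_map_eq_one _).2 fun w hw => (injective_iff_map_eq_one _).1 h.inj w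
    (key _ (mem_sup_left ⟨w, rfl⟩) hw), by rw [← map_mul, h.s2, map_one], fun a b => ?_, ?_, ?_⟩
  · rw [MonoidHom.comp_apply, MonoidHom.comp_apply, ← h.sw a b, map_mul, map_mul, map_inv]
  · rintro ⟨w, hw⟩
    have := key ((τ w)⁻¹ * s) (mul_mem (inv_mem (mem_sup_left ⟨w, rfl⟩)) (mem_sup_right (mem_zpowers s))) (by
      rw [map_mul, map_inv, ← hw, MonoidHom.comp_apply, inv_mul_cancel])
    exact h.sT ⟨w, inv_mul_eq_one.1 this⟩
  · have := h.syl.map φ
    rwa [map_frame, map_top_of_surjective _ hφ] at this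

theorem transport [Finite Γ] (h : Fr τ s) (P : Sylow 2 Γ) (S : Sylow 2 H)
    (e : (S : Subgroup H) ≃* (P : Subgroup Γ)) : ∃ (τ' : W × W →* H) (s' : H), Fr τ' s' := by
  have : Fact (Nat.Prime 2) := Nat.fact_prime_two
  let R := τ.range ⊔ zpowers s
  have f : R ≃* (S : Subgroup H) := (Sylow.equiv h.syl.toSylowTop P).trans e.symm
  let ι : R →* H := (S : Subgroup H).subtype.comp f.toMonoidHom
  have hι : Function.Injective ι := Subtype.val_injective.comp f.injective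
  let τ₁ : W × W →* R := τ.codRestrict R fun w => mem_sup_left ⟨w, rfl⟩
  let s₁ : R := ⟨s, mem_sup_right (mem_zpowers s)⟩
  refine ⟨ι.comp τ₁, ι s₁, hι.comp fun a b e => h.inj (congrArg Subtype.val e), ?_, fun a b => ?_, ?_, ?_⟩
  · rw [← map_mul, show s₁ * s₁ = 1 from Subtype.ext h.s2, map_one]
  · rw [MonoidHom.comp_apply ι, ← map_inv, ← map_mul, ← map_mul]
    exact congrArg ι (Subtype.ext (h.sw a b))
  · rintro ⟨w, hw⟩
    exact h.sT ⟨w, congrArg Subtype.val (hι hw)⟩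
  · have h1 : τ₁.range ⊔ zpowers s₁ = ⊤ := map_injective R.subtype_injective (by
      rw [map_frame, ← MonoidHom.range_eq_map, range_subtype]; rfl)
    rw [← map_frame, h1, ← MonoidHom.range_eq_map, MonoidHom.range_comp, MonoidHom.range_eq_top.2 f.surjective,
      ← MonoidHom.range_eq_map, range_subtype]
    exact sylIn_top S

theorem fr_of_card [Finite Γ] (hW : IsPGroup 2 W) (inj : Function.Injective τ) (s2 : s * s = 1)
    (sw : ∀ a b, s * τ (a, b) * s⁻¹ = τ (b, a)) (sT : s ∉ τ.range) {u : ℕ} (hu : Odd u)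
    (hc : Nat.card Γ = 2 * Nat.card W ^ 2 * u) : Fr τ s := by
  have : Fact (Nat.Prime 2) := Nat.fact_prime_two
  refine ⟨inj, s2, sw, sT, ?_⟩
  have hp : IsPGroup 2 (W × W) := fun x => by
    obtain ⟨a, ha⟩ := hW x.1
    obtain ⟨b, hb⟩ := hW x.2
    refine ⟨a + b, Prod.ext ?_ ?_⟩
    · rw [Prod.pow_fst, pow_add, pow_mul, ha, one_pow, Prod.fst_one]
    · rw [Prod.pow_snd, add_comm, pow_add, pow_mul, hb, one_pow, Prod.snd_one]
  have hT : IsPGroup 2 τ.range := hp.of_surjective _ τ.rangeRestrict_surjective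
  have hs : IsPGroup 2 (zpowers s) := by
    rintro ⟨_, k, rfl⟩
    exact ⟨1, Subtype.ext (by
      change (s ^ k) ^ 2 ^ 1 = 1
      rw [pow_one, ← zpow_natCast, ← zpow_mul, mul_comm, zpow_mul, zpow_natCast, pow_two, s2, one_zpow])⟩
  have hn : zpowers s ≤ normalizer (τ.range : Set Γ) := (zpowers_le).2 (mem_normalizer_fintype (by
    rintro _ ⟨⟨a, b⟩, rfl⟩
    exact ⟨(b, a), (sw a b).symm⟩))
  have hR : IsPGroup 2 ↥(τ.range ⊔ zpowers s) := by
    rw [sup_comm]; exact hs.to_sup_of_normal_right' hT hn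
  obtain ⟨P, hP⟩ := exists_sylIn 2 (⊤ : Subgroup Γ)
  refine hP.of_card_le hR le_top ?_
  have c1 : Nat.card τ.range = Nat.card W ^ 2 := by
    rw [← Nat.card_congr (MonoidHom.ofInjective inj).toEquiv, Nat.card_prod, pow_two]
  have c2 : 2 * Nat.card W ^ 2 ≤ Nat.card ↥(τ.range ⊔ zpowers s) := by
    rw [← c1]
    obtain ⟨m, hm⟩ := card_dvd_of_le (le_sup_left : τ.range ≤ τ.range ⊔ zpowers s)
    have h0 : m ≠ 0 := by rintro rfl; exact Nat.card_pos.ne' hm
    have h1 : m ≠ 1 := by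
      rintro rfl
      exact sT (eq_of_le_of_card_ge (le_sup_left : τ.range ≤ τ.range ⊔ zpowers s) (by rw [hm, mul_one]) ▸
        mem_sup_right (mem_zpowers s))
    rw [hm, mul_comm]
    exact Nat.mul_le_mul_left _ (by omega)
  refine le_trans (Nat.le_of_dvd ?_ ?_) c2
  · rw [← c1]; exact Nat.mul_pos two_pos Nat.card_pos
  · obtain ⟨k, hk⟩ := IsPGroup.iff_card.1 hP.pgroup
    have := P.card_subgroup_dvd_card
    rw [hc, hk] at this
    rw [hk]
    exact (Nat.Coprime.pow_left k (Nat.coprime_two_left.2 hu)).dvd_of_dvd_mul_right this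

end abstract

open Matrix
open scoped MatrixGroups

variable {F : Type*} [Field F]

/-- the coordinates. -/
def eq5 : (Fin 2 ⊕ Fin 2) ⊕ Fin 1 ≃ Fin 5 := (finSumFinEquiv.sumCongr (Equiv.refl _)).trans finSumFinEquiv

/-- `GL₄` in `SL₅`. -/
def sg : GL (Fin 2 ⊕ Fin 2) F →* SL(5, F) where
  toFun M := ⟨reindex eq5 eq5 (fromBlocks M.1 0 0 (((M⁻¹).1.det : F) • 1)), by
    rw [det_reindex_self, det_fromBlocks_zero₂₁, det_smul, det_one, Fintype.card_fin, pow_one, mul_one, ← det_mul,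
      Units.mul_inv, det_one]⟩
  map_one' := Subtype.ext (by simp)
  map_mul' M N := Subtype.ext (by
    change _ = reindex eq5 eq5 _ * reindex eq5 eq5 _
    simp only [reindex_apply, submatrix_mul_equiv, fromBlocks_multiply, _root_.mul_inv_rev,
      Units.val_mul, det_mul, Matrix.mul_zero, Matrix.zero_mul, add_zero, zero_add, Matrix.mul_smul,
      Matrix.mul_one, smul_smul, smul_zero])

theorem sg_inj : Function.Injective (sg (F := F)) := fun M N h => by
  have h1 := (reindex eq5 eq5).injective (congrArg Subtype.val h)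
  exact Units.ext (fromBlocks_inj.1 h1).1

/-- block diagonal matrices. -/
def bd : GL (Fin 2) F × GL (Fin 2) F →* GL (Fin 2 ⊕ Fin 2) F :=
  MonoidHom.toHomUnits
    { toFun := fun x => fromBlocks x.1.1 0 0 x.2.1
      map_one' := by simp
      map_mul' := fun x y => by simp [fromBlocks_multiply] }

theorem coe_bd (A B : GL (Fin 2) F) : (bd (A, B)).1 = fromBlocks A.1 0 0 B.1 := rfl

/-- the swap. -/
def sw : GL (Fin 2 ⊕ Fin 2) F :=
  ⟨fromBlocks 0 1 1 0, fromBlocks 0 1 1 0, by simp [fromBlocks_multiply], by simp [fromBlocks_multiply]⟩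

theorem coe_sw : (sw (F := F)).1 = fromBlocks 0 1 1 0 := rfl

theorem card_SL5 [Fintype F] (hF : Odd (Fintype.card F)) :
    ∃ u, Odd u ∧ Nat.card SL(5, F) = 2 * Nat.card (GL (Fin 2) F) ^ 2 * u := by
  have h := CL.SL.card_SL_mul (F := F) 5 (by norm_num)
  have h2 : 2 ≤ Fintype.card F := Fintype.one_lt_card
  rw [CL.SL.card_GL_two, Nat.card_eq_fintype_card (α := F)]
  simp only [Fin.prod_univ_five, show ((0 : Fin 5) : ℕ) = 0 from rfl, show ((1 : Fin 5) : ℕ) = 1 from rfl,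
    show ((2 : Fin 5) : ℕ) = 2 from rfl, show ((3 : Fin 5) : ℕ) = 3 from rfl, show ((4 : Fin 5) : ℕ) = 4 from rfl] at h
  obtain ⟨m, hm⟩ := hF
  rw [hm] at h h2 ⊢
  refine ⟨(2 * m + 1) ^ 8 * (2 * (2 * m ^ 2 + 3 * m + 1) + 1) * (2 * (m ^ 2 + m) + 1) *
    (2 * (8 * m ^ 4 + 20 * m ^ 3 + 20 * m ^ 2 + 10 * m + 2) + 1), (((odd_two_mul_add_one m).pow.mul
      (odd_two_mul_add_one _)).mul (odd_two_mul_add_one _)).mul (odd_two_mul_add_one _), ?_⟩
  refine Nat.eq_of_mul_eq_mul_left (show 0 < 2 * m + 1 - 1 by omega) ?_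
  rw [h]
  have k : ∀ i j : ℕ, i ≤ j → (2 * m + 1) ^ i ≤ (2 * m + 1) ^ j := fun i j hij => Nat.pow_le_pow_right (by omega) hij
  have k0 := k 0 2 (by norm_num)
  have k1 := k 1 2 (by norm_num)
  rw [pow_zero] at k0
  rw [pow_one] at k1
  zify [k 0 5 (by norm_num), k 1 5 (by norm_num), k 2 5 (by norm_num), k 3 5 (by norm_num), k 4 5 (by norm_num), k0, k1,
    show 1 ≤ 2 * m + 1 by omega]
  ring

theorem exists_SL [Fintype F] (hF : Odd (Fintype.card F)) (Q : Sylow 2 (GL (Fin 2) F)) :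
    ∃ (τ : ↥(Q : Subgroup (GL (Fin 2) F)) × ↥(Q : Subgroup (GL (Fin 2) F)) →* SL(5, F)) (s : SL(5, F)), Fr τ s := by
  have : Fact (Nat.Prime 2) := Nat.fact_prime_two
  obtain ⟨u, hu, hc⟩ := card_SL5 hF
  refine ⟨sg.comp (bd.comp ((Q : Subgroup (GL (Fin 2) F)).subtype.prodMap (Q : Subgroup (GL (Fin 2) F)).subtype)),
    sg sw, fr_of_card Q.isPGroup' (sg_inj.comp fun x y h => ?_) ?_ (fun a b => ?_) ?_
      (u := (Q : Subgroup (GL (Fin 2) F)).index ^ 2 * u)
      ((Nat.odd_iff.2 (Nat.two_dvd_ne_zero.1 Q.not_dvd_index)).pow.mul hu) ?_⟩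
  · have := fromBlocks_inj.1 (congrArg Units.val h)
    exact Prod.ext (Subtype.ext (Units.ext this.1)) (Subtype.ext (Units.ext this.2.2.2))
  · rw [← map_mul, show sw * sw = (1 : GL (Fin 2 ⊕ Fin 2) F) from Units.ext sw.val_inv, map_one]
  · rw [MonoidHom.comp_apply, MonoidHom.comp_apply sg, ← map_inv, ← map_mul, ← map_mul]
    refine congrArg sg (mul_inv_eq_iff_eq_mul.2 (Units.ext ?_))
    change sw.1 * (bd (a.1, b.1)).1 = (bd (b.1, a.1)).1 * sw.1
    simp [coe_bd, coe_sw, fromBlocks_multiply]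
  · rintro ⟨w, hw⟩
    exact zero_ne_one (fromBlocks_inj.1 (congrArg Units.val (sg_inj hw))).2.1
  · rw [hc, ← (Q : Subgroup (GL (Fin 2) F)).card_mul_index]; ring

end Mo

theorem exists_fr {G : Type*} [Group G] [Finite G] {F : Type v} [Field F] [Fintype F]
    (hF : Odd (Fintype.card F)) (S : Sylow 2 G) (P : Sylow 2 (Matrix.ProjectiveSpecialLinearGroup (Fin 5) F))
    (hS : Nonempty ((S : Subgroup G) ≃* (P : Subgroup (Matrix.ProjectiveSpecialLinearGroup (Fin 5) F)))) :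
    ∃ (W : Type v) (_ : Group W) (_ : Finite W), (IsQuasiDihedral W ∨ IsWreathed W) ∧
      ∃ (τ : W × W →* G) (s : G), Fr τ s := by
  obtain ⟨e⟩ := hS
  obtain ⟨Q⟩ : Nonempty (Sylow 2 (GL (Fin 2) F)) := inferInstance
  obtain ⟨τ, s, h⟩ := Mo.exists_SL hF Q
  refine ⟨(Q : Subgroup (GL (Fin 2) F)), inferInstance, inferInstance, ?_, Mo.transport (Mo.map_quot h
    (QuotientGroup.mk' (center _)) (QuotientGroup.mk'_surjective _) ?_) P S e⟩
  · rcases Nat.odd_mod_four_iff.1 (Nat.odd_iff.1 hF) with h | h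
    exacts [Or.inr (CL.GL2Syl.gl_wreathed Q h), Or.inl (CL.GL2Syl.gl_quasiDihedral Q h)]
  · rw [QuotientGroup.ker_mk', CL.SL.card_center_SL, Fintype.card_fin]
    exact Odd.of_dvd_nat (by decide) (Nat.gcd_dvd_left 5 _)

end CL.L5
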