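import Cfsg.Agent.INV.L5.Trick
import Cfsg.Agent.SIG.NS.Main
import Cfsg.Agent.SIG.Std

/-! # The signalizer functor argument

`A = AA t` (order 16), `O_a = Oc a` for the ten `a = t k * t l` of weight 2.  By conjugation (`Cf.perm`, `cj_Oc`) `l1`, `l2` hold for every `a` of weight 2:
(L1) `⁅O_b ⊓ C(a), A⁆ ≤ O_a`; (L2) `Δ(B) ⊓ C(a) ≤ O_a` for a triangle `B = {t k t l, t l t m, t k t m}`, `Δ(B) = ⨅ O_b`.
1. `O_A = opOf 2 (C(A))`, `θ a = O_a ⊔ O_A` (odd).  `θ a ⊓ C(b) ≤ θ b`: `θ a ⊓ C(b) = (O_a ⊓ C(b)) O_A` and by coprime action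
   `O_a ⊓ C(b) = ⁅O_a ⊓ C(b), A⁆ C_{O_a}(A) ≤ O_b ⊔ O_A` (`C_{O_a}(A)` is normal in `C(A)`).
2. For `y = t k` put `θ y = ⨆ a, θ a ⊓ C(y)` (`a` of weight 2).  It has odd order and `θ y ⊓ C(a) = θ a ⊓ C(y)`: let `A₀ ≤ A` be a complement of `⟨y⟩` (order 8);
   each coset `{x, x y}`, `1 ≠ x ∈ A₀`, contains an element `x'` of weight 2 (if both have weight 2, `θ x ⊓ C(y) = θ (x y) ⊓ C(y)` by 1.);
   `θ₀ x = θ x' ⊓ C(y)` is an `A₀`-signalizer functor; `S1919` gives an odd order `X` with `X ⊓ C(x) = θ₀ x`, and `θ y ≤ X`.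
   [One may define `θ₀ x = ⨆ {θ a ⊓ C(y) | a of weight 2, a = x ∨ a = x y}`.]
3. `θ` is an `A`-signalizer functor (`t k * t l` has weight 2), so by `S1919` all `O_a` lie in an `A`-invariant odd order subgroup `X`.
4. `Θ = (⨆ a, ⁅O_a, A⁆) ⊔ ⨅ a, O_a ≤ X`.  For a triangle `B`: `Θ = Θ(B) := (⨆ b ∈ B, ⁅O_b, B⁆) ⊔ Δ(B)`:
   `O_b = ⁅O_b, B⁆ C_{O_b}(B)`, `⁅C_{O_b}(B), A⁆ ≤ Δ(B)` by (L1), so `⁅O_b, A⁆ ≤ Θ(B)` (`⁅O_b, B⁆` is normal in `O_b`, `A`-invariant);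
   for any `a`: `O_a` is generated by the `C_{O_a}(b)` (`S1324`), `K = ⨆ b, ⁅C_{O_a}(b), A⁆` is normalised by `C_{O_a}(A)`, so `O_a = K C_{O_a}(A)`,
   `⁅O_a, A⁆ ≤ K`, and `⁅C_{O_a}(b), A⁆ = ⁅⁅C_{O_a}(b), A⁆, A⁆ ≤ ⁅O_b, A⁆` by (L1); `Δ(B) = ⁅Δ(B), A⁆ C_{Δ(B)}(A)`, `C_{Δ(B)}(A) ≤ ⨅ O_a` by (L2).
5. `M = N(Θ)` contains `C(B)` for all triangles, the elements inducing permutations, and `O_a = ⁅O_a, A⁆ C_{O_a}(A)`; by `l3` and `trick2` `M = ⊤`,
   so `Θ = ⊥` (`G` is simple of even order).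
Coprime action lemmas (`X = ⁅X, A⁆ C_X(A)`, `⁅X, A, A⁆ = ⁅X, A⁆`) are in the library (`cf search coprime commutator`). -/

set_option autoImplicit false
set_option linter.unusedSectionVars false

namespace CL.L5

open Subgroup Cfsg CL.MSS CL.PComp

variable {G : Type*} [Group G] [Finite G] {t : Fin 5 → G}

namespace Sg

open scoped commutatorElement

/-- weight 2. -/
def W2 (t : Fin 5 → G) (a : G) : Prop := ∃ k l, k ≠ l ∧ a = t k * t l

theorem nOc {H : Subgroup G} {a : G} (h : H ≤ Cz a) : H ≤ normalizer (Oc a : Set G) :=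
  h.trans (le_normalizer_opOf 2 _)

omit [Finite G] in
theorem nCz {H : Subgroup G} {a : G} (h : H ≤ Cz a) : H ≤ normalizer (Cz a : Set G) := h.trans le_normalizer

omit [Finite G] in
theorem W2.mem {a : G} (h : W2 t a) : a ∈ AA t := by
  obtain ⟨k, l, -, rfl⟩ := h
  exact mul_mem (t_mem k) (t_mem l)

theorem back {g a x : G} (h : g⁻¹ * x * g⁻¹⁻¹ ∈ Oc a) : x ∈ Oc (g * a * g⁻¹) := by
  simpa [mul_assoc] using conj_mem_Oc_conj g h

omit [Finite G] in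
theorem back' {g a x : G} (h : Commute x (g * a * g⁻¹)) : Commute (g⁻¹ * x * g⁻¹⁻¹) a := by
  simpa [mul_assoc] using comm_conj h g⁻¹

theorem dec {B K : Subgroup G} (hB : IsPGroup 2 B) (hn : B ≤ normalizer (K : Set G))
    (hK : (Nat.card K).Coprime 2) {x : G} (hx : x ∈ K) :
    ∃ s ∈ ⁅K, B⁆, ∃ c ∈ K ⊓ centralizer (B : Set G), x = s * c := by
  obtain ⟨m, hm⟩ := IsPGroup.iff_card.1 hB
  have := hB.isNilpotent
  exact CL.coprime_exists_commutator_mul_centralizer B K hn (hm ▸ Nat.Coprime.pow_left m hK.symm)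
    (Or.inl inferInstance) x hx

/-- `θ a = O(C(a)) O(C(A))`. -/
def th (t : Fin 5 → G) (a : G) : Subgroup G := Oc a ⊔ opOf 2 (centralizer (AA t : Set G))

/-- the signalizer functor on `A`. -/
def th' (t : Fin 5 → G) (x : G) : Subgroup G := ⨆ a : {a // W2 t a}, th t a ⊓ Cz x

omit [Finite G] in
theorem le_th' {a : G} (ha : W2 t a) (x : G) : th t a ⊓ Cz x ≤ th' t x :=
  le_iSup (fun a : {a // W2 t a} => th t a ⊓ Cz x) ⟨a, ha⟩

omit [Finite G] in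
theorem th'_le (x : G) : th' t x ≤ Cz x := iSup_le fun _ => inf_le_right

omit [Finite G] in
theorem CA_le {a : G} (ha : a ∈ AA t) : centralizer (AA t : Set G) ≤ Cz a :=
  centralizer_le (Set.singleton_subset_iff.2 ha)

omit [Finite G] in
theorem th_le {a : G} (ha : a ∈ AA t) : th t a ≤ Cz a :=
  sup_le (opOf_le 2 _) ((opOf_le 2 _).trans (CA_le ha))

theorem th_odd {a : G} (ha : a ∈ AA t) : (Nat.card (th t a)).Coprime 2 := by
  rw [th, sup_comm]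
  exact coprime_card_sup (nOc ((opOf_le 2 _).trans (CA_le ha))) (opOf_coprime 2 _) (opOf_coprime 2 _)

/-- the four-group of a triangle. -/
def BB (t : Fin 5 → G) (k l m : Fin 5) : Subgroup G := zpowers (t k * t l) ⊔ zpowers (t l * t m)

/-- `Θ(B)`. -/
def TB (t : Fin 5 → G) (k l m : Fin 5) : Subgroup G :=
  (⁅Oc (t k * t l), BB t k l m⁆ ⊔ ⁅Oc (t l * t m), BB t k l m⁆ ⊔ ⁅Oc (t k * t m), BB t k l m⁆) ⊔
    (Oc (t k * t l) ⊓ Oc (t l * t m) ⊓ Oc (t k * t m))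

/-- `Θ`. -/
def TA (t : Fin 5 → G) : Subgroup G :=
  (⨆ a : {a // W2 t a}, ⁅Oc (a : G), AA t⁆) ⊔ ⨅ a : {a // W2 t a}, Oc (a : G)

omit [Finite G] in
theorem BB_le (k l m : Fin 5) : BB t k l m ≤ AA t :=
  sup_le (zpowers_le.2 (mul_mem (t_mem k) (t_mem l))) (zpowers_le.2 (mul_mem (t_mem l) (t_mem m)))

omit [Finite G] in
theorem le_TA {a : G} (ha : W2 t a) : ⁅Oc a, AA t⁆ ≤ TA t :=
  (le_iSup (fun a : {a // W2 t a} => ⁅Oc (a : G), AA t⁆) ⟨a, ha⟩).trans le_sup_left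

variable (h : Cf t)
include h

omit [Finite G] in
theorem A_le {a : G} (ha : a ∈ AA t) : AA t ≤ Cz a := fun _ hx => mem_Cz.2 (h.AA_comm hx ha)

omit [Finite G] in
theorem A_le_CA : AA t ≤ centralizer (AA t : Set G) := fun _ hx _ hy => h.AA_comm hy hx

omit [Finite G] in
theorem W2.ne {a : G} (ha : W2 t a) : a ≠ 1 := by
  obtain ⟨k, l, e, rfl⟩ := ha
  exact h.ne2 e

omit [Finite G] in
theorem W2.rep {a : G} (ha : W2 t a) : ∃ g σ, Ind t g σ ∧ a = g * (t 0 * t 1) * g⁻¹ := by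
  obtain ⟨k, l, e, rfl⟩ := ha
  obtain ⟨σ, rfl, rfl⟩ := exists_perm2 e
  obtain ⟨g, hg⟩ := h.perm σ
  exact ⟨g, σ, hg, (hg.two 0 1).symm⟩

theorem th_inv {a : G} (ha : a ∈ AA t) : AA t ≤ normalizer (th t a : Set G) :=
  MSS.le_normalizer_sup (nOc (A_le h ha)) ((A_le_CA h).trans (le_normalizer_opOf 2 _))

theorem eight {E : Subgroup G} (hE : E ≤ AA t) (f : Fin 5 → G) (hf : Function.Injective f) (hm : ∀ k, f k ∈ E) :
    IsElementaryAbelian 2 E ∧ 2 ^ 3 ≤ Nat.card E := by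
  refine ⟨⟨⟨⟨fun a b => Subtype.ext (h.AA_comm (hE a.2) (hE b.2))⟩⟩,
    fun a ha => by rw [pow_two, h.AA_sq (hE ha)]⟩, ?_⟩
  obtain ⟨m, e⟩ := IsPGroup.iff_card.1 (h.AA_pg.to_le hE)
  have h1 := Nat.card_le_card_of_injective (fun k => (⟨f k, hm k⟩ : E)) fun a b e => hf (congrArg Subtype.val e)
  rw [Nat.card_fin, e] at h1
  rw [e]
  refine Nat.pow_le_pow_right (by norm_num) (Nat.lt_of_not_le fun h2 => ?_)
  have := Nat.pow_le_pow_right (n := 2) (by norm_num) h2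
  omega

omit [Finite G] in
theorem CB_le (k l m : Fin 5) : Cz (t k * t l) ⊓ Cz (t l * t m) ≤ centralizer (BB t k l m : Set G) := by
  rw [le_centralizer_iff]
  exact sup_le (zpowers_le.2 fun x hx => mem_Cz.1 hx.1) (zpowers_le.2 fun x hx => mem_Cz.1 hx.2)

theorem nTB (k l m : Fin 5) : Cz (t k * t l) ⊓ Cz (t l * t m) ≤ normalizer (TB t k l m : Set G) := by
  have h3 : Cz (t k * t l) ⊓ Cz (t l * t m) ≤ Cz (t k * t m) := fun x hx =>
    mem_Cz.2 (h.tri k l m ▸ (mem_Cz.1 hx.1).mul_right (mem_Cz.1 hx.2))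
  have hB := (CB_le h k l m).trans (centralizer_le_normalizer _)
  exact MSS.le_normalizer_sup (MSS.le_normalizer_sup (MSS.le_normalizer_sup
    (MSS.le_normalizer_commutator (nOc inf_le_left) hB) (MSS.le_normalizer_commutator (nOc inf_le_right) hB))
    (MSS.le_normalizer_commutator (nOc h3) hB))
    (MSS.le_normalizer_inf (MSS.le_normalizer_inf (nOc inf_le_left) (nOc inf_le_right)) (nOc h3))

variable (l : Lc t)
include l

theorem L1 {a b : G} (ha : W2 t a) (hb : W2 t b) {x : G} (hx : x ∈ Oc b) (hc : Commute x a) {y : G}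
    (hy : y ∈ AA t) : ⁅x, y⁆ ∈ Oc a := by
  have key : ∀ m, ⁅x, t m⁆ ∈ Oc a := fun m => by
    obtain ⟨g, σ, hg, rfl⟩ := ha.rep h
    obtain ⟨k, k', e, rfl⟩ := hb
    have h1 := l.l1 (σ⁻¹ k) (σ⁻¹ k') (fun e' => e (σ⁻¹.injective e')) _
      (hg.inv.two k k' ▸ conj_mem_Oc_conj g⁻¹ hx) (back' hc) (σ⁻¹ m)
    refine back ?_
    rw [← hg.inv m] at h1
    rw [commutatorElement_def, h.inv]
    convert h1 using 1; group
  have st : ∀ y m, ⁅x, y⁆ ∈ Oc a → y ∈ AA t → ⁅x, y * t m⁆ ∈ Oc a := fun y m h1 h2 => by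
    have := mul_mem h1 (conj_mem_Oc (h.AA_comm h2 ha.mem) (key m))
    simp only [commutatorElement_def] at this ⊢
    convert this using 1; group
  induction hy using closure_induction_right with
  | one => simp
  | mul_right y hy _ hm ih => obtain ⟨m, rfl⟩ := hm; exact st y m ih hy
  | mul_inv_cancel y hy _ hm ih => obtain ⟨m, rfl⟩ := hm; rw [h.inv]; exact st y m ih hy

theorem L1' {a b : G} (ha : W2 t a) (hb : W2 t b) : ⁅Oc b ⊓ Cz a, AA t⁆ ≤ Oc a :=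
  commutator_le.2 fun _ hx _ hy => L1 h l ha hb hx.1 (mem_Cz.1 hx.2) hy

theorem L2 {a : G} (ha : W2 t a) {k k' m : Fin 5} (e1 : k ≠ k') (e2 : k' ≠ m) (e3 : k ≠ m) {x : G}
    (hx : x ∈ Oc (t k * t k') ⊓ Oc (t k' * t m) ⊓ Oc (t k * t m)) (hc : Commute x a) : x ∈ Oc a := by
  obtain ⟨g, σ, hg, rfl⟩ := ha.rep h
  exact back (l.l2 (σ⁻¹ k) (σ⁻¹ k') (σ⁻¹ m) (fun e' => e1 (σ⁻¹.injective e'))
    (fun e' => e2 (σ⁻¹.injective e')) (fun e' => e3 (σ⁻¹.injective e')) _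
    ⟨⟨hg.inv.two k k' ▸ conj_mem_Oc_conj g⁻¹ hx.1.1, hg.inv.two k' m ▸ conj_mem_Oc_conj g⁻¹ hx.1.2⟩,
      hg.inv.two k m ▸ conj_mem_Oc_conj g⁻¹ hx.2⟩ (back' hc))

theorem bal {a b : G} (ha : W2 t a) (hb : W2 t b) : th t a ⊓ Cz b ≤ th t b := by
  intro x hx
  obtain ⟨o, ho, c, hc, rfl⟩ := (mem_sup_of_normalizes_left
    (nOc ((opOf_le 2 _).trans (CA_le ha.mem)))).1 (mem_inf.1 hx).1
  have h1 : o ∈ Cz b := by
    simpa using mul_mem (mem_inf.1 hx).2 (inv_mem (CA_le hb.mem (opOf_le 2 _ hc)))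
  obtain ⟨s, hs, c', hc', rfl⟩ := dec h.AA_pg (K := Oc a ⊓ Cz b)
    (MSS.le_normalizer_inf (nOc (A_le h ha.mem)) (nCz (A_le h hb.mem)))
    (coprime_card_of_le inf_le_left (opOf_coprime 2 _)) ⟨ho, h1⟩
  exact mul_mem (mul_mem_sup (L1' h l hb ha hs)
    (inf_le_opOf (nOc (CA_le ha.mem)) (opOf_coprime 2 _) ⟨hc'.1.1, hc'.2⟩)) (mem_sup_right hc)

theorem th'_eq {a : G} (ha : W2 t a) : th' t a = th t a :=
  le_antisymm (iSup_le fun b => bal h l b.2 ha) ((le_inf le_rfl (th_le ha.mem)).trans (le_th' ha a))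

theorem th'_four (k : Fin 5) :
    (Nat.card (th' t (t k))).Coprime 2 ∧ ∀ a, W2 t a → th' t (t k) ⊓ Cz a ≤ th t a := by
  obtain ⟨d, hd⟩ := exists_ne k
  obtain ⟨g, hg⟩ := h.perm (Equiv.swap k d)
  have g1 : ∀ j, j ≠ k → j ≠ d → Commute (t j) g := fun j h1 h2 =>
    (hg.comm (Equiv.swap_apply_of_ne_of_ne h1 h2)).symm
  have g2 : Commute (t k * t d) g := (h.swap_comm hg).symm
  have hk : t k ∉ AA t ⊓ Cz g := fun hm => hd (h.inj (by
    rw [← conj_eq_of_comm (mem_Cz.1 hm.2).symm, hg, Equiv.swap_apply_left]))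
  have kk : ∀ x, x * t k * t k = x := fun x => by rw [mul_assoc, h.sq, mul_one]
  obtain ⟨hE, h8⟩ := eight h (E := AA t ⊓ Cz g) inf_le_left
    (fun j => if j = k then 1 else if j = d then t k * t d else t j) (fun a b e => by
      simp only at e
      split_ifs at e with a1 b1 b2 a2 b1 b2 b1 b2
      exacts [a1.trans b1.symm, absurd e.symm (h.ne2 hd.symm), absurd e.symm (h.ne1 b),
        absurd e (h.ne2 hd.symm), a2.trans b2.symm, absurd e (h.ne21 hd.symm b), absurd e (h.ne1 a),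
        absurd e.symm (h.ne21 hd.symm a), h.inj e]) (fun j => by
      split_ifs with a1 a2
      exacts [one_mem _, ⟨mul_mem (t_mem k) (t_mem d), mem_Cz.2 g2⟩,
        ⟨t_mem j, mem_Cz.2 (g1 j a1 a2)⟩])
  set θ : G → Subgroup G := fun x => ⨆ a : {a // W2 t a ∧ (a = x ∨ a = x * t k)}, th t a ⊓ Cz (t k) with hθ
  have c1 : ∀ {a x y : G}, a = x ∨ a = x * t k → Commute y (t k) → (Commute y a ↔ Commute y x) := by
    rintro a x y (rfl | rfl) hy
    exacts [Iff.rfl, ⟨fun c => kk x ▸ c.mul_right hy, fun c => c.mul_right hy⟩]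
  have e1 : ∀ {a x : G}, W2 t a → a = x ∨ a = x * t k → θ x = th t a ⊓ Cz (t k) := fun {a x} ha e =>
    le_antisymm (iSup_le fun b y hy => ⟨bal h l b.2.1 ha ⟨hy.1, mem_Cz.2 ((c1 e (mem_Cz.1 hy.2)).2
      ((c1 b.2.2 (mem_Cz.1 hy.2)).1 (mem_Cz.1 (th_le b.2.1.mem hy.1))))⟩, hy.2⟩)
      (le_iSup (fun a : {a // W2 t a ∧ (a = x ∨ a = x * t k)} => th t a ⊓ Cz (t k)) ⟨a, ha, e⟩)
  have r1 : ∀ x ∈ AA t ⊓ Cz g, x ≠ 1 → ∃ a, W2 t a ∧ (a = x ∨ a = x * t k) := fun x hx h1 => by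
    rcases h.mem_AA.1 hx.1 with e | ⟨j, rfl⟩ | e
    · exact absurd e h1
    · exact ⟨_, ⟨j, k, fun e => hk (e ▸ hx), rfl⟩, Or.inr rfl⟩
    · exact ⟨x, e, Or.inl rfl⟩
  have r2 : ∀ a, W2 t a → ∃ x ∈ AA t ⊓ Cz g, x ≠ 1 ∧ (a = x ∨ a = x * t k) := fun a ha => by
    have key : Commute a g ∨ Commute (a * t k) g := by
      obtain ⟨i, j, e, rfl⟩ := ha
      have k1 : ∀ i j, j ≠ k → j ≠ d → Commute (t i * t j) g ∨ Commute (t i * t j * t k) g := fun i j a b => by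
        by_cases a1 : i = k
        · right; rw [a1, h.c k j, kk]; exact g1 j a b
        by_cases a2 : i = d
        · right; rw [a2, h.c d j, mul_assoc, h.c d k]; exact (g1 j a b).mul_left g2
        · exact Or.inl ((g1 i a1 a2).mul_left (g1 j a b))
      by_cases b1 : j ≠ k ∧ j ≠ d
      · exact k1 i j b1.1 b1.2
      by_cases b2 : i ≠ k ∧ i ≠ d
      · rw [h.c i j]; exact k1 j i b2.1 b2.2
      have : (i = k ∧ j = d) ∨ (i = d ∧ j = k) := by omega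
      rcases this with ⟨rfl, rfl⟩ | ⟨rfl, rfl⟩
      exacts [Or.inl g2, Or.inl (h.c _ _ ▸ g2)]
    rcases key with c | c
    · exact ⟨a, ⟨ha.mem, mem_Cz.2 c⟩, ha.ne h, Or.inl rfl⟩
    · refine ⟨_, ⟨mul_mem ha.mem (t_mem k), mem_Cz.2 c⟩, fun e => ?_, Or.inr (kk a).symm⟩
      obtain ⟨i, j, e', rfl⟩ := ha
      exact h.ne21 e' k (by rw [← kk (t i * t j), e, one_mul])
  obtain ⟨o, b⟩ := CL.NS.nsft_two hE h8 (θ := θ) ⟨fun x hx h1 => by
      obtain ⟨a, ha, e⟩ := r1 x hx h1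
      rw [e1 ha e]
      exact fun y hy => mem_Cz.2 ((c1 e (mem_Cz.1 hy.2)).1 (mem_Cz.1 (th_le ha.mem hy.1))),
    fun x hx h1 => by
      obtain ⟨a, ha, e⟩ := r1 x hx h1
      rw [e1 ha e]
      exact coprime_card_iff_not_dvd.1 (coprime_card_of_le inf_le_left (th_odd ha.mem)),
    fun x hx h1 y hy => by
      obtain ⟨a, ha, e⟩ := r1 x hx h1
      rw [e1 ha e]
      exact fun w hw => conj_mem_of_normalizes
        (MSS.le_normalizer_inf (th_inv h ha.mem) (nCz (A_le h (t_mem k)))) hy.1 hw,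
    fun x hx h1 y hy h2 => by
      obtain ⟨a, ha, e⟩ := r1 x hx h1
      obtain ⟨b, hb, e'⟩ := r1 y hy h2
      rw [e1 ha e, e1 hb e']
      exact fun w hw => ⟨bal h l ha hb ⟨hw.1.1, mem_Cz.2 ((c1 e' (mem_Cz.1 hw.1.2)).2 (mem_Cz.1 hw.2))⟩,
        hw.1.2⟩⟩
  have hle : th' t (t k) ≤ signalizerClosure (AA t ⊓ Cz g) θ := iSup_le fun a => by
    obtain ⟨x, hx, h1, e⟩ := r2 a a.2
    rw [← e1 a.2 e]
    exact le_iSup (fun a : {a // a ∈ AA t ⊓ Cz g ∧ a ≠ 1} => θ a) ⟨x, hx, h1⟩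
  refine ⟨coprime_card_of_le hle (coprime_card_iff_not_dvd.2 o), fun a ha y hy => ?_⟩
  obtain ⟨x, hx, h1, e⟩ := r2 a ha
  have : y ∈ θ x := b x hx h1 ▸
    mem_inf.2 ⟨hle hy.1, mem_Cz.2 ((c1 e (mem_Cz.1 (th'_le _ hy.1))).1 (mem_Cz.1 hy.2))⟩
  rw [e1 ha e] at this
  exact this.1

theorem exists_odd : ∃ X : Subgroup G, ¬ 2 ∣ Nat.card X ∧ ∀ a, W2 t a → Oc a ≤ X := by
  obtain ⟨hE, h8⟩ := eight h le_rfl t h.inj t_mem
  have inv : ∀ x ∈ AA t, AA t ≤ normalizer (th' t x : Set G) := fun x hx => le_normalizer_of_cj_le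
    fun y hy => by
      rw [th', cj_iSup]
      exact iSup_mono fun a => (cj_eq_of_mem_normalizer
        (MSS.le_normalizer_inf (th_inv h a.2.mem) (nCz (A_le h hx)) hy)).le
  obtain ⟨o, -⟩ := CL.NS.nsft_two hE h8 (θ := th' t) ⟨fun x _ _ => th'_le x, fun x hx h1 => by
      rcases h.mem_AA.1 hx with e | ⟨k, rfl⟩ | e
      · exact absurd e h1
      · exact coprime_card_iff_not_dvd.1 (th'_four h l k).1
      · rw [th'_eq h l e]; exact coprime_card_iff_not_dvd.1 (th_odd hx),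
    fun x hx _ y hy w hw => conj_mem_of_normalizes (inv x hx) hy hw, fun x hx h1 y hy h2 => by
      rcases h.mem_AA.1 hx with e | ⟨k, rfl⟩ | e
      · exact absurd e h1
      · rcases h.mem_AA.1 hy with e | ⟨j, rfl⟩ | e
        · exact absurd e h2
        · by_cases e : k = j
          · rw [e]; exact inf_le_left
          · exact fun w hw => le_th' ⟨k, j, e, rfl⟩ _ ⟨(th'_four h l k).2 _ ⟨k, j, e, rfl⟩ ⟨hw.1,
              mem_Cz.2 ((mem_Cz.1 (th'_le _ hw.1)).mul_right (mem_Cz.1 hw.2))⟩, hw.2⟩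
        · rw [th'_eq h l e]; exact (th'_four h l k).2 y e
      · rw [th'_eq h l e]; exact le_th' e y⟩
  refine ⟨_, o, fun a ha => le_trans ?_
    (le_iSup (fun a : {a // a ∈ AA t ∧ a ≠ 1} => th' t a) ⟨a, ha.mem, ha.ne h⟩)⟩
  change _ ≤ th' t a
  rw [th'_eq h l ha]; exact le_sup_left

theorem TA_eq {k j m : Fin 5} (e1 : k ≠ j) (e2 : j ≠ m) (e3 : k ≠ m) : TA t = TB t k j m := by
  have w1 : W2 t (t k * t j) := ⟨k, j, e1, rfl⟩
  have w2 : W2 t (t j * t m) := ⟨j, m, e2, rfl⟩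
  have w3 : W2 t (t k * t m) := ⟨k, m, e3, rfl⟩
  have m1 : t k * t j ∈ BB t k j m := mem_sup_left (mem_zpowers _)
  have m2 : t j * t m ∈ BB t k j m := mem_sup_right (mem_zpowers _)
  have m3 : t k * t m ∈ BB t k j m := h.tri k j m ▸ mul_mem m1 m2
  have nA : AA t ≤ normalizer (TB t k j m : Set G) :=
    (le_inf (A_le h w1.mem) (A_le h w2.mem)).trans (nTB h k j m)
  have nC : centralizer (AA t : Set G) ≤ normalizer (TB t k j m : Set G) :=
    (le_inf (CA_le w1.mem) (CA_le w2.mem)).trans (nTB h k j m)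
  have s1 : ∀ b, W2 t b → ⁅Oc b, BB t k j m⁆ ≤ TB t k j m → ⁅Oc b, AA t⁆ ≤ TB t k j m := fun b hb hle =>
    commutator_le.2 fun x hx y hy => by
      obtain ⟨s, hs, c, hc, rfl⟩ := dec (h.AA_pg.to_le (BB_le k j m)) ((BB_le k j m).trans (nOc (A_le h hb.mem)))
        (opOf_coprime 2 _) hx
      have k1 : ∀ a, W2 t a → a ∈ BB t k j m → ⁅c, y⁆ ∈ Oc a := fun a ha hm =>
        L1 h l ha hb hc.1 (Eq.symm (hc.2 a hm)) hy
      have := mul_mem (mul_mem (hle hs) (mem_sup_right (S := _) ⟨⟨k1 _ w1 m1, k1 _ w2 m2⟩, k1 _ w3 m3⟩))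
        (conj_mem_of_normalizes nA hy (inv_mem (hle hs)))
      simp only [commutatorElement_def] at this ⊢
      convert this using 1; group
  have s2 : ∀ a, W2 t a → ∀ b, W2 t b → ⁅Oc b, BB t k j m⁆ ≤ TB t k j m →
      Oc a ⊓ Cz b ≤ TB t k j m ⊔ centralizer (AA t : Set G) := fun a ha b hb hle x hx => by
    have n1 := MSS.le_normalizer_inf (nOc (A_le h ha.mem)) (nCz (A_le h hb.mem))
    have o1 : (Nat.card ↥(Oc a ⊓ Cz b)).Coprime 2 := coprime_card_of_le inf_le_left (opOf_coprime 2 _)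
    obtain ⟨s, hs, c, hc, rfl⟩ := dec h.AA_pg n1 o1 hx
    refine mul_mem_sup (s1 b hb hle ?_) hc.2
    refine (CL.commutator_le_of_mul_centralizer (fun y hy => ?_)).trans
      (commutator_mono (L1' h l hb ha) le_rfl) hs
    obtain ⟨s, hs, c, hc, e⟩ := dec h.AA_pg n1 o1 hy
    exact ⟨s, hs, c, hc.2, e⟩
  have l1 : ⁅Oc (t k * t j), BB t k j m⁆ ≤ TB t k j m := (le_sup_left.trans le_sup_left).trans le_sup_left
  have l2 : ⁅Oc (t j * t m), BB t k j m⁆ ≤ TB t k j m := (le_sup_right.trans le_sup_left).trans le_sup_left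
  have l3 : ⁅Oc (t k * t m), BB t k j m⁆ ≤ TB t k j m := le_sup_right.trans le_sup_left
  have l4 : ∀ {b}, W2 t b → ⨅ a : {a // W2 t a}, Oc (a : G) ≤ Oc b := fun hb =>
    iInf_le (fun a : {a // W2 t a} => Oc (a : G)) ⟨_, hb⟩
  refine le_antisymm (sup_le (iSup_le fun a => ?_) (le_sup_of_le_right (le_inf (le_inf
    (l4 w1) (l4 w2)) (l4 w3)))) (sup_le (sup_le (sup_le
    ((commutator_mono le_rfl (BB_le k j m)).trans (le_TA w1))
    ((commutator_mono le_rfl (BB_le k j m)).trans (le_TA w2)))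
    ((commutator_mono le_rfl (BB_le k j m)).trans (le_TA w3))) fun x hx => ?_)
  · have n := nOc (A_le h a.2.mem)
    have h1 := CL.Std.le_of_four_cent (h.ord2 e2) (h.ord2 e1) (h.comm2 k j j m)
      (fun e => e3 (h.inj (mul_left_cancel (e.trans (h.c k j)))).symm) (opOf_coprime 2 _) (n w2.mem) (n w1.mem)
      (s2 a a.2 _ w1 l1) (s2 a a.2 _ w2 l2) (by rw [h.tri]; exact s2 a a.2 _ w3 l3)
    refine (CL.commutator_le_of_mul_centralizer (S := TB t k j m) (fun y hy => ?_)).trans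
      (commutator_le_left_of_normalizes nA)
    obtain ⟨s, hs, c, hc, e⟩ := (mem_sup_of_normalizes_left nC).1 (h1 hy)
    exact ⟨s, hs, c, hc, e.symm⟩
  · obtain ⟨s, hs, c, hc, rfl⟩ := dec h.AA_pg (MSS.le_normalizer_inf (MSS.le_normalizer_inf
      (nOc (A_le h w1.mem)) (nOc (A_le h w2.mem))) (nOc (A_le h w3.mem)))
      (coprime_card_of_le inf_le_right (opOf_coprime 2 _)) hx
    exact mul_mem (le_TA w3 (commutator_mono inf_le_right le_rfl hs)) (mem_sup_right (mem_iInf.2 fun a =>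
      L2 h l a.2 e1 e2 e3 hc.1 (mem_Cz.1 (CA_le a.2.mem hc.2))))

end Sg

open Sg in
theorem Cf.sig [IsSimpleGroup G] (h : Cf t) (l : Lc t) : ∀ x ∈ Oc (t 0 * t 1), ∀ k, Commute x (t k) := by
  have w1 : W2 t (t 0 * t 1) := ⟨0, 1, by decide, rfl⟩
  have hB : ∀ k j m, k ≠ j → j ≠ m → k ≠ m → Cz (t k * t j) ⊓ Cz (t j * t m) ≤ normalizer (TA t : Set G) :=
    fun k j m e1 e2 e3 => by rw [TA_eq h l e1 e2 e3]; exact nTB h k j m
  have h1 : Oc (t 0 * t 1) ≤ normalizer (TA t : Set G) := fun x hx => by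
    obtain ⟨s, hs, c, hc, rfl⟩ := dec h.AA_pg (nOc (A_le h w1.mem)) (opOf_coprime 2 _) hx
    exact mul_mem (le_normalizer (le_TA w1 hs)) (hB 0 1 2 (by decide) (by decide) (by decide)
      ⟨CA_le w1.mem hc.2, CA_le (mul_mem (t_mem 1) (t_mem 2)) hc.2⟩)
  obtain ⟨g, hg⟩ := h.perm (Equiv.swap 1 2)
  have h2 := h.trick2 (l.l3 _ h1 hB) ⟨g, hB 0 3 4 (by decide) (by decide) (by decide)
    ⟨mem_Cz.2 ((hg.comm (by decide)).mul_right (hg.comm (by decide))),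
      mem_Cz.2 ((hg.comm (by decide)).mul_right (hg.comm (by decide)))⟩, hg⟩
  obtain ⟨X, o, hX⟩ := exists_odd h l
  have h3 : TA t ≤ X := sup_le (iSup_le fun a =>
    (commutator_le_left_of_normalizes (nOc (A_le h a.2.mem))).trans (hX a a.2))
    ((iInf_le _ ⟨_, w1⟩).trans (hX _ w1))
  rcases (normalizer_eq_top_iff.1 h2).eq_bot_or_eq_top with e | e
  · intro x hx k
    exact commutatorElement_eq_one_iff_commute.1
      (mem_bot.1 (e ▸ le_TA w1 (commutator_mem_commutator hx (t_mem k))))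
  · exact absurd (h.ord1 2 ▸ orderOf_dvd_natCard _ (h3 (e ▸ mem_top (t 2)))) o

end CL.L5
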