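import Cfsg.Agent.INV.L5.Tool

/-! # Calculus in the `S₅`-configuration -/

set_option autoImplicit false

namespace CL.L5

open Subgroup Cfsg CL.MSS CL.PComp

variable {G : Type*} [Group G] {t : Fin 5 → G}

theorem Ind.one : Ind t 1 1 := fun k => by simp

theorem Ind.mul {g h : G} {σ ρ : Equiv.Perm (Fin 5)} (a : Ind t g σ) (b : Ind t h ρ) :
    Ind t (g * h) (σ * ρ) := fun k => by
  rw [Equiv.Perm.mul_apply, ← a, ← b]; group

theorem Ind.inv {g : G} {σ : Equiv.Perm (Fin 5)} (a : Ind t g σ) : Ind t g⁻¹ σ⁻¹ := fun k => by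
  have := a (σ⁻¹ k)
  rw [show σ (σ⁻¹ k) = k by simp] at this
  rw [← this]; group

theorem Ind.two {g : G} {σ : Equiv.Perm (Fin 5)} (a : Ind t g σ) (k l : Fin 5) :
    g * (t k * t l) * g⁻¹ = t (σ k) * t (σ l) := by rw [← conj_mul_conj, a, a]

theorem Ind.comm {g : G} {σ : Equiv.Perm (Fin 5)} (a : Ind t g σ) {k : Fin 5} (h : σ k = k) :
    Commute g (t k) := comm_of_conj_eq (by rw [a, h])

theorem Ind.conj {g h : G} {σ ρ : Equiv.Perm (Fin 5)} (a : Ind t g σ) (b : Ind t h ρ) :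
    Ind t (g * h * g⁻¹) (σ * ρ * σ⁻¹) := (a.mul b).mul a.inv

theorem Ind.conj_swap {g h : G} {σ : Equiv.Perm (Fin 5)} {k l : Fin 5} (a : Ind t g σ)
    (b : Ind t h (Equiv.swap k l)) : Ind t (g * h * g⁻¹) (Equiv.swap (σ k) (σ l)) := by
  rw [Equiv.swap_apply_apply]; exact a.conj b

theorem t_mem (k : Fin 5) : t k ∈ AA t := subset_closure ⟨k, rfl⟩

theorem Ind.cj_AA {g : G} {σ : Equiv.Perm (Fin 5)} (a : Ind t g σ) : g •ᶜ AA t = AA t := by
  rw [AA, cj_closure]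
  congr 1
  ext x
  exact ⟨by rintro ⟨_, ⟨k, rfl⟩, rfl⟩; exact ⟨σ k, (a k).symm⟩,
    by rintro ⟨k, rfl⟩; exact ⟨_, ⟨σ⁻¹ k, rfl⟩, by simpa using a (σ⁻¹ k)⟩⟩

theorem Ind.mem_AA {g x : G} {σ : Equiv.Perm (Fin 5)} (a : Ind t g σ) (h : x ∈ AA t) :
    g * x * g⁻¹ ∈ AA t := by rw [← a.cj_AA]; exact conj_mem_cj h

/-- the permutation with prescribed values. -/
noncomputable def pm (f : Fin 5 → Fin 5) (h : Function.Injective f) : Equiv.Perm (Fin 5) :=
  Equiv.ofBijective f (Finite.injective_iff_bijective.1 h)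

@[simp] theorem pm_apply (f : Fin 5 → Fin 5) (h : Function.Injective f) (k : Fin 5) : pm f h k = f k := rfl

theorem exists_perm5 {a b c d e : Fin 5} (h : Function.Injective ![a, b, c, d, e]) :
    ∃ σ : Equiv.Perm (Fin 5), σ 0 = a ∧ σ 1 = b ∧ σ 2 = c ∧ σ 3 = d ∧ σ 4 = e :=
  ⟨pm _ h, rfl, rfl, rfl, rfl, rfl⟩

theorem exists_perm2 {a b : Fin 5} (h : a ≠ b) : ∃ σ : Equiv.Perm (Fin 5), σ 0 = a ∧ σ 1 = b := by
  obtain ⟨c, d, e, h⟩ : ∃ c d e, Function.Injective ![a, b, c, d, e] := by revert a b; decide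
  obtain ⟨σ, h1, h2, -⟩ := exists_perm5 h
  exact ⟨σ, h1, h2⟩

theorem exists_perm3 {a b c : Fin 5} (h1 : a ≠ b) (h2 : b ≠ c) (h3 : a ≠ c) :
    ∃ σ : Equiv.Perm (Fin 5), σ 0 = a ∧ σ 1 = b ∧ σ 2 = c := by
  obtain ⟨d, e, h⟩ : ∃ d e, Function.Injective ![a, b, c, d, e] := by revert a b c; decide
  obtain ⟨σ, h1, h2, h3, -⟩ := exists_perm5 h
  exact ⟨σ, h1, h2, h3⟩

/-- four distinct values in the positions `0, 1, 3, 4`. -/
theorem exists_perm4 {a b d e : Fin 5} (h : Function.Injective ![a, b, d, e]) :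
    ∃ σ : Equiv.Perm (Fin 5), σ 0 = a ∧ σ 1 = b ∧ σ 3 = d ∧ σ 4 = e := by
  obtain ⟨c, h⟩ : ∃ c, Function.Injective ![a, b, c, d, e] := by revert a b d e; decide
  obtain ⟨σ, h1, h2, -, h3, h4⟩ := exists_perm5 h
  exact ⟨σ, h1, h2, h3, h4⟩

/-- the permutations induced by a subgroup. -/
def indS (t : Fin 5 → G) (K : Subgroup G) : Subgroup (Equiv.Perm (Fin 5)) where
  carrier := {σ | ∃ g ∈ K, Ind t g σ}
  one_mem' := ⟨1, one_mem _, Ind.one⟩
  mul_mem' := fun ⟨g, hg, a⟩ ⟨h, hh, b⟩ => ⟨g * h, mul_mem hg hh, a.mul b⟩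
  inv_mem' := fun ⟨g, hg, a⟩ => ⟨g⁻¹, inv_mem hg, a.inv⟩

theorem mem_indS {K : Subgroup G} {σ : Equiv.Perm (Fin 5)} : σ ∈ indS t K ↔ ∃ g ∈ K, Ind t g σ := Iff.rfl

theorem swap_mem_of {P : Subgroup (Equiv.Perm (Fin 5))} {a b c : Fin 5} (h1 : Equiv.swap a b ∈ P)
    (h2 : Equiv.swap b c ∈ P) : Equiv.swap a c ∈ P := by
  by_cases e1 : a = c
  · subst e1; rw [Equiv.swap_self]; exact one_mem P
  by_cases e2 : b = c
  · subst e2; exact h1
  have := mul_mem (mul_mem h1 h2) (inv_mem h1)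
  rwa [← Equiv.swap_apply_apply, Equiv.swap_apply_right, Equiv.swap_apply_of_ne_of_ne (Ne.symm e1)
    (Ne.symm e2)] at this

theorem eq_top_of_star {P : Subgroup (Equiv.Perm (Fin 5))} (a : Fin 5) (h : ∀ k, Equiv.swap a k ∈ P) :
    P = ⊤ := by
  rw [eq_top_iff, ← Equiv.Perm.closure_isSwap, closure_le]
  rintro _ ⟨x, y, -, rfl⟩
  exact swap_mem_of (Equiv.swap_comm a x ▸ h x) (h y)

theorem eq_top_of_chain {P : Subgroup (Equiv.Perm (Fin 5))} (h1 : Equiv.swap 0 1 ∈ P)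
    (h2 : Equiv.swap 1 2 ∈ P) (h3 : Equiv.swap 2 3 ∈ P) (h4 : Equiv.swap 3 4 ∈ P) : P = ⊤ := by
  refine eq_top_of_star 0 fun k => ?_
  fin_cases k
  · exact Equiv.swap_self (0 : Fin 5) ▸ one_mem P
  · exact h1
  · exact swap_mem_of h1 h2
  · exact swap_mem_of (swap_mem_of h1 h2) h3
  · exact swap_mem_of (swap_mem_of (swap_mem_of h1 h2) h3) h4

namespace Cf

variable (h : Cf t)
include h

theorem inv (k : Fin 5) : (t k)⁻¹ = t k := inv_eq_of_mul_eq_one_right (h.sq k)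

theorem c (k l : Fin 5) : t k * t l = t l * t k := (h.comm k l).eq

theorem lc (k l : Fin 5) (x : G) : t k * (t l * x) = t l * (t k * x) := (h.comm k l).left_comm x

theorem cancel (k : Fin 5) (x : G) : t k * (t k * x) = x := by rw [← mul_assoc, h.sq, one_mul]

theorem sq2 (k l : Fin 5) : t k * t l * (t k * t l) = 1 := by
  rw [mul_assoc, h.lc l k, h.cancel, h.sq]

theorem comm1 (k l m : Fin 5) : Commute (t k) (t l * t m) := (h.comm k l).mul_right (h.comm k m)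

theorem comm2 (k l m o : Fin 5) : Commute (t k * t l) (t m * t o) :=
  (h.comm1 k m o).mul_left (h.comm1 l m o)

/-- `t k t l · t l t m = t k t m`. -/
theorem tri (k l m : Fin 5) : t k * t l * (t l * t m) = t k * t m := by rw [mul_assoc, h.cancel]

theorem prod5 {a b c d e : Fin 5} (i : Function.Injective ![a, b, c, d, e]) :
    t a * t b * t c * t d * t e = 1 := by
  obtain ⟨σ, rfl, rfl, rfl, rfl, rfl⟩ := exists_perm5 i
  obtain ⟨g, hg⟩ := h.perm σ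
  rw [← hg, ← hg, ← hg, ← hg, ← hg, conj_mul_conj, conj_mul_conj, conj_mul_conj, conj_mul_conj, h.prod]
  group

/-- the product of two disjoint involutions of weight 2 has weight 4. -/
theorem prod4 {a b c d e : Fin 5} (i : Function.Injective ![a, b, c, d, e]) :
    t a * t b * (t d * t e) = t c := by
  have := h.prod5 i
  rw [mul_assoc (t a * t b * t c), mul_assoc (t a * t b), h.comm1 c d e, ← mul_assoc] at this
  rw [eq_inv_of_mul_eq_one_left this, h.inv]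

theorem prod3 {a b c d e : Fin 5} (i : Function.Injective ![a, b, c, d, e]) :
    t a * t b * t c = t d * t e := by
  rw [← h.prod4 i, ← mul_assoc, h.sq2, one_mul]

theorem conj2 {k l : Fin 5} (e : k ≠ l) : IsConj (t 0 * t 1) (t k * t l) := by
  obtain ⟨σ, rfl, rfl⟩ := exists_perm2 e
  obtain ⟨g, hg⟩ := h.perm σ
  exact isConj_of_eq (hg.two 0 1)

theorem conj1 (k l : Fin 5) : IsConj (t k) (t l) := by
  obtain ⟨g, hg⟩ := h.perm (Equiv.swap k l)
  exact isConj_of_eq (by rw [hg, Equiv.swap_apply_left])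

theorem nconj' {k l : Fin 5} (e : k ≠ l) (m : Fin 5) : ¬ IsConj (t k * t l) (t m) := fun c =>
  h.nconj (((h.conj2 e).trans c).trans (h.conj1 m 2))

theorem ne2 {k l : Fin 5} (e : k ≠ l) : t k * t l ≠ 1 := fun c =>
  h.ne (isConj_one_left.1 (c ▸ h.conj2 e))

theorem inj : Function.Injective t := fun k l e => by
  by_contra c
  exact h.ne2 c (by rw [e, h.sq])

theorem ne1 (k : Fin 5) : t k ≠ 1 := fun c => by
  have : ∀ l, t l = 1 := fun l => isConj_one_right.1 (c ▸ h.conj1 k l)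
  exact h.ne (by rw [this, this, one_mul])

theorem ne21 {k l : Fin 5} (e : k ≠ l) (m : Fin 5) : t k * t l ≠ t m := fun c =>
  h.nconj' e m (c ▸ IsConj.refl _)

theorem eq2 {k l m o : Fin 5} (e : k ≠ l) (c : t k * t l = t m * t o) :
    (k = m ∧ l = o) ∨ (k = o ∧ l = m) := by
  by_cases h1 : k = m
  · subst h1; exact Or.inl ⟨rfl, h.inj (mul_left_cancel c)⟩
  by_cases h2 : k = o
  · subst h2; rw [h.c m] at c; exact Or.inr ⟨rfl, h.inj (mul_left_cancel c)⟩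
  by_cases h3 : l = m
  · subst h3; rw [h.c k] at c; exact absurd (h.inj (mul_left_cancel c)) h2
  by_cases h4 : l = o
  · subst h4; exact absurd (h.inj (mul_right_cancel c)) h1
  by_cases h5 : m = o
  · subst h5; exact absurd (c.trans (h.sq m)) (h.ne2 e)
  obtain ⟨p, i⟩ : ∃ p, Function.Injective ![k, l, p, m, o] := by clear c; revert k l m o; decide
  have := h.prod4 i
  rw [c, h.sq2] at this
  exact absurd this.symm (h.ne1 p)

theorem ord2 {k l : Fin 5} (e : k ≠ l) : orderOf (t k * t l) = 2 :=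
  orderOf_eq_prime (by rw [pow_two, h.sq2]) (h.ne2 e)

theorem ord1 (k : Fin 5) : orderOf (t k) = 2 := orderOf_eq_prime (by rw [pow_two, h.sq]) (h.ne1 k)

theorem mem_AA {x : G} : x ∈ AA t ↔ x = 1 ∨ (∃ k, x = t k) ∨ ∃ k l, k ≠ l ∧ x = t k * t l := by
  refine ⟨fun hx => ?_, ?_⟩
  · have key : ∀ m y, (y = 1 ∨ (∃ k, y = t k) ∨ ∃ k l, k ≠ l ∧ y = t k * t l) →
        (y * t m = 1 ∨ (∃ k, y * t m = t k) ∨ ∃ k l, k ≠ l ∧ y * t m = t k * t l) := by
      rintro m y (rfl | ⟨k, rfl⟩ | ⟨k, l, e, rfl⟩)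
      · exact Or.inr (Or.inl ⟨m, one_mul _⟩)
      · by_cases e : k = m
        · subst e; exact Or.inl (h.sq k)
        · exact Or.inr (Or.inr ⟨k, m, e, rfl⟩)
      · by_cases e1 : l = m
        · subst e1; exact Or.inr (Or.inl ⟨k, by rw [mul_assoc, h.sq, mul_one]⟩)
        by_cases e2 : k = m
        · subst e2; exact Or.inr (Or.inl ⟨l, by rw [h.c k, mul_assoc, h.sq, mul_one]⟩)
        obtain ⟨d, f, i, e3⟩ : ∃ d f, Function.Injective ![k, l, m, d, f] ∧ d ≠ f := by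
          revert k l m; decide
        exact Or.inr (Or.inr ⟨d, f, e3, h.prod3 i⟩)
    induction hx using closure_induction_right with
    | one => exact Or.inl rfl
    | mul_right x _ y hy ih => obtain ⟨m, rfl⟩ := hy; exact key m x ih
    | mul_inv_cancel x _ y hy ih => obtain ⟨m, rfl⟩ := hy; rw [h.inv]; exact key m x ih
  · rintro (rfl | ⟨k, rfl⟩ | ⟨k, l, -, rfl⟩)
    exacts [one_mem _, t_mem k, mul_mem (t_mem k) (t_mem l)]

theorem comm_AA {x y : G} (hx : ∀ k, Commute x (t k)) (hy : y ∈ AA t) : Commute x y := by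
  rcases h.mem_AA.1 hy with rfl | ⟨k, rfl⟩ | ⟨k, l, -, rfl⟩
  exacts [Commute.one_right _, hx k, (hx k).mul_right (hx l)]

theorem AA_comm {x y : G} (hx : x ∈ AA t) (hy : y ∈ AA t) : Commute x y :=
  h.comm_AA (fun k => (h.comm_AA (h.comm k) hx).symm) hy

theorem AA_sq {x : G} (hx : x ∈ AA t) : x * x = 1 := by
  rcases h.mem_AA.1 hx with rfl | ⟨k, rfl⟩ | ⟨k, l, -, rfl⟩
  exacts [one_mul _, h.sq k, h.sq2 k l]

theorem AA_pg : IsPGroup 2 (AA t) := fun x => ⟨1, Subtype.ext (by simpa [pow_two] using h.AA_sq x.2)⟩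

/-- an element of `A` conjugate to `t 0 * t 1` has weight 2. -/
theorem wt2 {x : G} (hx : x ∈ AA t) (c : IsConj (t 0 * t 1) x) : ∃ k l, k ≠ l ∧ x = t k * t l := by
  rcases h.mem_AA.1 hx with rfl | ⟨k, rfl⟩ | h1
  · exact absurd (isConj_one_left.1 c) h.ne
  · exact absurd c (h.nconj' (by decide) k)
  · exact h1

theorem wt4 {x : G} (hx : x ∈ AA t) (c : IsConj (t 2) x) : ∃ k, x = t k := by
  rcases h.mem_AA.1 hx with rfl | h1 | ⟨k, l, e, rfl⟩
  · exact absurd (isConj_one_left.1 c) (h.ne1 2)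
  · exact h1
  · exact absurd c.symm (h.nconj' e 2)

theorem mem_JJ {a b d e : Fin 5} (i : Function.Injective ![a, b, d, e]) : t d * t e ∈ JJ (t a * t b) := by
  obtain ⟨e1, e2, e3, c, i5⟩ : a ≠ b ∧ d ≠ e ∧ ¬ (d = a ∧ e = b ∨ d = b ∧ e = a) ∧
    ∃ c, Function.Injective ![a, b, c, d, e] := by revert a b d e; decide
  refine ⟨(h.conj2 e1).symm.trans (h.conj2 e2), h.comm2 _ _ _ _, fun c => e3 (h.eq2 e2 c), ?_⟩
  · rw [h.prod4 i5]; exact h.nconj' e1 c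

theorem mem_LL {a b d e : Fin 5} (i : Function.Injective ![a, b, d, e]) : t d * t e ∈ LL (t a * t b) :=
  subset_closure (h.mem_JJ i)

/-- the elements of `A ∩ J(t 0 t 1)`. -/
theorem JJ_AA {x : G} (hx : x ∈ AA t) (hJ : x ∈ JJ (t 0 * t 1)) :
    x = t 3 * t 4 ∨ x = t 2 * t 3 ∨ x = t 2 * t 4 := by
  obtain ⟨k, l, e, rfl⟩ := h.wt2 hx hJ.1
  have k1 : ∀ m, m ≠ 0 → m ≠ 1 → t 0 * t m ∉ JJ (t 0 * t 1) ∧ t 1 * t m ∉ JJ (t 0 * t 1) :=
    fun m h0 h1 => ⟨fun c => c.2.2.2 (by rw [h.c 0 1, h.tri, h.c 1 0]; exact h.conj2 h1.symm),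
      fun c => c.2.2.2 (by rw [h.tri]; exact h.conj2 h0.symm)⟩
  have k2 : t 0 * t 1 ∉ JJ (t 0 * t 1) := fun c => c.2.2.1 rfl
  have key : ∀ k l : Fin 5, k < l → t k * t l ∈ JJ (t 0 * t 1) →
      t k * t l = t 3 * t 4 ∨ t k * t l = t 2 * t 3 ∨ t k * t l = t 2 * t 4 := fun k l e hJ => by
    have : (k = 0 ∧ l = 1) ∨ ((k = 0 ∨ k = 1) ∧ l ≠ 0 ∧ l ≠ 1) ∨ (k = 3 ∧ l = 4) ∨ (k = 2 ∧ l = 3) ∨
      (k = 2 ∧ l = 4) := by clear hJ; revert k l; decide
    rcases this with ⟨rfl, rfl⟩ | ⟨rfl | rfl, a, b⟩ | ⟨rfl, rfl⟩ | ⟨rfl, rfl⟩ | ⟨rfl, rfl⟩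
    exacts [absurd hJ k2, absurd hJ (k1 l a b).1, absurd hJ (k1 l a b).2, Or.inl rfl,
      Or.inr (Or.inl rfl), Or.inr (Or.inr rfl)]
  rcases lt_or_gt_of_ne e with e | e
  · exact key k l e hJ
  · rw [h.c k l] at hJ ⊢; exact key l k e hJ

end Cf

end CL.L5
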