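import Cfsg.Agent.TECH.SylIn
import Cfsg.Agent.SIG.PBase
import Cfsg.Prelude.Def_CaseTheorems
import Cfsg.Prelude.Def_TwoFusion

/-! # Simple groups with a Sylow 2-subgroup `W ≀ 2`, `W` semidihedral or wreathed: definitions

Model: `G = L₅^±(q)`, `W` a Sylow 2-subgroup of `GL₂^±(q)`,
`τ (A, B) = diag (A, B, det⁻¹)`, `s` swaps the two blocks. -/

set_option autoImplicit false

namespace CL.L5

open Subgroup Cfsg CL.MSS CL.PComp

/-- The facts on a semidihedral or wreathed 2-group `W` that are used.  `z` is the central involution,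
`e` a noncentral involution with largest centraliser `B = C(e)`, `n` swaps `e` and `e z`,
`i` is an element of order 4 of the (cyclic) derived group. -/
structure WF {W : Type*} [Group W] (z e n i : W) : Prop where
  sw : IsQuasiDihedral W ∨ IsWreathed W
  pg : IsPGroup 2 W
  aut : IsPGroup 2 (MulAut W)
  z_ne : z ≠ 1
  z_sq : z * z = 1
  z_cen : z ∈ center W
  z_uniq : ∀ x ∈ center W, x * x = 1 → x = 1 ∨ x = z
  ab : ∀ x ∉ center W, ∀ a b, Commute a x → Commute b x → Commute a b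
  i_comm : ∃ p q, i = p * q * p⁻¹ * q⁻¹
  i_sq : i * i = z
  i_nc : i ∉ center W
  i_conj : ∀ y, y * i * y⁻¹ = i ∨ y * i * y⁻¹ = i * z
  i_uniq : ∀ p q x, x = p * q * p⁻¹ * q⁻¹ → x * x = z → x = i ∨ x = i * z
  step : ∀ a ∉ center W, ∃ (k : ℕ) (y : W), y * a ^ k * y⁻¹ = a ^ k * z
  emb : ∀ x ∉ center W, ∀ f : centralizer ({x} : Set W) →* W, Function.Injective f →
    ∀ t, t * t = 1 → (∀ c, Commute t (f c)) → t ∈ f.range
  cyc : ∃ ζ ∈ center W, ∀ x ∈ center W, ∃ k : ℕ, x = ζ ^ k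
  acyc : ∃ a₀, Commute a₀ i ∧ ∀ a, Commute a i → ∃ k : ℕ, ∃ ζ ∈ center W, a = a₀ ^ k * ζ
  e_sq : e * e = 1
  e_nc : e ∉ center W
  n_e : n * e * n⁻¹ = e * z
  rank2 : ∀ a b, a * a = 1 → b * b = 1 → Commute a b →
    a = 1 ∨ b = 1 ∨ a = b ∨ a = z ∨ b = z ∨ a * b = z
  big : ∀ a ∉ center W, a * a = 1 →
    Nat.card (centralizer ({e} : Set W)) ≤ Nat.card (centralizer ({a} : Set W)) → ∃ y, y * a * y⁻¹ = e
  typ : ∀ a ∉ center W, a * a = 1 → (∃ y, y * a * y⁻¹ = e) ∨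
    ((∃ ζ ∈ center W, ζ * ζ = z) ∧ (∀ x, x * x ≠ a) ∧ ∀ y, ¬ Commute a (y * e * y⁻¹))
  fixB : ∀ b, Commute b e → Commute b n → b ∈ center W
  dich : Commute e i ∨ ∀ x, x * x ∉ center W → x * x * (x * x) ≠ 1
  det : ∃ d : W →* W, (∀ a, d a ∈ center W) ∧ ∀ a ∉ center W, a * a = 1 → d a = z
  d8 : ∃ u v : W, u * u = 1 ∧ v * v = 1 ∧ u * v * (u * v) = z

variable {G : Type*} [Group G]

/-- the centraliser of an element. -/
abbrev Cz (a : G) : Subgroup G := centralizer {a}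

/-- the core of the centraliser of an element. -/
abbrev Oc (a : G) : Subgroup G := opOf 2 (Cz a)

section frames

variable {W : Type*} [Group W]

/-- the second factor `V = W₂`. -/
def kap (τ : W × W →* G) : W →* G := τ.comp (MonoidHom.inr W W)

@[simp] theorem kap_apply (τ : W × W →* G) (b : W) : kap τ b = τ (1, b) := rfl

/-- A frame: `S = T⟨s⟩ ≅ W ≀ 2` is a Sylow 2-subgroup of `G`, `T = τ (W × W)`. -/
structure Fr (τ : W × W →* G) (s : G) : Prop where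
  inj : Function.Injective τ
  s2 : s * s = 1
  sw : ∀ a b, s * τ (a, b) * s⁻¹ = τ (b, a)
  sT : s ∉ τ.range
  syl : SylIn 2 (τ.range ⊔ zpowers s) ⊤

/-- A twisted frame: the fusion of elements of `V = τ (1 × W)` in `C₁ = C(z₁)`, `z₁ = τ (z, 1)`, takes place
in a subgroup `K` of which `V` is a Sylow 2-subgroup. -/
structure Tw (τ : W × W →* G) (s : G) (z : W) (K : Subgroup G) : Prop extends Fr τ s where
  sylK : SylIn 2 (kap τ).range K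
  le : K ≤ Cz (τ (z, 1))
  ctl : ∀ b g, Commute g (τ (z, 1)) → g * τ (1, b) * g⁻¹ ∈ τ.range →
    ∃ k ∈ K, ∃ b', k * τ (1, b) * k⁻¹ = τ (1, b') ∧ g * τ (1, b) * g⁻¹ = τ (1, b')

/-- A good frame: `V = τ (1 × W)` is strongly closed in `T` with respect to `C₁ = C(z₁)`, `z₁ = τ (z, 1)`,
with the fusion pattern of a simple group. -/
structure Good (τ : W × W →* G) (s : G) (z : W) : Prop extends Fr τ s where
  scV : ∀ b g, Commute g (τ (z, 1)) → ∀ a' b', g * τ (1, b) * g⁻¹ = τ (a', b') → a' = 1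
  ni : ∀ χ : W →* ℤˣ, (∀ b b' g, Commute g (τ (z, 1)) → g * τ (1, b) * g⁻¹ = τ (1, b') → χ b = χ b') →
    χ = 1
  cls : ∀ b, b * b = 1 → b ≠ 1 → ∃ g, Commute g (τ (z, 1)) ∧ g * τ (1, b) * g⁻¹ = τ (1, z)

/-- `U = {τ (a, ψ a)}` is centralised by an element `ρ` which permutes the involutions of `B₂`. -/
structure PreU (τ : W × W →* G) (s : G) (z e : W) (ψ : W →* W) (ρ : G) : Prop extends Good τ s z where
  ψc : ∀ a, ψ a ∈ center W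
  ρU : ∀ a, Commute ρ (τ (a, ψ a))
  ρz : ρ * τ (1, z) * ρ⁻¹ = τ (1, e)
  ρe : ρ * τ (1, e) * ρ⁻¹ = τ (1, e * z)
  ρB : ∀ b, Commute b e → ∃ b', Commute b' e ∧ ρ * τ (1, b) * ρ⁻¹ = τ (1, b')

/-- `U` is strongly closed as well. -/
structure Pre (τ : W × W →* G) (s : G) (z e : W) (ψ : W →* W) (ρ : G) : Prop
    extends PreU τ s z e ψ ρ where
  scU : ∀ a g, Commute g (τ (z, 1)) → ∀ a' b', g * τ (a, ψ a) * g⁻¹ = τ (a', b') → b' = ψ a'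
  one : ∀ b, b * b = 1 → b ≠ 1 → ∃ g, (∀ a, Commute g (τ (a, ψ a))) ∧ g * τ (1, b) * g⁻¹ = τ (1, z)

/-- The fusion pattern of `L₅^±(q)`. -/
structure Sit (τ : W × W →* G) (s : G) (z e : W) (ψ : W →* W) (ρ : G) : Prop
    extends Pre τ s z e ψ ρ where
  ψe : ψ e = z

/-- the five involutions of weight 4 (`t k = -diag` with `+1` in position `k`). -/
def tt (τ : W × W →* G) (z e : W) : Fin 5 → G :=
  ![τ (e, z), τ (e * z, z), τ (z, z), τ (z, e), τ (z, e * z)]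

end frames

/-- `g` induces the permutation `σ` on the `t k`. -/
def Ind (t : Fin 5 → G) (g : G) (σ : Equiv.Perm (Fin 5)) : Prop := ∀ k, g * t k * g⁻¹ = t (σ k)

/-- the elementary abelian group of order 16. -/
def AA (t : Fin 5 → G) : Subgroup G := closure (Set.range t)

/-- The `S₅`-configuration of involutions. -/
structure Cf (t : Fin 5 → G) : Prop where
  sq : ∀ k, t k * t k = 1
  comm : ∀ k l, Commute (t k) (t l)
  prod : t 0 * t 1 * t 2 * t 3 * t 4 = 1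
  ne : t 0 * t 1 ≠ 1
  nconj : ¬ IsConj (t 0 * t 1) (t 2)
  perm : ∀ σ : Equiv.Perm (Fin 5), ∃ g, Ind t g σ
  inv1 : ∀ y, y * y = 1 → Commute y (t 0 * t 1) → ∃ g, Commute g (t 0 * t 1) ∧ g * y * g⁻¹ ∈ AA t
  invH : ∀ y, y * y = 1 → Commute y (t 0 * t 1) → Commute y (t 3 * t 4) →
    ∃ g, Commute g (t 0 * t 1) ∧ Commute g (t 3 * t 4) ∧ g * y * g⁻¹ ∈ AA t
  inv0 : ∀ y, y * y = 1 → Commute y (t 0) → Commute y (t 1) →
    ∃ g, Commute g (t 0) ∧ Commute g (t 1) ∧ g * y * g⁻¹ ∈ AA t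
  invX : ∀ M : Subgroup G, (∀ k l, k ≠ 2 → l ≠ 2 → k ≠ l → Cz (t 2) ⊓ Cz (t k * t l) ≤ M) →
    ∀ y ∈ M, y * y = 1 → ∃ m ∈ M, m * y * m⁻¹ ∈ AA t

/-- For `a` of weight 2: the involutions of the `L₃^±(q)`-factor of `C(a)`. -/
def JJ (a : G) : Set G := {b | IsConj a b ∧ Commute a b ∧ b ≠ a ∧ ¬ IsConj a (a * b)}

/-- For `a` of weight 2: the `L₃^±(q)`-factor of `C(a)`. -/
def LL (a : G) : Subgroup G := closure (JJ a)

/-- the subgroup generated by the `p`-elements of `C_L(a)`. -/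
def Kp (p : ℕ) (L : Subgroup G) (a : G) : Subgroup G :=
  closure {x | x ∈ L ∧ Commute x a ∧ ∃ k : ℕ, x ^ p ^ k = 1}

/-- The structure of `C(z₁)` modulo its core. -/
structure Lb {W : Type*} [Group W] (τ : W × W →* G) (z : W) (ψ : W →* W) {N : Type*} [Group N]
    (π : LL (τ (z, 1)) →* N) : Prop where
  simple : IsSimpleGroup N
  sylN : ∃ P : Sylow 2 N, IsQuasiDihedral (P : Subgroup N) ∨ IsWreathed (P : Subgroup N)
  surj : Function.Surjective π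
  ker : ∀ x, π x = 1 ↔ (x : G) ∈ Oc (τ (z, 1))
  sylV : SylIn 2 (kap τ).range (LL (τ (z, 1)))
  cls : ∀ b, b ∈ JJ (τ (z, 1)) ↔ ∃ g ∈ LL (τ (z, 1)), g * τ (1, z) * g⁻¹ = b
  inv_mem : ∀ x ∈ LL (τ (z, 1)), x * x = 1 → x ≠ 1 → x ∈ JJ (τ (z, 1))
  UL : ∀ a, ∀ l ∈ LL (τ (z, 1)), τ (a, ψ a) * l * (τ (a, ψ a))⁻¹ * l⁻¹ ∈ Oc (τ (z, 1))
  fr : ∀ g, Commute g (τ (z, 1)) → ∃ l ∈ LL (τ (z, 1)), ∃ c, Commute c (τ (z, 1)) ∧
    (∀ b, Commute c (τ (1, b))) ∧ g = l * c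
  odd : ∀ x, Commute x (τ (z, 1)) → Odd (orderOf x) →
    (∀ l ∈ LL (τ (z, 1)), x * l * x⁻¹ * l⁻¹ ∈ Oc (τ (z, 1))) →
    (∀ a g, Commute g (τ (z, 1)) →
      x * (g * τ (a, ψ a) * g⁻¹) * x⁻¹ * (g * τ (a, ψ a) * g⁻¹)⁻¹ ∈ Oc (τ (z, 1))) → x ∈ Oc (τ (z, 1))

/-- After the signalizer functor argument. -/
structure Lq {W : Type*} [Group W] (τ : W × W →* G) (z : W) (ψ : W →* W) {N : Type*} [Group N]
    (π : LL (τ (z, 1)) →* N) : Prop extends Lb τ z ψ π where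
  OL : ∀ x ∈ Oc (τ (z, 1)), ∀ l ∈ LL (τ (z, 1)), Commute x l
  UL' : ∀ a, ∀ l ∈ LL (τ (z, 1)), Commute (τ (a, ψ a)) l
  perf : commutator (LL (τ (z, 1))) = ⊤

/-- The three local facts used by the signalizer functor argument. -/
structure Lc (t : Fin 5 → G) : Prop where
  l1 : ∀ k l, k ≠ l → ∀ x ∈ Oc (t k * t l), Commute x (t 0 * t 1) →
    ∀ m, x * t m * x⁻¹ * t m ∈ Oc (t 0 * t 1)
  l2 : ∀ k l m, k ≠ l → l ≠ m → k ≠ m → ∀ x ∈ Oc (t k * t l) ⊓ Oc (t l * t m) ⊓ Oc (t k * t m),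
    Commute x (t 0 * t 1) → x ∈ Oc (t 0 * t 1)
  l3 : ∀ M : Subgroup G, Oc (t 0 * t 1) ≤ M →
    (∀ k l m, k ≠ l → l ≠ m → k ≠ m → Cz (t k * t l) ⊓ Cz (t l * t m) ≤ M) → Cz (t 0 * t 1) ≤ M

/-- What the identification uses, without the prime. -/
structure Ld₀ (t : Fin 5 → G) : Prop extends Cf t where
  cls : ∀ b, b ∈ JJ (t 0 * t 1) ↔ ∃ g ∈ LL (t 0 * t 1), g * (t 3 * t 4) * g⁻¹ = b
  inv_mem : ∀ x ∈ LL (t 0 * t 1), x * x = 1 → x ≠ 1 → x ∈ JJ (t 0 * t 1)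
  tr2 : ∀ b ∈ JJ (t 0 * t 1), ∀ b' ∈ JJ (t 0 * t 1), Commute b b' → b ≠ b' →
    ∃ g, Commute g (t 0 * t 1) ∧ g * b * g⁻¹ = t 3 * t 4 ∧ g * b' * g⁻¹ = t 2 * t 3
  swap : ∃ g ∈ LL (t 0 * t 1), Ind t g (Equiv.swap 3 4)
  gen : ∀ K : Subgroup G, LL (t 0 * t 1) ≤ K → LL (t 3 * t 4) ≤ K → K = ⊤
  genL : ∀ M : Subgroup G, LL (t 0 * t 1) ⊓ Cz (t 3 * t 4) ≤ M → LL (t 0 * t 1) ⊓ Cz (t 2 * t 3) ≤ M →
    LL (t 0 * t 1) ⊓ Cz (t 2 * t 4) ≤ M → LL (t 0 * t 1) ≤ M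
  odd12 : Odd (Nat.card ↥(LL (t 0 * t 1) ⊓ LL (t 3 * t 4)))
  cen0 : ∀ l ∈ LL (t 0 * t 1), Commute l (t 0)

/-- What the identification uses. -/
structure Ld (t : Fin 5 → G) (p : ℕ) : Prop extends Ld₀ t where
  kc : ∀ y ∈ Kp p (LL (t 3 * t 4)) (t 0 * t 1), ∀ l ∈ LL (t 0 * t 1), Commute y l

/-- Facts on `Γ = SL₃^±(q)`, `q` a power of the odd prime `p`, `a = diag (-1, -1, 1)`, `b = diag (1, -1, -1)`,
`K₁, K₂` the two blocks. -/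
structure M3 {Γ : Type*} [Group Γ] (p : ℕ) (a b : Γ) (K₁ K₂ : Subgroup Γ) : Prop where
  prime : p.Prime
  a_sq : a * a = 1
  b_sq : b * b = 1
  a_ne : a ≠ 1
  b_ne : b ≠ 1
  ab_ne : a ≠ b
  comm : Commute a b
  K1 : K₁ = Kp p ⊤ a
  K2 : K₂ = Kp p ⊤ b
  a_mem : a ∈ K₁
  b_mem : b ∈ K₂
  tor : ¬ p ∣ Nat.card ↥(Cz a ⊓ Cz b)
  oK : ∀ N : Subgroup Γ, N ≤ K₁ → K₁ ≤ normalizer (N : Set Γ) → Odd (Nat.card N) → N = ⊥
  al : ∀ N : Subgroup Γ, N ≤ Cz a → Cz a ≤ normalizer (N : Set Γ) → Odd (Nat.card N) →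
    ∀ x ∈ N, ∀ y, Commute y a → Commute x y
  zc : Nat.card (center Γ) = 1 ∨ (Nat.card (center Γ) = 3 ∧ p ≠ 3)
  perf : commutator Γ = ⊤

/-- Additional facts on `Γ = SU₃(3)`. -/
structure U3 {Γ : Type*} [Group Γ] (a b : Γ) (K₁ : Subgroup Γ) : Prop where
  zc : center Γ = ⊥
  u1 : Nat.card ↥(Cz a ⊓ Cz b) = 16
  exp4 : ∀ x, Commute x a → Commute x b → x ^ 4 = 1
  sq : ∃ x, Commute x a ∧ Commute x b ∧ x * x = b
  u2 : Nat.card (Cz a) = 96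
  u3 : ∀ y ∈ K₁, orderOf y = 3 → ∀ x, Commute x a → Commute x y → (∃ k : ℕ, x ^ 2 ^ k = 1) →
    ∀ w, Commute w a → Commute x w
  u4 : Nonempty (K₁ ≃* Matrix.SpecialLinearGroup (Fin 2) (ZMod 3))

/-- The structure of `C(z₁)` and `C(A)` in the small cases `U₃(3)`, `M₁₁`. -/
structure Sm {W : Type*} [Group W] (τ : W × W →* G) (z e : W) : Prop where
  split : ∀ g, Commute g (τ (z, 1)) → ∃ l ∈ LL (τ (z, 1)), ∃ c, Commute c (τ (z, 1)) ∧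
    (∀ l' ∈ LL (τ (z, 1)), Commute c l') ∧ g = l * c
  zL : ∀ l ∈ LL (τ (z, 1)), (∀ l' ∈ LL (τ (z, 1)), Commute l l') → l = 1
  cA : ∀ y, (∀ k, Commute y (tt τ z e k)) → ∃ a b, Commute a e ∧ Commute b e ∧ y = τ (a, b)
  c12 : ∀ y, (∀ l ∈ LL (τ (z, 1)), Commute y l) → (∀ l ∈ LL (τ (1, z)), Commute y l) → y = 1
  cardΓ : Nat.card ↥(Cz (τ (z, 1)) ⊓ centralizer (LL (τ (z, 1)) : Set G)) = 3 * Nat.card W

/-- the local hypothesis under which `Ld.kc` is proved. -/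
structure Typ (t : Fin 5 → G) (p : ℕ) : Prop where
  prime : p.Prime
  tor : ¬ p ∣ Nat.card ↥(LL (t 0 * t 1) ⊓ Cz (t 3 * t 4) ⊓ Cz (t 2 * t 3))
  oK : ∀ N : Subgroup G, N ≤ Kp p (LL (t 0 * t 1)) (t 3 * t 4) →
    Kp p (LL (t 0 * t 1)) (t 3 * t 4) ≤ normalizer (N : Set G) → Odd (Nat.card N) → N = ⊥

end CL.L5
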