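import Cfsg.Agent.INV.L5.TT
import Cfsg.Agent.INV.Prod2.Tools

/-! # First fusion facts in a frame

`T = τ.range`, `S = T ⊔ zpowers s`, `z₁ = τ (z,1)`, `z₂ = τ (1,z)`.  Coordinates: file `TT`. -/

set_option autoImplicit false
set_option linter.unusedSectionVars false

namespace CL.L5

open Subgroup Cfsg CL.MSS CL.PComp

variable {G W : Type*} [Group G] [Finite G] [Group W] [Finite W] {τ : W × W →* G} {s ρ : G} {z e n i : W}
  {ψ : W →* W}

namespace Fr

variable (w : WF z e n i) (F : Fr τ s)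
include w F

/-- A central involution of `S` is `τ (z, z)`.  (`τ (a,b) s` does not commute with `τ (z,1)`.) -/
theorem cen {x : G} (hx : x ∈ τ.range ⊔ zpowers s) (h2 : x * x = 1)
    (hc : ∀ y ∈ τ.range ⊔ zpowers s, Commute x y) : x = 1 ∨ x = τ (z, z) := by
  rcases F.mem_S.1 hx with ⟨a, b, rfl⟩ | ⟨a, b, rfl⟩
  · have h1 := conj_eq_of_comm (hc s (mem_sup_right (mem_zpowers s))).symm
    rw [F.sw, F.eq_iff] at h1
    obtain ⟨rfl, -⟩ := h1
    rw [τ_mul, F.eq_one_iff] at h2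
    have h3 : b ∈ center W := mem_center_iff.2 fun y =>
      (F.comm_iff.1 (hc _ (mem_sup_left (τ_mem τ y 1)))).1.symm
    rcases w.z_uniq b h3 h2.1 with rfl | rfl
    exacts [Or.inl (τ_one τ), Or.inr rfl]
  · have h1 := conj_eq_of_comm (hc _ (mem_sup_left (τ_mem τ z 1)))
    rw [F.outer_conj, F.eq_iff, mul_one, mul_inv_cancel] at h1
    exact absurd h1.1.symm w.z_ne

/-- `R = (W × C(x))^g ≤ S` implies `R ≤ T`.  Suppose `σ ∈ R \ T`.  For an outer element `ζ`, `C_T(ζ)` meets `τ (W × 1)` trivially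
(`outer_conj`), so `Prod.snd` embeds `C_T(ζ)` into `W`.  If a central element `ζ` of `R` were outer, `R ⊓ T ≤ C_T(ζ)` would have
order `≥ |W| |C(x)| / 2 > |W|` (`1, z, x ∈ C(x)`; `relIndex_T`).  So `z₁^g` and `τ (1, c)^g` (`c ∈ C(x)`, abelian by `ab`) lie in
`C_T(σ)`; `f c = snd (τ⁻¹ (τ (1,c)^g))` and `t = snd (τ⁻¹ (z₁^g))` contradict `emb`. -/
theorem LT {g : G} {x : W} (hx : x ∉ center W)
    (h : ∀ a c, Commute c x → g * τ (a, c) * g⁻¹ ∈ τ.range ⊔ zpowers s) :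
    ∀ a c, Commute c x → g * τ (a, c) * g⁻¹ ∈ τ.range := by
  have fst : ∀ {p q u v : W}, Commute (τ (p, q) * s) (τ (u, v)) → u = p * v * p⁻¹ := fun hc => by
    have h1 := conj_eq_of_comm hc
    rw [F.outer_conj, F.eq_iff] at h1
    exact h1.1.symm
  have cm : ∀ a₁ ∈ center W, ∀ c₁, Commute c₁ x → ∀ a c, Commute c x →
      Commute (g * τ (a₁, c₁) * g⁻¹) (g * τ (a, c) * g⁻¹) := fun a₁ h1 c₁ h2 a c h3 =>
    comm_conj (τ_comm τ (mem_center_iff.1 h1 a).symm (w.ab x hx _ _ h2 h3)) g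
  have inn : ∀ a₁ ∈ center W, ∀ c₁, Commute c₁ x → ∃ u v, g * τ (a₁, c₁) * g⁻¹ = τ (u, v) := by
    intro a₁ h1 c₁ h2
    refine (F.mem_S.1 (h a₁ c₁ h2)).resolve_right fun ⟨p, q, e1⟩ => ?_
    set R := ((⊤ : Subgroup W).prod (Cz x)).map ((MulAut.conj g).toMonoidHom.comp τ) with hR
    have hm : ∀ y ∈ R, ∃ a c, Commute c x ∧ y = g * τ (a, c) * g⁻¹ := fun y ⟨b, hb, e2⟩ =>
      ⟨b.1, b.2, mem_Cz.1 hb.2, e2.symm⟩
    have hRS : R ≤ τ.range ⊔ zpowers s := fun y hy => by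
      obtain ⟨a, c, h3, rfl⟩ := hm y hy
      exact h a c h3
    have c1 : Nat.card R = Nat.card W * Nat.card (Cz x) := by
      rw [← Nat.card_congr (Subgroup.equivMapOfInjective _ _
        ((MulAut.conj g).injective.comp F.inj)).toEquiv, Nat.card_congr (prodEquiv _ _).toEquiv,
        Nat.card_prod, card_top]
    have c2 : τ.range.relIndex R ≤ 2 :=
      F.relIndex_T ▸ relIndex_le_of_le_right hRS (by rw [F.relIndex_T]; omega)
    have k : ∀ y : τ.range.subgroupOf R, ∃ v, ((y : R) : G) = τ (p * v * p⁻¹, v) := fun y => by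
      obtain ⟨u, v, e2⟩ := mem_T.1 (mem_subgroupOf.1 y.2)
      obtain ⟨a, c, h3, e3⟩ := hm _ (y : R).2
      have := cm a₁ h1 c₁ h2 a c h3
      rw [e1, ← e3, e2] at this
      exact ⟨v, by rw [e2, fst this]⟩
    choose f hf using k
    have c3 := Nat.card_le_card_of_injective f fun y y' e2 =>
      Subtype.ext (Subtype.ext (by rw [hf, hf, e2]))
    have c4 := (τ.range.subgroupOf R).card_mul_index
    have c5 : 2 < Nat.card (Cz x) := by
      have := Fintype.ofFinite (Cz x)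
      rw [Nat.card_eq_fintype_card, Fintype.two_lt_card_iff]
      refine ⟨1, ⟨z, mem_Cz.2 (w.zc x).symm⟩, ⟨x, mem_Cz.2 (Commute.refl x)⟩,
        fun e2 => w.z_ne (congrArg Subtype.val e2).symm, fun e2 => hx ?_, fun e2 => hx ?_⟩
      · rw [← show (1 : W) = x from congrArg Subtype.val e2]; exact one_mem _
      · rw [← show z = x from congrArg Subtype.val e2]; exact w.z_cen
    have c6 : 0 < Nat.card W := Nat.card_pos
    change _ * τ.range.relIndex R = _ at c4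
    nlinarith [Nat.mul_le_mul c3 c2]
  intro a₀ c₀ h0
  rcases F.mem_S.1 (h a₀ c₀ h0) with ⟨a, b, e1⟩ | ⟨p, q, e1⟩
  · exact e1 ▸ τ_mem τ a b
  exfalso
  have inn' : ∀ a₁ ∈ center W, ∀ c₁, Commute c₁ x → ∃ v, g * τ (a₁, c₁) * g⁻¹ = τ (p * v * p⁻¹, v) := by
    intro a₁ h1 c₁ h2
    obtain ⟨u, v, e2⟩ := inn a₁ h1 c₁ h2
    have := (cm a₁ h1 c₁ h2 a₀ c₀ h0).symm
    rw [e1, e2] at this
    exact ⟨v, by rw [e2, fst this]⟩
  obtain ⟨t, ht⟩ := inn' z w.z_cen 1 (Commute.one_left x)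
  choose f hf using fun c : Cz x => inn' 1 (one_mem _) c (mem_Cz.1 c.2)
  obtain ⟨c, hc⟩ := w.emb x hx (MonoidHom.mk' f fun c d => (F.eq_iff.1 ((hf (c * d)).symm.trans (by
      rw [← τ_mul, ← hf, ← hf, conj_mul_conj, τ_mul, one_mul, coe_mul]))).2)
    (fun c d e2 => Subtype.ext (F.eq_iff.1 (mul_left_cancel (mul_right_cancel
      ((hf c).trans ((congrArg (fun v => τ (p * v * p⁻¹, v)) e2).trans (hf d).symm))))).2) t
    (F.eq_one_iff.1 (by
      rw [← τ_mul, ← ht, conj_mul_conj, τ_mul, w.z_sq, mul_one, τ_one, mul_one, mul_inv_cancel])).2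
    (fun c => (F.comm_iff.1 (by
      rw [← ht]; exact hf c ▸ cm z w.z_cen 1 (Commute.one_left x) 1 c (mem_Cz.1 c.2))).2)
  have h1 := hf c
  rw [show f c = t from hc, ← ht] at h1
  exact w.z_ne (F.eq_iff.1 (mul_left_cancel (mul_right_cancel h1))).1.symm

/-- `z₁ ≁ z₁ z₂`.  Otherwise `CL.P2.conj_cen` gives `g` with `z₁^g = τ (z,z)`, `T^g ≤ S`, so `T^g ≤ T` by `LT` (every `c` commutes with
a noncentral element), `T^g = T`.  `x = τ (i,1)^g = τ (a,b)` satisfies `y x y⁻¹ ∈ {x, x τ (z,z)}` for all `y ∈ T` (`i_conj`); `y = τ (c,1)`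
and `y = τ (1,c)` show that `a, b` are central, so `τ (i,1)` is central in `T`. -/
theorem nconj : ¬ IsConj (τ (z, 1)) (τ (z, z)) := by
  intro hh
  obtain ⟨g, e1, hg⟩ := CL.P2.conj_cen F.syl.toSylowTop (c := τ (z, z)) (fun u hu => by
    rcases F.mem_S.1 hu with ⟨a, b, rfl⟩ | ⟨a, b, rfl⟩
    · exact τ_comm τ (w.zc a) (w.zc b)
    · exact (τ_comm τ (w.zc a) (w.zc b)).mul_left (comm_of_conj_eq (F.sw z z))) hh
  have h1 : ∀ a c, g * τ (a, c) * g⁻¹ ∈ τ.range ⊔ zpowers s := fun a c =>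
    hg _ (mem_sup_left (τ_mem τ a c)) (mem_Cz.1 (w.T_le1 (τ_mem τ a c)))
  have h2 : ∀ a c, g * τ (a, c) * g⁻¹ ∈ τ.range := fun a c => by
    by_cases hc : c ∈ center W
    · exact F.LT w w.i_nc (fun a c _ => h1 a c) a c (mem_center_iff.1 hc i).symm
    · exact F.LT w hc (fun a c _ => h1 a c) a c (Commute.refl c)
  choose f hf using fun p : W × W => h2 p.1 p.2
  have h3 : Function.Surjective f := Finite.injective_iff_surjective.1 fun p q e2 =>
    F.inj (mul_left_cancel (mul_right_cancel ((hf p).symm.trans (e2 ▸ hf q))))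
  obtain ⟨a, b, e2⟩ := mem_T.1 (h2 i 1)
  have h4 : ∀ c d, (c * a * c⁻¹ = a ∧ d * b * d⁻¹ = b) ∨ (c * a * c⁻¹ = a * z ∧ d * b * d⁻¹ = b * z) :=
    fun c d => by
      obtain ⟨⟨c', d'⟩, e3⟩ := h3 (c, d)
      have e4 := hf (c', d')
      rw [e3] at e4
      have e5 : τ (c * a * c⁻¹, d * b * d⁻¹) = g * τ (c' * i * c'⁻¹, d' * 1 * d'⁻¹) * g⁻¹ := by
        rw [← τ_conj, ← τ_conj, e4, ← e2]; group
      rw [mul_one, mul_inv_cancel] at e5
      rcases w.i_conj c' with k | k <;> rw [k] at e5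
      · exact Or.inl (F.eq_iff.1 (e5.trans e2))
      · exact Or.inr (F.eq_iff.1 (by rw [e5, ← τ_mul, ← e1, ← e2, conj_mul_conj, τ_mul, mul_one]))
  have h5 : ∀ c, Commute c a := fun c => comm_of_conj_eq ((h4 c 1).elim (·.1) fun k =>
    absurd (by simpa using k.2) w.z_ne)
  have h6 : ∀ c, Commute c b := fun c => comm_of_conj_eq ((h4 1 c).elim (·.2) fun k =>
    absurd (by simpa using k.1) w.z_ne)
  refine w.i_nc (mem_center_iff.2 fun c => (F.comm_iff.1 (comm_of_conj (a := τ (c, 1)) (b := τ (i, 1))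
    (g := g) ?_)).1)
  obtain ⟨u, v, e3⟩ := mem_T.1 (h2 c 1)
  rw [e2, e3]
  exact τ_comm τ (h5 u) (h6 v)

/-- `T` is a Sylow 2-subgroup of `C(z₁)`: a larger 2-subgroup `Q` has order `≥ 2|T| = |S|`, is conjugate to `S`, and then
`z₁` is conjugate to a central involution of `S` (`cen`, `nconj`). -/
theorem sylT : SylIn 2 τ.range (Cz (τ (z, 1))) := by
  refine ⟨w.T_le1, F.syl.pgroup.to_le le_sup_left, fun Q hQ h1 h2 => ?_⟩
  by_contra hne
  obtain ⟨k, -, hk⟩ := F.syl.exists_conj_le hQ le_top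
  have c1 := (τ.range.subgroupOf (τ.range ⊔ zpowers s)).card_mul_index
  have c2 := (τ.range.subgroupOf Q).card_mul_index
  rw [Nat.card_congr (subgroupOfEquivOfLe le_sup_left).toEquiv] at c1
  rw [Nat.card_congr (subgroupOfEquivOfLe h1).toEquiv] at c2
  change _ * τ.range.relIndex _ = _ at c1 c2
  rw [F.relIndex_T] at c1
  have c3 : τ.range.relIndex Q ≠ 1 := fun h => hne (le_antisymm (relIndex_eq_one.1 h) h1)
  have c4 : τ.range.relIndex Q ≠ 0 := FiniteIndex.index_ne_zero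
  have c5 := eq_of_le_of_card_ge hk (by
    rw [card_cj, ← c1, ← c2]; exact Nat.mul_le_mul_left _ (by omega))
  rcases F.cen w (x := k * τ (z, 1) * k⁻¹) (hk (conj_mem_cj (h1 (τ_mem τ z 1))))
    (by rw [conj_mul_conj, τ_mul, w.z_sq, mul_one, τ_one, mul_one, mul_inv_cancel]) (fun y hy => by
      rw [← c5] at hy
      obtain ⟨y', hy', rfl⟩ := mem_cj'.1 hy
      exact comm_conj (mem_Cz.1 (h2 hy')).symm k) with h | h
  · exact w.z_ne (F.eq_one_iff.1 (conj_eq_one_iff.1 h)).1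
  · exact F.nconj w (isConj_of_eq h)

/-- `z₁^g = τ (a,b)` is central in the non-abelian group `W₁^g` and is the commutator of `τ (y,1)^g, τ (i,1)^g` (`z_comm`).  If `a` is
noncentral, the first coordinates of `W₁^g` commute (`ab`), so `a = 1`; the same for `b`.  So `a, b ∈ {1, z}`; use `nconj`. -/
theorem LW {g : G} (h : ∀ a, g * τ (a, 1) * g⁻¹ ∈ τ.range) :
    g * τ (z, 1) * g⁻¹ = τ (z, 1) ∨ g * τ (z, 1) * g⁻¹ = τ (1, z) := by
  choose u v huv using fun a => mem_T.1 (h a)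
  have hm : ∀ a b, u (a * b) = u a * u b ∧ v (a * b) = v a * v b := fun a b =>
    F.eq_iff.1 (by rw [← τ_mul, ← huv, ← huv, ← huv, conj_mul_conj, τ_mul, mul_one])
  have key : ∀ f : W →* W, f z = 1 ∨ f z = z := fun f => by
    refine w.z_uniq _ ?_ (by rw [← map_mul, w.z_sq, map_one])
    by_contra hc
    exact hc (w.map_z f (fun a b => w.ab _ hc _ _ ((w.zc a).map f) ((w.zc b).map f)) ▸ one_mem _)
  have h1 : u z = 1 ∨ u z = z := key (MonoidHom.mk' u fun a b => (hm a b).1)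
  have h2 : v z = 1 ∨ v z = z := key (MonoidHom.mk' v fun a b => (hm a b).2)
  have h3 := huv z
  rcases h1 with h1 | h1 <;> rcases h2 with h2 | h2 <;> rw [h1, h2] at h3
  · exact absurd (F.eq_one_iff.1 (conj_eq_one_iff.1 (h3.trans (τ_one τ)))).1 w.z_ne
  · exact Or.inr h3
  · exact Or.inl h3
  · exact absurd (isConj_of_eq h3) (F.nconj w)

end Fr

end CL.L5
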