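import Cfsg.Agent.INV.L5.F1

/-! # `ψ e = z` -/

set_option autoImplicit false
set_option linter.unusedSectionVars false

namespace CL.L5

open Subgroup Cfsg CL.MSS CL.PComp

variable {G W : Type*} [Group G] [Finite G] [Group W] [Finite W] {τ : W × W →* G} {s ρ : G} {z e n i : W}
  {ψ : W →* W}

namespace F7

theorem conj_sq {k y : G} (h : y * y = 1) : k * y * k⁻¹ * (k * y * k⁻¹) = 1 := by
  rw [conj_mul_conj, h, mul_one, mul_inv_cancel]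

theorem sq_iff (F : Fr τ s) {a b : W} : τ (a, b) * τ (a, b) = 1 ↔ a * a = 1 ∧ b * b = 1 := by
  rw [τ_mul, F.eq_one_iff]

theorem outer_mul (F : Fr τ s) (a b c d : W) : τ (a, b) * s * (τ (c, d) * s) = τ (a * d, b * c) := by
  rw [mul_assoc, ← mul_assoc s, F.s_mul, mul_assoc, F.s2, mul_one, τ_mul]

theorem comm_mem (F : Fr τ s) {x y : G} (hx : x ∈ τ.range ⊔ zpowers s) (hy : y ∈ τ.range ⊔ zpowers s) :
    x * y * x⁻¹ * y⁻¹ ∈ τ.range := by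
  have k : ∀ a b, ∀ x ∈ τ.range ⊔ zpowers s, x * τ (a, b) * x⁻¹ ∈ τ.range := fun a b x hx => by
    rcases F.mem_S.1 hx with ⟨c, d, rfl⟩ | ⟨c, d, rfl⟩
    · rw [τ_conj]; exact τ_mem τ _ _
    · rw [F.outer_conj]; exact τ_mem τ _ _
  rcases F.mem_S.1 hy with ⟨c, d, rfl⟩ | ⟨c, d, rfl⟩
  · exact mul_mem (k c d x hx) (inv_mem (τ_mem τ _ _))
  · rcases F.mem_S.1 hx with ⟨a, b, rfl⟩ | ⟨a, b, rfl⟩
    · have := mul_mem (τ_mem τ a b) (inv_mem (k a b _ hy))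
      convert this using 1
      group
    · rw [mul_assoc _ _⁻¹, ← mul_inv_rev, outer_mul F, outer_mul F]
      exact mul_mem (τ_mem τ _ _) (inv_mem (τ_mem τ _ _))

end F7

open F7

namespace Pre

variable (w : WF z e n i) (Γ : Pre τ s z e ψ ρ)
include w Γ

theorem ψz : ψ z = 1 := w.map_z ψ fun a b => (mem_center_iff.1 (Γ.ψc b) (ψ a) :)

theorem cU1 {h : G} (hh : ∀ a, Commute h (τ (a, ψ a))) : Commute h (τ (z, 1)) := by
  simpa [Γ.ψz w] using hh z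

theorem κ_cU (y a : W) : Commute (τ (1, y)) (τ (a, ψ a)) :=
  τ_comm τ (Commute.one_left a) (mem_center_iff.1 (Γ.ψc a) y)

theorem ρez : ρ * τ (1, e * z) * ρ⁻¹ = τ (1, z) := by
  rw [show τ (1, e * z) = τ (1, e) * τ (1, z) by rw [τ_mul, mul_one], ← conj_mul_conj, Γ.ρe, Γ.ρz, τ_mul,
    mul_one, mul_assoc, ← (w.zc e).eq, ← mul_assoc, w.e_sq, one_mul]

/-- 2-elements of `C(U) ⊓ C(κ z)` can be conjugated into `T`. -/
theorem into_T {x : G} (h1 : ∀ a, Commute x (τ (a, ψ a))) (h2 : Commute x (τ (1, z))) {k : ℕ}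
    (hx : x ^ 2 ^ k = 1) :
    ∃ c, (∀ a, Commute c (τ (a, ψ a))) ∧ Commute c (τ (1, z)) ∧ c * x * c⁻¹ ∈ τ.range := by
  let υ : W →* G := τ.comp ((MonoidHom.id W).prod ψ)
  have mC : ∀ x, x ∈ centralizer (υ.range : Set G) ↔ ∀ a, Commute x (τ (a, ψ a)) := fun x =>
    ⟨fun h a => (mem_centralizer_iff.1 h _ ⟨a, rfl⟩).symm, fun h => mem_centralizer_iff.2 (by
      rintro _ ⟨a, rfl⟩; exact (h a).symm)⟩
  have hN : τ.range ≤ normalizer (υ.range : Set G) := le_normalizer_of_cj_le fun x hx =>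
    cj_le_iff_forall.2 (by
      obtain ⟨c, d, rfl⟩ := mem_T.1 hx
      rintro _ ⟨a, rfl⟩
      refine ⟨c * a * c⁻¹, ?_⟩
      change τ (c * a * c⁻¹, ψ (c * a * c⁻¹)) = _ * τ (a, ψ a) * _
      rw [τ_conj, conj_eq_of_comm (mem_center_iff.1 (Γ.ψc a) d), map_mul ψ, map_mul ψ, map_inv ψ,
        conj_eq_of_comm (mem_center_iff.1 (Γ.ψc a) (ψ c))])
  have s1 := ((Γ.toFr.sylT w).inf_of_le hN).inf_normal_of_le (N := centralizer (υ.range : Set G))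
    (inf_le_right.trans (normalizer_le_normalizer_centralizer _))
    (le_inf (fun x hx => mem_Cz.2 (Γ.cU1 w ((mC x).1 hx))) (centralizer_le_normalizer _))
  obtain ⟨c, hc, h⟩ := (s1.inf_of_le (inf_le_left.trans w.T_le2)).exists_conj_le (isPGroup_zpowers hx)
    (zpowers_le.2 ⟨(mC x).2 h1, mem_Cz.2 h2⟩)
  exact ⟨c, (mC c).1 hc.1, mem_Cz.1 hc.2, (h (conj_mem_cj (mem_zpowers x))).1⟩

/-- If `b ~ e` in `W` use `κ y`.  Otherwise (`typ`) `z = ζ²`; `g ∈ C(U)` from `one`; `T ⊓ C(U) ≤ C(κ z)` is Sylow in `C₁ ⊓ C(U)` (`SylIn.inf_normal` in `N_{C₁}(U) ≥ T`), so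
some `c ∈ C(U) ⊓ C(κ z)` maps `⟨κ b, κ ζ⟩^g` into `T`; `(κ z)^(c g) = κ a'` is a square `≠ κ z`, so `a' ~ e`; after correcting by `V`, `ρ⁻¹` and `κ n`:
`κ z ↦ κ e ↦ κ z`, `κ b ↦ κ z ↦ κ (e z) ↦ κ e`. -/
theorem toE {b : W} (hb : b ∉ center W) (h2 : b * b = 1) :
    ∃ h, (∀ a, Commute h (τ (a, ψ a))) ∧ Commute h (τ (1, z)) ∧ h * τ (1, b) * h⁻¹ = τ (1, e) := by
  have κz : ∀ y, Commute (τ (1, y)) (τ (1, z)) := fun y => τ_comm τ (Commute.refl 1) (w.zc y)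
  have κc : ∀ y a, τ (1, y) * τ (1, a) * (τ (1, y))⁻¹ = τ (1, y * a * y⁻¹) := fun y a => by
    rw [τ_conj]; simp
  rcases w.typ b hb h2 with ⟨y, hy⟩ | ⟨⟨ζ, hζ, ζ2⟩, -, -⟩
  · exact ⟨τ (1, y), Γ.κ_cU w y, κz y, by rw [κc, hy]⟩
  obtain ⟨g, g1, g2⟩ := Γ.one b h2 fun h => hb (h ▸ one_mem _)
  obtain ⟨c, c1, c2, c3⟩ := Γ.into_T w (x := g * τ (1, ζ) * g⁻¹) (k := 2)
    (fun a => by simpa only [conj_eq_of_comm (g1 a)] using comm_conj (Γ.κ_cU w ζ a) g)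
    (g2 ▸ comm_conj (τ_comm τ (Commute.refl 1) (mem_center_iff.1 hζ b).symm) g) (by
      rw [conj_pow, τ_pow, one_pow, show ζ ^ 2 ^ 2 = ζ * ζ * (ζ * ζ) by simp [pow_succ, mul_assoc], ζ2, w.z_sq,
        τ_one, mul_one, mul_inv_cancel])
  have d1 : ∀ a, Commute (c * g) (τ (a, ψ a)) := fun a => (c1 a).mul_left (g1 a)
  have d2 : c * g * τ (1, b) * (c * g)⁻¹ = τ (1, z) := by
    rw [← conj_eq_of_comm c2, ← g2]; group
  obtain ⟨a, m, d3⟩ := mem_T.1 c3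
  rw [show c * (g * τ (1, ζ) * g⁻¹) * c⁻¹ = c * g * τ (1, ζ) * (c * g)⁻¹ by group] at d3
  obtain rfl := Γ.scV ζ _ (Γ.cU1 w d1) a m d3
  have d4 : c * g * τ (1, z) * (c * g)⁻¹ = τ (1, m * m) := by
    rw [← ζ2, ← mul_one (1 : W), ← τ_mul, ← conj_mul_conj, mul_one, d3, τ_mul, mul_one]
  have m2 : m * m * (m * m) = 1 :=
    ((sq_iff Γ.toFr).1 (d4 ▸ conj_sq ((sq_iff Γ.toFr).2 ⟨mul_one 1, w.z_sq⟩))).2
  have mc : m * m ∉ center W := fun hc => by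
    rcases w.z_uniq _ hc m2 with k | k <;> rw [k] at d4
    · rw [τ_one, conj_eq_one_iff, Γ.eq_one_iff] at d4
      exact w.z_ne d4.2
    · exact hb ((Γ.eq_iff.1 (mul_left_cancel (mul_right_cancel (d4.trans d2.symm)))).2 ▸ w.z_cen)
  obtain ⟨y, hy⟩ := (w.typ _ mc m2).resolve_right fun h => h.2.1 m rfl
  have ρ1 : ρ⁻¹ * τ (1, e) * ρ⁻¹⁻¹ = τ (1, z) := by rw [← Γ.ρz]; group
  have ρ2 : ρ⁻¹ * τ (1, z) * ρ⁻¹⁻¹ = τ (1, e * z) := by rw [← Γ.ρez w]; group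
  have ex : ∀ x, τ (1, n) * ρ⁻¹ * τ (1, y) * (c * g) * x * (τ (1, n) * ρ⁻¹ * τ (1, y) * (c * g))⁻¹ =
      τ (1, n) * (ρ⁻¹ * (τ (1, y) * (c * g * x * (c * g)⁻¹) * (τ (1, y))⁻¹) * ρ⁻¹⁻¹) * (τ (1, n))⁻¹ :=
    fun x => by group
  refine ⟨τ (1, n) * ρ⁻¹ * τ (1, y) * (c * g), fun a => (((Γ.κ_cU w n a).mul_left (Γ.ρU a).inv_left).mul_left
    (Γ.κ_cU w y a)).mul_left (d1 a), comm_of_conj_eq ?_, ?_⟩
  · rw [ex, d4, κc, hy, ρ1, conj_eq_of_comm (κz n)]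
  · rw [ex, d2, conj_eq_of_comm (κz y), ρ2, κc, w.n_ez]

theorem ψ_inv (h : ψ e = 1) {a : W} (h2 : a * a = 1) : ψ a = 1 := by
  by_cases hc : a ∈ center W
  · rcases w.z_uniq a hc h2 with k | k <;> rw [k]
    exacts [map_one ψ, Γ.ψz w]
  obtain ⟨g, -, g2, g3⟩ := Γ.toE w hc h2
  refine (Γ.scU e (s * g⁻¹ * s⁻¹) (Γ.sw 1 z ▸ comm_conj g2.inv_left s) a 1 ?_).symm
  rw [h, ← Γ.sw 1 e, ← Γ.sw 1 a, ← g3]
  group

theorem cl1 {a : W} (h2 : a * a = 1) (h1 : a ≠ 1) : IsConj (τ (1, a)) (τ (z, 1)) := by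
  obtain ⟨g, -, hg⟩ := Γ.one a h2 h1
  exact (isConj_of_eq hg).trans (isConj_of_eq (Γ.sw 1 z))

theorem cl2 (h : ψ e = 1) {a b : W} (a2 : a * a = 1) (b2 : b * b = 1) (a1 : a ≠ 1) (b1 : b ≠ 1) :
    IsConj (τ (a, b)) (τ (z, z)) := by
  have k : ∀ a b, a * a = 1 → b * b = 1 → b ≠ 1 → IsConj (τ (a, b)) (τ (a, z)) := fun a b a2 b2 b1 => by
    obtain ⟨g, g1, g2⟩ := Γ.one b b2 b1
    have e1 : ∀ c, τ (a, c) = τ (a, ψ a) * τ (1, c) := fun c => by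
      rw [Γ.ψ_inv w h a2, τ_mul, mul_one, one_mul]
    exact isConj_of_eq (g := g) (by rw [e1 b, e1 z, ← conj_mul_conj, g2, conj_eq_of_comm (g1 a)])
  exact ((k a b a2 b2 b1).trans (isConj_of_eq (Γ.sw a z))).trans (k z a w.z_sq a2 a1)

theorem of_hat {a b : W} (c : IsConj (τ (a, b)) (τ (z, z))) : a ≠ 1 ∧ b ≠ 1 := by
  have k : ∀ b, ¬ IsConj (τ (1, b)) (τ (z, z)) := fun b c => by
    obtain ⟨g, hg⟩ := isConj_iff.1 c.symm
    by_cases h1 : b = 1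
    · rw [h1, τ_one, conj_eq_one_iff, Γ.eq_one_iff] at hg
      exact w.z_ne hg.1
    · exact Γ.toFr.nconj w ((Γ.cl1 w
        ((sq_iff Γ.toFr).1 (hg ▸ conj_sq ((sq_iff Γ.toFr).2 ⟨w.z_sq, w.z_sq⟩))).2 h1).symm.trans c)
  exact ⟨fun h => k b (h ▸ c), fun h => k a ((isConj_of_eq (Γ.sw 1 a)).trans (h ▸ c))⟩

theorem s_conj {a : W} (h2 : a * a = 1) : IsConj s (s * τ (a, a)) := by
  rw [Γ.s_mul]
  exact isConj_of_eq (Γ.outer (by rw [Γ.outer_sq, h2, τ_one]))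

theorem case1 (h : ψ e = 1) : ¬ IsConj s (τ (z, 1)) := by
  intro hs
  obtain ⟨g₀, h0⟩ := isConj_iff.1 hs
  let Δ : W →* G := τ.comp ((MonoidHom.id W).prod (MonoidHom.id W))
  obtain ⟨k, hk, h1⟩ := (Γ.toFr.sylT w).exists_conj_le (R := g₀ •ᶜ Δ.range)
    (isPGroup_cj _ (Γ.syl.pgroup.to_le (le_trans (by rintro _ ⟨a, rfl⟩; exact ⟨_, rfl⟩) le_sup_left)))
    (cj_le_iff_forall.2 (by
      rintro _ ⟨a, rfl⟩
      exact mem_Cz.2 (h0 ▸ comm_conj (comm_of_conj_eq (Γ.sw a a)).symm g₀)))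
  have h2 : k * g₀ * s * (k * g₀)⁻¹ = τ (z, 1) := by
    rw [← conj_eq_of_comm (mem_Cz.1 hk), ← h0]; group
  have key : ∀ x, x * x = 1 → x ≠ 1 → ∃ b, k * g₀ * τ (x, x) * (k * g₀)⁻¹ = τ (z, b) := fun x x2 x1 => by
    obtain ⟨a, b, h3⟩ := mem_T.1 (h1 (conj_mem_cj (conj_mem_cj (x := τ (x, x)) ⟨x, rfl⟩)))
    rw [show k * (g₀ * τ (x, x) * g₀⁻¹) * k⁻¹ = k * g₀ * τ (x, x) * (k * g₀)⁻¹ by group] at h3
    obtain ⟨a2, b2⟩ := (sq_iff Γ.toFr).1 (h3 ▸ conj_sq ((sq_iff Γ.toFr).2 ⟨x2, x2⟩))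
    have b1 := (Γ.of_hat w ((isConj_of_eq h3).symm.trans (Γ.cl2 w h x2 x2 x1 x1))).2
    have h4 : k * g₀ * (s * τ (x, x)) * (k * g₀)⁻¹ = τ (z * a, b) := by
      rw [← conj_mul_conj, h2, h3, τ_mul, one_mul]
    by_cases h5 : z * a = 1
    · exact ⟨b, by rw [h3, ← mul_one a, ← w.z_sq, ← mul_assoc, (w.zc a).eq, h5, one_mul]⟩
    · refine absurd ?_ (Γ.toFr.nconj w)
      refine ((hs.symm.trans (Γ.s_conj w x2)).trans (isConj_of_eq h4)).trans (Γ.cl2 w h ?_ b2 h5 b1)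
      rw [mul_assoc, ← mul_assoc a, (w.zc a).eq, mul_assoc, a2, mul_one, w.z_sq]
  obtain ⟨b, hb⟩ := key e w.e_sq w.e_ne
  obtain ⟨b', hb'⟩ := key (e * z) w.ez_sq fun k => w.ez_nc (k ▸ one_mem _)
  have : k * g₀ * τ (z, z) * (k * g₀)⁻¹ = τ (1, b * b') := by
    rw [← w.z_sq, ← τ_mul, ← hb, ← hb', conj_mul_conj, τ_mul, ← mul_assoc e, w.e_sq, one_mul]
  exact (Γ.of_hat w (isConj_of_eq this).symm).1 rfl

theorem case2 (h : ψ e = 1) : ¬ IsConj s (τ (z, z)) := by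
  intro hs
  obtain ⟨g, g1, g2⟩ := CL.P2.conj_cen Γ.syl.toSylowTop (c := τ (z, z)) (fun u hu => by
    rcases Γ.mem_S.1 hu with ⟨a, b, rfl⟩ | ⟨a, b, rfl⟩
    · exact τ_comm τ (w.zc a) (w.zc b)
    · exact ((τ_comm τ (w.zc a) (w.zc b)).mul_left (comm_of_conj_eq (Γ.sw z z)) :)) hs
  let φ : W →* G := (MulAut.conj g).toMonoidHom.comp (τ.comp ((MonoidHom.id W).prod (MonoidHom.id W)))
  have φe : ∀ a, φ a = g * τ (a, a) * g⁻¹ := fun _ => rfl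
  have φS : ∀ a, φ a ∈ τ.range ⊔ zpowers s := fun a =>
    g2 _ (mem_sup_left (τ_mem τ a a)) (comm_of_conj_eq (Γ.sw a a)).symm
  have φc : ∀ a b, Commute (φ a) (φ b) → Commute a b := fun a b k => (Γ.comm_iff.1 (comm_of_conj k)).1
  have key : ∀ x a b, x * x = 1 → x ≠ 1 → φ x = τ (a, b) → b ≠ 1 ∧ b ≠ z := fun x a b x2 x1 h3 => by
    refine ⟨(Γ.of_hat w ((isConj_of_eq h3).symm.trans (Γ.cl2 w h x2 x2 x1 x1))).2, fun k => ?_⟩
    have h4 : g * (s * τ (x, x)) * g⁻¹ = τ (z * a, z * b) := by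
      rw [← conj_mul_conj, g1, ← φe, h3, τ_mul]
    exact (Γ.of_hat w (((isConj_of_eq h4).symm.trans (Γ.s_conj w x2).symm).trans hs)).2 (by rw [k, w.z_sq])
  obtain ⟨m, m', hm⟩ : ∃ m m', φ i = τ (m, m') := by
    obtain ⟨p, q, e1⟩ := w.i_comm
    refine mem_T.1 ?_
    rw [e1, map_mul, map_mul, map_mul, map_inv, map_inv]
    exact comm_mem Γ.toFr (φS p) (φS q)
  have hz : φ z = τ (m * m, m' * m') := by rw [← w.i_sq, map_mul, hm, τ_mul]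
  have sq : ∀ x a b, x * x = 1 → φ x = τ (a, b) → a * a = 1 ∧ b * b = 1 := fun x a b x2 k =>
    (sq_iff Γ.toFr).1 (by rw [← k, ← map_mul, x2, map_one])
  obtain ⟨d2, d2'⟩ := sq z _ _ w.z_sq hz
  rcases Γ.mem_S.1 (φS e) with ⟨p, q, he⟩ | ⟨p, q, he⟩
  · have k1 := key e p q w.e_sq w.e_ne he
    have k2 := key z _ _ w.z_sq w.z_ne hz
    have k3 := key (e * z) _ _ w.ez_sq (fun k => w.ez_nc (k ▸ one_mem _)) (by rw [map_mul, he, hz, τ_mul])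
    have c : Commute (τ (p, q)) (τ (m * m, m' * m')) := he ▸ hz ▸ (w.zc e).map φ
    rcases w.rank2 q (m' * m') (sq e p q w.e_sq he).2 d2' (Γ.comm_iff.1 c).2 with k | k | k | k | k | k
    exacts [k1.1 k, k2.1 k, k3.1 (by rw [k, d2']), k1.2 k, k2.2 k, k3.2 k]
  · have c := conj_eq_of_comm (he ▸ hz ▸ (w.zc e).map φ : Commute (τ (p, q) * s) (τ (m * m, m' * m')))
    rw [Γ.outer_conj, Γ.eq_iff] at c
    have k2 := key z _ _ w.z_sq w.z_ne hz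
    have n2 : m' * m' ∉ center W := fun k => by
      rcases w.z_uniq _ k d2' with k | k
      exacts [k2.1 k, k2.2 k]
    have n1 : m * m ∉ center W := fun k => n2 (by
      rwa [← c.2, conj_eq_of_comm (mem_center_iff.1 k q)])
    have ei : Commute e i := w.dich.resolve_right fun k => k m n1 d2
    have ab : ∀ x a b, φ x = τ (a, b) → Commute x i := fun x a b k => φc _ _ (by
      have c1 := Γ.comm_iff.1 (k ▸ hz ▸ (w.zc x).map φ : Commute (τ (a, b)) (τ (m * m, m' * m')))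
      rw [k, hm]
      exact τ_comm τ (w.ab _ n1 _ _ c1.1 ((Commute.refl m).mul_right (Commute.refl m)))
        (w.ab _ n2 _ _ c1.2 ((Commute.refl m').mul_right (Commute.refl m'))))
    obtain ⟨y, hy⟩ := w.z_comm
    have yi : Commute y i := by
      rcases Γ.mem_S.1 (φS y) with ⟨a, b, k⟩ | ⟨a, b, k⟩
      · exact ab y a b k
      · have := (ab (y * e) _ _ (by rw [map_mul, k, he, outer_mul Γ.toFr])).mul_left ei
        rwa [mul_assoc, w.e_sq, mul_one] at this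
    rw [conj_eq_of_comm yi] at hy
    exact w.z_ne (left_eq_mul.1 hy)

/-- `ψ e ∈ {1, z}`; suppose `ψ e = 1`.  Then `ψ a = 1` for all involutions `a` (`s`-conjugate of `toE`, `scU`), so for involutions `a, b`: `τ (a,b) ~ τ (a,z) ~ τ (z,a) ~ τ (z,z) =: ẑ`
(`one`), `τ (a,1) ~ τ (1,a) ~ z₁`.  `ext_transfer` with `M = T`, `x = s`: `s ~ z₁` or `s ~ ẑ`; `case1`, `case2`. -/
theorem ψe (h2 : ∀ H : Subgroup G, H.index ≠ 2) : ψ e = z := by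
  refine (w.z_uniq _ (Γ.ψc e) (by rw [← map_mul, w.e_sq, map_one])).resolve_left fun h => ?_
  obtain ⟨g, hg, -⟩ := CL.P2.ext_transfer h2 Γ.syl.toSylowTop (M := τ.range) Γ.relIndex_T le_sup_left
    (x := s) (mem_sup_right (mem_zpowers s)) fun k a _ => by
      rw [pow_mul, sq, Γ.s2, one_pow, mul_one, mul_inv_cancel]; exact one_mem _
  obtain ⟨a, b, e1⟩ := mem_T.1 hg
  obtain ⟨a2, b2⟩ := (sq_iff Γ.toFr).1 (e1 ▸ conj_sq Γ.s2)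
  have c := isConj_of_eq e1
  by_cases a1 : a = 1
  · by_cases b1 : b = 1
    · rw [a1, b1, τ_one, conj_eq_one_iff] at e1
      exact Γ.sT (e1 ▸ one_mem _)
    · exact Γ.case1 w h (c.trans (a1 ▸ Γ.cl1 w b2 b1))
  · by_cases b1 : b = 1
    · exact Γ.case1 w h ((c.trans (isConj_of_eq (Γ.sw a b))).trans (b1 ▸ Γ.cl1 w a2 a1))
    · exact Γ.case2 w h (c.trans (Γ.cl2 w h a2 b2 a1 b1))

end Pre

end CL.L5
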