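import Cfsg.Agent.INV.L5.F1

/-! # `Z₁ × W₂` is strongly closed; reduction to `C(τ (i, 1))`

`C₁ = C(z₁)`, `z₁ = τ (z,1)`, `T = τ.range` is a Sylow 2-subgroup of `C₁` (`Fr.sylT`).  Main tool: `two_sub`. -/

set_option autoImplicit false
set_option linter.unusedSectionVars false

namespace CL.L5

open Subgroup Cfsg CL.MSS CL.PComp

variable {G W : Type*} [Group G] [Finite G] [Group W] [Finite W] {τ : W × W →* G} {s ρ : G} {z e n i : W}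
  {ψ : W →* W}

/-- the stabiliser of `z` and `{x, x z}`. -/
def NN {z : G} (hz : z * z = 1) (x : G) : Subgroup G where
  carrier := {h | Commute h z ∧ (h * x * h⁻¹ = x ∨ h * x * h⁻¹ = x * z)}
  one_mem' := ⟨Commute.one_left z, Or.inl (by simp)⟩
  mul_mem' := fun {a b} ⟨ha, ha'⟩ ⟨hb, hb'⟩ => ⟨ha.mul_left hb, by
    have e : a * b * x * (a * b)⁻¹ = a * (b * x * b⁻¹) * a⁻¹ := by group
    rw [e]
    rcases hb' with h | h <;> rw [h]
    · exact ha'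
    · rw [← conj_mul_conj, conj_eq_of_comm ha]
      rcases ha' with h' | h' <;> rw [h']
      exacts [Or.inr rfl, Or.inl (by rw [mul_assoc, hz, mul_one])]⟩
  inv_mem' := fun {a} ⟨ha, ha'⟩ => ⟨ha.inv_left, by
    rcases ha' with h | h
    · exact Or.inl (conj_eq_of_comm (comm_of_conj_eq h).inv_left)
    · refine Or.inr ?_
      have e : a⁻¹ * (x * z) * a⁻¹⁻¹ = x := by rw [← h]; group
      rw [← conj_mul_conj, conj_eq_of_comm ha.inv_left] at e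
      conv_rhs => rw [← e, mul_assoc, hz, mul_one]⟩

theorem mem_NN {z x h : G} {hz : z * z = 1} :
    h ∈ NN hz x ↔ Commute h z ∧ (h * x * h⁻¹ = x ∨ h * x * h⁻¹ = x * z) := Iff.rfl

theorem NN_le {z x : G} {hz : z * z = 1} : NN hz x ≤ Cz z := fun _ h => mem_Cz.2 h.1

theorem WF.z1_sq (w : WF z e n i) (τ : W × W →* G) : τ (z, 1) * τ (z, 1) = 1 := by rw [τ_mul, w.z_sq, mul_one, τ_one]

/-- coordinates of a homomorphism into `T`. -/
theorem Fr.coords (F : Fr τ s) {H : Type*} [Group H] (φ : H →* G) (h : ∀ a, φ a ∈ τ.range) :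
    ∃ α β : H →* W, ∀ a, φ a = τ (α a, β a) := by
  choose u v huv using fun a => mem_T.1 (h a)
  have hm : ∀ a b, u (a * b) = u a * u b ∧ v (a * b) = v a * v b := fun a b =>
    F.eq_iff.1 (by rw [← τ_mul, ← huv, ← huv, ← huv, map_mul])
  exact ⟨MonoidHom.mk' u fun a b => (hm a b).1, MonoidHom.mk' v fun a b => (hm a b).2, huv⟩

theorem Fr.coords1 (F : Fr τ s) {g : G} (h : ∀ a, g * τ (a, 1) * g⁻¹ ∈ τ.range) :
    ∃ α β : W →* W, ∀ a, g * τ (a, 1) * g⁻¹ = τ (α a, β a) :=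
  F.coords ((MulAut.conj g).toMonoidHom.comp (τ.comp (MonoidHom.inl W W))) h

theorem Fr.coords2 (F : Fr τ s) {g : G} {C : Subgroup W} (h : ∀ c ∈ C, g * τ (1, c) * g⁻¹ ∈ τ.range) :
    ∃ α β : C →* W, ∀ c : C, g * τ (1, c) * g⁻¹ = τ (α c, β c) :=
  F.coords ((MulAut.conj g).toMonoidHom.comp ((kap τ).comp C.subtype)) fun c => h c c.2

theorem Fr.pgT (F : Fr τ s) : IsPGroup 2 τ.range := F.syl.pgroup.to_le le_sup_left

theorem Fr.pg_prod (F : Fr τ s) (A B : Subgroup W) : IsPGroup 2 ((A.prod B).map τ) :=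
  F.pgT.to_le (map_le_range τ _)

namespace Fr

variable (w : WF z e n i) (F : Fr τ s)
include w F

/-- Let `x = τ (a', b')` with `a'` noncentral; `step`: `y a'^k y⁻¹ = a'^k z`, `x' = x^k`.  `N = {h ∈ C₁ | h x' h⁻¹ ∈ {x', x' z₁}}` is a subgroup containing
`P = ⟨W₁^g, x'⟩` (`W₁^g` centralises `x'`) and `Q = ⟨τ (y,1), x'⟩ ≤ T`.  `two_sub`: `P^(kν), Q^k ≤ T`.  `x'^k = τ (v, u)` is conjugate to `x'^k z₁` under
`τ (y,1)^k ∈ T`, so `v` is noncentral; `W₁^(kνg) ≤ T` centralises `x'^k`, so its first coordinates commute (`ab`), and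
`z₁ = z₁^(kνg)`, a commutator in this group (`z_comm`), has first coordinate `1`. -/
theorem stepA {ζ b a' b' : W} {g : G} (hζ : ζ ∈ center W) (hg : Commute g (τ (z, 1)))
    (h : g * τ (ζ, b) * g⁻¹ = τ (a', b')) : a' ∈ center W := by
  by_contra ha
  obtain ⟨k, y, hy⟩ := w.step a' ha
  have hx : g * τ (ζ ^ k, b ^ k) * g⁻¹ = τ (a' ^ k, b' ^ k) := by rw [← τ_pow, ← conj_pow, h, τ_pow]
  have cz : ∀ a c, Commute (τ (a, c)) (τ (z, 1)) := fun a c => mem_Cz.1 (w.T_le1 (τ_mem τ a c))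
  obtain ⟨ν, hν, k₀, hk, hP, hQ⟩ := two_sub (F.sylT w) (N := NN (w.z1_sq τ) (τ (a' ^ k, b' ^ k))) NN_le
    (P := g •ᶜ ((⊤ : Subgroup W).prod (Cz (b ^ k))).map τ) (Q := τ.range ⊓ NN (w.z1_sq τ) (τ (a' ^ k, b' ^ k)))
    (isPGroup_cj g (F.pg_prod _ _)) (F.pgT.to_le inf_le_left) (fun x hx' => by
      obtain ⟨_, hx'', rfl⟩ := mem_cj'.1 hx'
      obtain ⟨a, -, c, hc, rfl⟩ := mem_prod_map.1 hx''
      exact ⟨(hg.mul_left (cz a c)).mul_left hg.inv_left, Or.inl (conj_eq_of_comm (hx ▸ comm_conj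
        (τ_comm τ (mem_center_iff.1 (pow_mem hζ k) a) (mem_Cz.1 hc)) g))⟩) inf_le_right
  have e1 : τ (y, 1) * τ (a' ^ k, b' ^ k) * (τ (y, 1))⁻¹ = τ (a' ^ k, b' ^ k) * τ (z, 1) := by
    rw [τ_conj, hy, τ_mul]; simp
  obtain ⟨v, u, e2⟩ := mem_T.1 (hQ _ ⟨τ_mem τ _ _, cz _ _, Or.inl (conj_eq_of_comm (Commute.refl _))⟩)
  obtain ⟨p, q, e3⟩ := mem_T.1 (hQ _ ⟨τ_mem τ y 1, cz _ _, Or.inr e1⟩)
  have e4 : k₀ * (τ (a' ^ k, b' ^ k) * τ (z, 1)) * k₀⁻¹ = τ (v * z, u) := by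
    rw [← conj_mul_conj, e2, conj_eq_of_comm (mem_Cz.1 hk), τ_mul, mul_one]
  have hv : v ∉ center W := fun hc => w.z_ne (by
    have e5 : τ (p, q) * τ (v, u) * (τ (p, q))⁻¹ = τ (v * z, u) := by rw [← e4, ← e1, ← e2, ← e3]; group
    rw [τ_conj, F.eq_iff, conj_eq_of_comm (mem_center_iff.1 hc p)] at e5
    exact left_eq_mul.1 e5.1)
  obtain ⟨α, β, hα⟩ := F.coords1 (g := k₀ * ν * g) fun a => by
    simpa [mul_assoc] using hP _ (conj_mem_cj (mem_prod_map.2 ⟨a, mem_top a, 1, one_mem _, rfl⟩))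
  have hc : ∀ a, Commute (α a) v := fun a => by
    have e5 := comm_conj (τ_comm τ (mem_center_iff.1 (pow_mem hζ k) a) (Commute.one_left (b ^ k))) (k₀ * ν * g)
    have e6 : k₀ * ν * g * τ (ζ ^ k, b ^ k) * (k₀ * ν * g)⁻¹ = k₀ * (ν * τ (a' ^ k, b' ^ k) * ν⁻¹) * k₀⁻¹ := by
      rw [← hx]; group
    rw [hα, e6] at e5
    rcases hν.2 with e7 | e7 <;> rw [e7] at e5
    · exact (F.comm_iff.1 (e2 ▸ e5)).1
    · have := (F.comm_iff.1 (e4 ▸ e5)).1.mul_right (w.zc _)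
      rwa [mul_assoc, w.z_sq, mul_one] at this
  have e5 := hα z
  rw [conj_eq_of_comm (((mem_Cz.1 hk).mul_left hν.1).mul_left hg),
    w.map_z α fun a b => w.ab v hv _ _ (hc a) (hc b)] at e5
  exact w.z_ne (F.eq_iff.1 e5).1

/-- Let `C = C_W(b)`; `τ (1,c)^h = τ (α c, β c)` with `α c` central (`stepA`).  `β` is injective (a nontrivial element of the kernel has a power mapped to
`z₁` (`exists_pow`, `z_uniq`), but `z₁^h = z₁`) and `Z(W) < C`, so some `β c` is noncentral.  The second coordinates of `W₁^h` centralise it, so commute (`ab`);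
hence `τ (i,1)^h = τ (x, 1)` with `x` a commutator (`i_comm`), `x² = z`; `i_uniq`. -/
theorem f5 {b : W} {h : G} (hh : Commute h (τ (z, 1)))
    (H : ∀ a c, Commute c b → h * τ (a, c) * h⁻¹ ∈ τ.range) :
    h * τ (i, 1) * h⁻¹ = τ (i, 1) ∨ h * τ (i, 1) * h⁻¹ = τ (i * z, 1) := by
  obtain ⟨α, β, h1⟩ := F.coords2 (C := Cz b) fun c hc => H 1 c (mem_Cz.1 hc)
  obtain ⟨γ, δ, h2⟩ := F.coords1 fun a => H a 1 (Commute.one_left b)
  have hβ : Function.Injective β := (injective_iff_map_eq_one β).2 fun c hc => by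
    by_contra hne
    obtain ⟨j, j1, j2⟩ := w.exists_pow (a := (c : W)) fun e => hne (Subtype.ext e)
    have e1 := h1 (c ^ 2 ^ j)
    rw [map_pow β, hc, one_pow, coe_pow] at e1
    rcases w.z_uniq _ (F.stepA w (one_mem _) hh e1) (by
      rw [← map_mul, show c ^ 2 ^ j * c ^ 2 ^ j = 1 from Subtype.ext j2, map_one]) with k | k <;> rw [k] at e1
    · exact j1 (F.eq_one_iff.1 (conj_eq_one_iff.1 (e1.trans (τ_one τ)))).2
    · rw [← conj_eq_of_comm hh] at e1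
      exact j1 (F.eq_iff.1 (mul_left_cancel (mul_right_cancel e1))).2
  obtain ⟨c, hc⟩ : ∃ c, β c ∉ center W := by
    by_contra! hc
    have c1 := Nat.card_le_card_of_injective (fun c => (⟨β c, hc c⟩ : center W))
      fun a b e => hβ (congrArg Subtype.val e)
    have c2 := eq_of_le_of_card_ge (center_le_centralizer ({b} : Set W)) c1
    have c3 : b ∈ center W := c2 ▸ mem_Cz.2 (Commute.refl b)
    exact w.i_nc (c2 ▸ mem_Cz.2 (mem_center_iff.1 c3 i))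
  have h3 : ∀ a, Commute (δ a) (β c) := fun a => (F.comm_iff.1 (by
    rw [← h1, ← h2]; exact comm_conj (τ_comm τ (Commute.one_right a) (Commute.one_left _)) h)).2
  have h4 := w.map_i δ fun a b => w.ab _ hc _ _ (h3 a) (h3 b)
  obtain ⟨p, q, e1⟩ := w.i_comm
  have h5 := h2 z
  rw [conj_eq_of_comm hh, F.eq_iff] at h5
  rw [h2, h4]
  rcases w.i_uniq (γ p) (γ q) (γ i) (by rw [e1]; simp only [map_mul, map_inv])
    (by rw [← map_mul, w.i_sq, h5.1.symm]) with k | k <;> rw [k]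
  exacts [Or.inl rfl, Or.inr rfl]

/-- `y = g τ (ζ,b) g⁻¹ = τ (ζ', b')`, `ζ'` central.  `two_sub` in `N = C₁ ⊓ C(y)` for `τ (W × C(b))^g` and `τ (W × C(b'))`, and `f5` twice: `ν g` maps `τ (i,1)` into
`{τ (i,1), τ (i z,1)}`; correct by `τ (y₀,1)` (`z_comm`), which centralises `τ (ζ, b)`. -/
theorem red {ζ b : W} {g : G} (hζ : ζ ∈ center W) (hg : Commute g (τ (z, 1)))
    (h : g * τ (ζ, b) * g⁻¹ ∈ τ.range) :
    ∃ d, Commute d (τ (i, 1)) ∧ d * τ (ζ, b) * d⁻¹ = g * τ (ζ, b) * g⁻¹ := by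
  obtain ⟨ζ', b', e1⟩ := mem_T.1 h
  have hζ' := F.stepA w hζ hg e1
  have cz : ∀ a c, Commute (τ (a, c)) (τ (z, 1)) := fun a c => mem_Cz.1 (w.T_le1 (τ_mem τ a c))
  obtain ⟨ν, hν, k, hk, hP, hQ⟩ := two_sub (F.sylT w) (N := Cz (τ (z, 1)) ⊓ Cz (τ (ζ', b'))) inf_le_left
    (P := g •ᶜ ((⊤ : Subgroup W).prod (Cz b)).map τ) (Q := ((⊤ : Subgroup W).prod (Cz b')).map τ)
    (isPGroup_cj g (F.pg_prod _ _)) (F.pg_prod _ _) (fun x hx' => by
      obtain ⟨_, hx'', rfl⟩ := mem_cj'.1 hx'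
      obtain ⟨a, -, c, hc, rfl⟩ := mem_prod_map.1 hx''
      exact ⟨mem_Cz.2 ((hg.mul_left (cz a c)).mul_left hg.inv_left),
        mem_Cz.2 (e1 ▸ comm_conj (τ_comm τ (mem_center_iff.1 hζ a) (mem_Cz.1 hc)) g)⟩) (fun x hx => by
      obtain ⟨a, -, c, hc, rfl⟩ := mem_prod_map.1 hx
      exact ⟨mem_Cz.2 (cz a c), mem_Cz.2 (τ_comm τ (mem_center_iff.1 hζ' a) (mem_Cz.1 hc))⟩)
  have iz : τ (i * z, 1) = τ (i, 1) * τ (z, 1) := by rw [τ_mul, mul_one]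
  have c1 := ((mem_Cz.1 hk).mul_left (mem_Cz.1 hν.1)).mul_left hg
  have m1 : k * ν * g ∈ NN (w.z1_sq τ) (τ (i, 1)) := ⟨c1, iz ▸ F.f5 w (b := b) c1 fun a c hc => by
    simpa [mul_assoc] using hP _ (conj_mem_cj (mem_prod_map.2 ⟨a, mem_top a, c, mem_Cz.2 hc, rfl⟩))⟩
  have m2 : k ∈ NN (w.z1_sq τ) (τ (i, 1)) := ⟨mem_Cz.1 hk, iz ▸ F.f5 w (b := b') (mem_Cz.1 hk) fun a c hc =>
    hQ _ (mem_prod_map.2 ⟨a, mem_top a, c, mem_Cz.2 hc, rfl⟩)⟩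
  have m3 : ν * g ∈ NN (w.z1_sq τ) (τ (i, 1)) := by simpa [mul_assoc] using mul_mem (inv_mem m2) m1
  have e2 : ν * g * τ (ζ, b) * (ν * g)⁻¹ = g * τ (ζ, b) * g⁻¹ := by
    conv_rhs => rw [e1, ← conj_eq_of_comm (mem_Cz.1 hν.2), ← e1]
    group
  rcases m3.2 with k1 | k1
  · exact ⟨_, comm_of_conj_eq k1, e2⟩
  · obtain ⟨y, hy⟩ := w.z_comm
    have e3 : ∀ x, ν * g * τ (y, 1) * x * (ν * g * τ (y, 1))⁻¹ = ν * g * (τ (y, 1) * x * (τ (y, 1))⁻¹) * (ν * g)⁻¹ :=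
      fun x => by group
    refine ⟨ν * g * τ (y, 1), comm_of_conj_eq ?_, ?_⟩
    · rw [e3, τ_conj, hy, mul_one, mul_inv_cancel, iz, ← conj_mul_conj, k1, conj_eq_of_comm m3.1, mul_assoc,
        w.z1_sq, mul_one]
    · rw [e3, conj_eq_of_comm (τ_comm τ (mem_center_iff.1 hζ y) (Commute.one_left b)), e2]

/-- `T` is Sylow in `N = {h ∈ C₁ | τ (i,1)^h ∈ {τ (i,1), τ (i z,1)}}` (`i_conj`), `C(τ (i,1))` is normal in `N` (`SylIn.inf_normal`). -/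
theorem sylI : SylIn 2 (((Cz i).prod ⊤).map τ) (Cz (τ (i, 1))) := by
  have iz : τ (z, 1) = τ (i, 1) * τ (i, 1) := by rw [τ_mul, mul_one, w.i_sq]
  have c1 : ∀ x, Commute x (τ (i, 1)) → Commute x (τ (z, 1)) := fun x hx => iz ▸ hx.mul_right hx
  have h1 := ((F.sylT w).of_le (K := NN (w.z1_sq τ) (τ (i, 1))) (fun x hx => by
    obtain ⟨a, b, rfl⟩ := mem_T.1 hx
    refine ⟨mem_Cz.1 (w.T_le1 hx), ?_⟩
    rw [τ_conj, τ_mul, mul_one, mul_inv_cancel, mul_one]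
    rcases w.i_conj a with k | k <;> rw [k]
    exacts [Or.inl rfl, Or.inr rfl]) NN_le).inf_normal_of_le (N := Cz (τ (i, 1)))
    (le_normalizer_of_cj_le fun x hx y hy => by
      obtain ⟨c, hc, rfl⟩ := mem_cj'.1 hy
      have c2 : Commute c (x⁻¹ * τ (i, 1) * x⁻¹⁻¹) := by
        rcases (inv_mem hx).2 with k | k <;> rw [k]
        exacts [mem_Cz.1 hc, (mem_Cz.1 hc).mul_right (c1 c (mem_Cz.1 hc))]
      simpa [mul_assoc, mem_Cz] using comm_conj c2 x)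
    fun x hx => ⟨c1 x (mem_Cz.1 hx), Or.inl (conj_eq_of_comm (mem_Cz.1 hx))⟩
  convert h1 using 1
  ext x
  rw [mem_prod_map, mem_inf, mem_T]
  exact ⟨fun ⟨a, ha, b, _, e⟩ => ⟨⟨a, b, e⟩, e ▸ mem_Cz.2 (τ_comm τ (mem_Cz.1 ha) (Commute.one_right b))⟩,
    fun ⟨⟨a, b, e⟩, hx⟩ => ⟨a, mem_Cz.2 (F.comm_iff.1 (e ▸ mem_Cz.1 hx)).1, b, mem_top b, e⟩⟩

end Fr

end CL.L5
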