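import Cfsg.Agent.INV.L5.Tool
import Cfsg.Agent.INV.ABG.OfCent
import Cfsg.Agent.CLAS.SLBasic

/-! # The facts `M3` for a group of `3 × 3` matrices of determinant one -/

set_option autoImplicit false

namespace CL.L5.G3

open Subgroup Cfsg CL.MSS CL.PComp Matrix
open scoped MatrixGroups

variable {F : Type*} [Field F]

/-- block form with respect to the coordinate `r`. -/
def Blk (r : Fin 3) (M : Matrix (Fin 3) (Fin 3) F) : Prop := ∀ c, c ≠ r → M r c = 0 ∧ M c r = 0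

/-- the involution with `+1` in position `r`. -/
def dg (F : Type*) [Field F] (r : Fin 3) : Matrix (Fin 3) (Fin 3) F := diagonal fun i => if i = r then 1 else -1

theorem dg_sq (r : Fin 3) : dg F r * dg F r = 1 := by
  rw [dg, diagonal_mul_diagonal, ← diagonal_one]
  congr 1; ext i; split_ifs <;> simp

theorem blk_dg (r s : Fin 3) : Blk r (dg F s) := fun _ hc =>
  ⟨diagonal_apply_ne _ hc.symm, diagonal_apply_ne _ hc⟩

theorem comm_dg (h2 : (2 : F) ≠ 0) {r : Fin 3} {M : Matrix (Fin 3) (Fin 3) F} :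
    M * dg F r = dg F r * M ↔ Blk r M := by
  constructor
  · intro h c hc
    have h1 := congrFun (congrFun h r) c
    have h3 := congrFun (congrFun h c) r
    simp only [dg, mul_diagonal, diagonal_mul, hc, if_true, if_false] at h1 h3
    exact ⟨(mul_eq_zero.1 (show (2 : F) * M r c = 0 by linear_combination -h1)).resolve_left h2,
      (mul_eq_zero.1 (show (2 : F) * M c r = 0 by linear_combination h3)).resolve_left h2⟩
  · intro h
    ext i j
    simp only [dg, mul_diagonal, diagonal_mul]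
    by_cases hi : i = r <;> by_cases hj : j = r
    · simp [hi, hj]
    · simp [hi, hj, (h j hj).1]
    · simp [hi, hj, (h i hi).2]
    · simp [hi, hj]

theorem Blk.mul_rr {r : Fin 3} {M : Matrix (Fin 3) (Fin 3) F} (h : Blk r M) (M' : Matrix (Fin 3) (Fin 3) F) :
    (M * M') r r = M r r * M' r r := by
  rw [mul_apply]
  exact Finset.sum_eq_single r (fun c _ hc => by rw [(h c hc).1, zero_mul]) (by simp)

variable {Γ : Type*} [Group Γ] {μ : Γ →* Matrix (Fin 3) (Fin 3) F}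

theorem comm_iff (h2 : (2 : F) ≠ 0) (hμ : Function.Injective μ) {a : Γ} {r : Fin 3} (ha : μ a = dg F r) {x : Γ} :
    Commute x a ↔ Blk r (μ x) := by
  rw [← comm_dg h2, ← ha, ← map_mul, ← map_mul, hμ.eq_iff]; rfl

/-- the entry `(r, r)` on the centraliser. -/
def chi (h2 : (2 : F) ≠ 0) (hμ : Function.Injective μ) {a : Γ} {r : Fin 3} (ha : μ a = dg F r) : Cz a →* F where
  toFun x := μ x r r
  map_one' := by simp
  map_mul' x y := by
    rw [coe_mul, map_mul]; exact ((comm_iff h2 hμ ha).1 (mem_Cz.1 x.2)).mul_rr _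

theorem eq_one_of_pow {p : ℕ} [Fact p.Prime] [CharP F p] {c : F} {k : ℕ} (h : c ^ p ^ k = 1) : c = 1 := by
  have := sub_pow_char_pow (p := p) c 1 k
  rw [h, one_pow, sub_self] at this
  exact sub_eq_zero.1 (pow_eq_zero_iff (pow_ne_zero _ (Fact.out : p.Prime).ne_zero) |>.1 this)

theorem transvection_pow {K : Type*} [Field K] {i j : Fin 2} (h : i ≠ j) (c : K) (n : ℕ) :
    (SpecialLinearGroup.transvection h c) ^ n = SpecialLinearGroup.transvection h (n * c) := by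
  induction n with
  | zero => simp
  | succ n ih =>
    rw [pow_succ, ih, ← SpecialLinearGroup.transvection_add]
    congr 1; push_cast; ring

section one

variable {p : ℕ} [Fact p.Prime] [CharP F p] (h2 : (2 : F) ≠ 0) (hμ : Function.Injective μ)
  {K : Type*} [Field K] [Fintype K] [CharP K p] {a : Γ} {r : Fin 3} (ha : μ a = dg F r) {K₁ : Subgroup Γ}
  (h1 : ∀ x, x ∈ K₁ ↔ Blk r (μ x) ∧ μ x r r = 1)
include h2 hμ ha h1

theorem mem_of_pow {x : Γ} (hx : Commute x a) {k : ℕ} (hk : x ^ p ^ k = 1) : x ∈ K₁ := by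
  refine (h1 x).2 ⟨(comm_iff h2 hμ ha).1 hx, eq_one_of_pow (p := p) (k := k) ?_⟩
  have := map_pow (chi h2 hμ ha) ⟨x, mem_Cz.2 hx⟩ (p ^ k)
  rw [show (⟨x, mem_Cz.2 hx⟩ : Cz a) ^ p ^ k = 1 from Subtype.ext hk, map_one] at this
  exact this.symm

omit [Fintype K] in
theorem eq_Kp (e : SL(2, K) ≃* K₁) : K₁ = Kp p ⊤ a := by
  refine le_antisymm (fun x hx => ?_) ((closure_le _).2 ?_)
  · obtain ⟨y, hy⟩ := e.surjective ⟨x, hx⟩
    have : (Kp p ⊤ a).comap (K₁.subtype.comp e.toMonoidHom) = ⊤ :=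
      CL.SL.eq_top_of_transvection_mem _ fun i j h c => subset_closure ⟨mem_top _,
        (comm_iff h2 hμ ha).2 ((h1 _).1 (e _).2).1, 1, by
          rw [← map_pow, pow_one, transvection_pow, CharP.cast_eq_zero, zero_mul,
            SpecialLinearGroup.transvection_coeff_zero, map_one]⟩
    have h3 : y ∈ (Kp p ⊤ a).comap (K₁.subtype.comp e.toMonoidHom) := this ▸ mem_top _
    have h4 : ((e y : K₁) : Γ) ∈ Kp p ⊤ a := h3
    rwa [hy] at h4
  · rintro x ⟨-, hx, k, hk⟩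
    exact mem_of_pow h2 hμ ha h1 hx hk

theorem comm_mem {x y : Γ} (hx : Commute x a) (hy : Commute y a) : x * y * x⁻¹ * y⁻¹ ∈ K₁ := by
  have hc : Commute (x * y * x⁻¹ * y⁻¹) a := ((hx.mul_left hy).mul_left hx.inv_left).mul_left hy.inv_left
  refine (h1 _).2 ⟨(comm_iff h2 hμ ha).1 hc, ?_⟩
  set X : Cz a := ⟨x, mem_Cz.2 hx⟩
  set Y : Cz a := ⟨y, mem_Cz.2 hy⟩
  change chi h2 hμ ha (X * Y * X⁻¹ * Y⁻¹) = 1
  rw [map_mul, map_mul, map_mul, mul_right_comm (chi h2 hμ ha X), ← map_mul, mul_inv_cancel, map_one, one_mul,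
    ← map_mul, mul_inv_cancel, map_one]

omit h2 hμ ha h1 in
theorem oK (hK : Odd (Fintype.card K)) (e : SL(2, K) ≃* K₁) (N : Subgroup Γ) (hN : N ≤ K₁)
    (hn : K₁ ≤ normalizer (N : Set Γ)) (ho : Odd (Nat.card N)) : N = ⊥ := by
  have hN' : (N.subgroupOf K₁).Normal := normal_subgroupOf_of_le_normalizer hn
  have h3 : ((N.subgroupOf K₁).comap e.toMonoidHom).Normal := hN'.comap _
  have h4 := CL.ABG.eq_bot_of_odd_SL2 hK (N := (N.subgroupOf K₁).comap e.toMonoidHom) (by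
    rw [← Nat.card_congr (subgroupOfEquivOfLe hN).toEquiv] at ho
    exact ho.of_dvd_nat (card_comap_dvd_of_injective _ _ e.injective))
  refine eq_bot_iff.2 fun x hx => ?_
  have h5 : e.symm ⟨x, hN hx⟩ ∈ (N.subgroupOf K₁).comap e.toMonoidHom := by
    rw [mem_comap]; simpa [mem_subgroupOf] using hx
  rw [h4, mem_bot, map_eq_one_iff _ e.symm.injective] at h5
  exact congrArg Subtype.val h5

theorem al [Finite Γ] (hK : Odd (Fintype.card K)) (e : SL(2, K) ≃* K₁) (N : Subgroup Γ) (hN : N ≤ Cz a)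
    (hn : Cz a ≤ normalizer (N : Set Γ)) (ho : Odd (Nat.card N)) (x : Γ) (hx : x ∈ N) (y : Γ)
    (hy : Commute y a) : Commute x y := by
  have hle : K₁ ≤ Cz a := fun z hz => mem_Cz.2 ((comm_iff h2 hμ ha).2 ((h1 z).1 hz).1)
  have h3 := oK hK e (N ⊓ K₁) inf_le_right (le_normalizer_inf (hle.trans hn) le_normalizer)
    (ho.of_dvd_nat (card_dvd_of_le inf_le_left))
  have h4 : x * y * x⁻¹ * y⁻¹ ∈ N ⊓ K₁ := mem_inf.2 ⟨by
    have := mul_mem hx (conj_mem_of_normalizes hn (mem_Cz.2 hy) (inv_mem hx))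
    simpa only [mul_assoc] using this, comm_mem h2 hμ ha h1 (mem_Cz.1 (hN hx)) hy⟩
  rw [h3, mem_bot] at h4
  exact commutatorElement_eq_one_iff_commute.1 h4

end one

theorem eq_one_of_blk {M : Matrix (Fin 3) (Fin 3) F} (h2 : Blk 2 M) (h0 : Blk 0 M) (e2 : M 2 2 = 1) (e0 : M 0 0 = 1)
    (hd : M.det = 1) : M = 1 := by
  have a1 := h2 0 (by decide)
  have a2 := h2 1 (by decide)
  have a3 := h0 1 (by decide)
  rw [det_fin_three] at hd
  simp only [a1.1, a1.2, a2.1, a2.2, a3.1, a3.2, e0, e2] at hd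
  ext i j
  fin_cases i <;> fin_cases j <;> simp [a1.1, a1.2, a2.1, a2.2, a3.1, a3.2, e0, e2]
  linear_combination hd

theorem m3_gen [Finite Γ] {p : ℕ} [Fact p.Prime] [CharP F p] (h2 : (2 : F) ≠ 0) (hμ : Function.Injective μ)
    (hdet : ∀ x, (μ x).det = 1) {K : Type*} [Field K] [Fintype K] [CharP K p] (hK : Odd (Fintype.card K))
    {a b : Γ} (ha : μ a = dg F 2) (hb : μ b = dg F 0) {K₁ K₂ : Subgroup Γ}
    (h1 : ∀ x, x ∈ K₁ ↔ Blk 2 (μ x) ∧ μ x 2 2 = 1) (h0 : ∀ x, x ∈ K₂ ↔ Blk 0 (μ x) ∧ μ x 0 0 = 1)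
    (e₁ : SL(2, K) ≃* K₁) (e₂ : SL(2, K) ≃* K₂)
    (zc : Nat.card (center Γ) = 1 ∨ (Nat.card (center Γ) = 3 ∧ p ≠ 3)) (perf : commutator Γ = ⊤) :
    M3 p a b K₁ K₂ := by
  have hm : (-1 : F) ≠ 1 := fun e => h2 (by linear_combination -e)
  refine
    { prime := Fact.out
      a_sq := hμ (by rw [map_mul, ha, dg_sq, map_one])
      b_sq := hμ (by rw [map_mul, hb, dg_sq, map_one])
      a_ne := fun e => hm ?_
      b_ne := fun e => hm ?_
      ab_ne := fun e => hm ?_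
      comm := (comm_iff h2 hμ hb).2 (ha ▸ blk_dg _ _)
      K1 := eq_Kp h2 hμ ha h1 e₁
      K2 := eq_Kp h2 hμ hb h0 e₂
      a_mem := (h1 a).2 ⟨ha ▸ blk_dg _ _, by simp [ha, dg]⟩
      b_mem := (h0 b).2 ⟨hb ▸ blk_dg _ _, by simp [hb, dg]⟩
      tor := fun h => ?_
      oK := oK hK e₁
      al := al h2 hμ ha h1 hK e₁
      zc := zc
      perf := perf }
  · rw [e, map_one] at ha
    simpa [dg] using (congrFun (congrFun ha 0) 0).symm
  · rw [e, map_one] at hb
    simpa [dg] using (congrFun (congrFun hb 1) 1).symm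
  · rw [e, hb] at ha
    simpa [dg] using (congrFun (congrFun ha 0) 0).symm
  · obtain ⟨x, hx⟩ := exists_prime_orderOf_dvd_card' p h
    have h3 : (x : Γ) ^ p ^ 1 = 1 := by
      rw [pow_one, ← hx, ← coe_pow, pow_orderOf_eq_one, coe_one]
    have h4 := (h1 _).1 (mem_of_pow h2 hμ ha h1 (mem_Cz.1 x.2.1) h3)
    have h5 := (h0 _).1 (mem_of_pow h2 hμ hb h0 (mem_Cz.1 x.2.2) h3)
    have h6 : x = 1 := Subtype.ext (hμ (by
      rw [coe_one, map_one]; exact eq_one_of_blk h4.1 h5.1 h4.2 h5.2 (hdet _)))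
    rw [h6, orderOf_one] at hx
    exact (Fact.out : p.Prime).one_lt.ne hx

end CL.L5.G3
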