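import Cfsg.Agent.INV.L5.Tool
import Cfsg.Agent.FUS.Rk2Dih
import Cfsg.Agent.FUS.Rk2Wr

/-! # The facts `WF` for semidihedral and wreathed 2-groups -/

set_option autoImplicit false

namespace CL.L5

open Subgroup Cfsg CL.MSS CL.PComp CL.Z2

namespace Mod

theorem exists_mul_hh {n : ℕ} {k : ZMod (2 ^ n)} (hk : k ≠ 0) :
    ∃ m : ℕ, (m : ZMod (2 ^ n)) * k = hh n := by
  obtain ⟨c, hc, b, rfl⟩ := exists_eq_pow_mul_odd k
  obtain ⟨v, hv⟩ := exists_inv_odd b
  have hcn : c < n := by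
    rcases hc.lt_or_eq with h | rfl
    · exact h
    · exact absurd (by rw [two_pow_self, zero_mul]) hk
  refine ⟨(2 ^ (n - 1 - c) * v : ZMod (2 ^ n)).val, ?_⟩
  rw [ZMod.natCast_zmod_val]
  have : hh n = 2 ^ (n - 1 - c) * 2 ^ c := by
    rw [← pow_add, hh]; congr 1; omega
  rw [this]
  linear_combination (2 ^ (n - 1 - c) * 2 ^ c) * hv

section gen

variable {W : Type*} [Group W] {z : W}

theorem emb_of_rank (z1 : z ≠ 1) (z2 : z * z = 1) (zc : z ∈ center W)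
    (rk : ∀ a b : W, a * a = 1 → b * b = 1 → Commute a b →
      a = 1 ∨ b = 1 ∨ a = b ∨ a = z ∨ b = z ∨ a * b = z)
    {x : W} (f : centralizer ({x} : Set W) →* W) (hf : Function.Injective f) {t : W}
    (ht : t * t = 1) (hc : ∀ c, Commute t (f c)) {u : W} (hux : Commute u x) (u2 : u * u = 1)
    (u1 : u ≠ 1) (uz : u ≠ z) : t ∈ f.range := by
  by_contra hn
  have hz : z ∈ centralizer ({x} : Set W) :=
    mem_Cz.2 (show z * x = x * z from (mem_center_iff.1 zc x).symm)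
  have hu : u ∈ centralizer ({x} : Set W) := mem_Cz.2 hux
  set Z : centralizer ({x} : Set W) := ⟨z, hz⟩
  set U : centralizer ({x} : Set W) := ⟨u, hu⟩
  have Z2 : f Z * f Z = 1 := by rw [← map_mul, ← map_one f]; congr 1; exact Subtype.ext z2
  have U2 : f U * f U = 1 := by rw [← map_mul, ← map_one f]; congr 1; exact Subtype.ext u2
  have Z1 : f Z ≠ 1 := fun h => z1 (congrArg Subtype.val (hf (h.trans (map_one f).symm)))
  have U1 : f U ≠ 1 := fun h => u1 (congrArg Subtype.val (hf (h.trans (map_one f).symm)))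
  have ZU : f Z ≠ f U := fun h => uz (congrArg Subtype.val (hf h)).symm
  have hZU : Commute (f Z) (f U) := by
    refine Commute.map ?_ f
    exact Subtype.ext (mem_center_iff.1 zc u).symm
  have zr : z ∈ f.range := by
    rcases rk _ _ Z2 U2 hZU with h | h | h | h | h | h
    · exact absurd h Z1
    · exact absurd h U1
    · exact absurd h ZU
    · exact ⟨_, h⟩
    · exact ⟨_, h⟩
    · exact ⟨Z * U, by rw [map_mul, h]⟩
  have key : ∀ c, f c * f c = 1 → f c ≠ 1 → f c = z := by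
    intro c c2 c1
    rcases rk _ _ ht c2 (hc c) with h | h | h | h | h | h
    · exact absurd (h ▸ one_mem _) hn
    · exact absurd h c1
    · exact absurd ⟨c, h.symm⟩ hn
    · exact absurd (h ▸ zr) hn
    · exact h
    · refine absurd ?_ hn
      have : t = z * (f c)⁻¹ := by rw [← h]; group
      rw [this]
      exact mul_mem zr (inv_mem ⟨c, rfl⟩)
  exact ZU ((key Z Z2 Z1).trans (key U U2 U1).symm)

theorem emb_of_uniq (z1 : z ≠ 1) (z2 : z * z = 1) (zc : z ∈ center W)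
    {x : W} (f : centralizer ({x} : Set W) →* W) (hf : Function.Injective f) {t : W}
    (ht : t * t = 1) (hc : ∀ c, Commute t (f c)) (c : centralizer ({x} : Set W))
    (h : ∀ t, t * t = 1 → Commute t (f c) → t = 1 ∨ t = z) : t ∈ f.range := by
  have hz : z ∈ centralizer ({x} : Set W) :=
    mem_Cz.2 (show z * x = x * z from (mem_center_iff.1 zc x).symm)
  set Z : centralizer ({x} : Set W) := ⟨z, hz⟩
  have Z2 : f Z * f Z = 1 := by rw [← map_mul, ← map_one f]; congr 1; exact Subtype.ext z2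
  have Z1 : f Z ≠ 1 := fun h => z1 (congrArg Subtype.val (hf (h.trans (map_one f).symm)))
  have hZ : Commute (f Z) (f c) := by
    refine Commute.map ?_ f
    exact Subtype.ext (mem_center_iff.1 zc c).symm
  rcases h t ht (hc c) with rfl | rfl
  · exact one_mem _
  · exact ⟨Z, (h _ Z2 hZ).resolve_left Z1⟩

theorem aut_top (h : IsPGroup 2 (MulAut (⊤ : Subgroup W))) : IsPGroup 2 (MulAut W) :=
  h.of_equiv (MulAut.congr topEquiv)

end gen

section qd

open CL.QD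

variable {W : Type*} [Group W] {n : ℕ} (c : Coord (⊤ : Subgroup W) n)

theorem qd_cases (g : W) : (∃ i, g = c.r i) ∨ ∃ i, g = c.s i := (c.mem_iff g).1 (mem_top g)

theorem qd_cen (g : W) : g ∈ center W ↔ g = 1 ∨ g = c.r (hh n) := by
  rw [← c.central_iff (mem_top g), mem_center_iff]
  simp

theorem qd_cen_r (i : ZMod (2 ^ n)) : c.r i ∈ center W ↔ 2 * i = 0 := by
  rw [qd_cen c, c.r_eq_one_iff, c.r_eq_iff, two_mul_eq_zero_iff c.one_le]

theorem qd_s_nc (i : ZMod (2 ^ n)) : c.s i ∉ center W := by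
  rw [qd_cen c]
  rintro (h | h)
  · exact c.s_ne_one _ h
  · exact c.s_ne_r _ _ h

theorem qd_rr (i j : ZMod (2 ^ n)) : Commute (c.r i) (c.r j) := by
  rw [Commute, SemiconjBy, c.r_mul_r, c.r_mul_r, add_comm]

theorem qd_sr (i j : ZMod (2 ^ n)) : Commute (c.s i) (c.r j) ↔ 2 * j = 0 := by
  rw [Commute, SemiconjBy, c.s_mul_r, c.r_mul_s, c.s_eq_iff]
  have := c.shift_mul_eq_zero_iff 1 j
  constructor
  · intro h
    have h2 := this.1 (by linear_combination -h)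
    linear_combination h2
  · intro h
    have h2 := this.2 (by linear_combination h)
    linear_combination -h2

theorem qd_rs (i j : ZMod (2 ^ n)) : Commute (c.r j) (c.s i) ↔ 2 * j = 0 := by
  rw [← qd_sr c i j]; exact ⟨Commute.symm, Commute.symm⟩

theorem qd_ss (i j : ZMod (2 ^ n)) : Commute (c.s i) (c.s j) ↔ 2 * (i - j) = 0 := by
  rw [Commute, SemiconjBy, c.s_mul_s, c.s_mul_s, c.r_eq_iff]
  have := c.shift_mul_eq_zero_iff 1 (i - j)
  constructor
  · intro h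
    have h2 := this.1 (by linear_combination h)
    linear_combination h2
  · intro h
    have h2 := this.2 (by linear_combination h)
    linear_combination h2

theorem qd_r_sq (i : ZMod (2 ^ n)) : c.r i * c.r i = 1 ↔ 2 * i = 0 := by
  rw [c.r_mul_r, c.r_eq_one_iff, two_mul]

theorem qd_s_sq (i : ZMod (2 ^ n)) : c.s i * c.s i = 1 ↔ hh n * i = 0 := by
  rw [c.s_sq, c.r_eq_one_iff]

include c in
theorem qd_q2 : 2 * qq n ≠ 0 := by
  rw [c.two_q]; exact c.h_ne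

theorem qd_rank (a b : W) (ha : a * a = 1) (hb : b * b = 1) (h : Commute a b) :
    a = 1 ∨ b = 1 ∨ a = b ∨ a = c.r (hh n) ∨ b = c.r (hh n) ∨ a * b = c.r (hh n) := by
  rcases qd_cases c a with ⟨i, rfl⟩ | ⟨i, rfl⟩
  · rcases (qd_cen c _).1 ((qd_cen_r c i).2 ((qd_r_sq c i).1 ha)) with h | h <;> tauto
  rcases qd_cases c b with ⟨j, rfl⟩ | ⟨j, rfl⟩
  · rcases (qd_cen c _).1 ((qd_cen_r c j).2 ((qd_r_sq c j).1 hb)) with h | h <;> tauto
  rw [qd_ss, two_mul_eq_zero_iff c.one_le] at h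
  rw [qd_s_sq] at hb
  rcases h with h | h
  · exact Or.inr (Or.inr (Or.inl (by rw [sub_eq_zero.1 h])))
  · refine Or.inr (Or.inr (Or.inr (Or.inr (Or.inr ?_))))
    rw [c.s_mul_s, c.r_eq_iff]
    linear_combination h + hb

theorem qd_uniq {y : W} (hy : y * y ≠ 1) (t : W) (ht : t * t = 1) (h : Commute t y) :
    t = 1 ∨ t = c.r (hh n) := by
  rcases qd_cases c t with ⟨i, rfl⟩ | ⟨i, rfl⟩
  · exact (qd_cen c _).1 ((qd_cen_r c i).2 ((qd_r_sq c i).1 ht))
  exfalso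
  apply hy
  rcases qd_cases c y with ⟨j, rfl⟩ | ⟨j, rfl⟩
  · exact (qd_r_sq c j).2 ((qd_sr c _ _).1 h)
  · rw [qd_ss, two_mul_eq_zero_iff c.one_le] at h
    rw [qd_s_sq] at ht ⊢
    rcases h with h | h
    · linear_combination ht - hh n * h
    · linear_combination ht - hh n * h - c.h_h

theorem qd_det : ∃ d : W →* W, (∀ i, d (c.r i) = c.r (hh n * i)) ∧
    ∀ i, d (c.s i) = c.r (hh n * (i + 1)) := by
  classical
  let F : W → W := fun g => if h : ∃ i, g = c.r i then c.r (hh n * h.choose)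
    else c.r (hh n * (((qd_cases c g).resolve_left h).choose + 1))
  have Fr : ∀ i, F (c.r i) = c.r (hh n * i) := by
    intro i
    have h : ∃ j, c.r i = c.r j := ⟨i, rfl⟩
    simp only [F, dif_pos h]
    rw [← c.r_eq_iff.1 h.choose_spec]
  have Fs : ∀ i, F (c.s i) = c.r (hh n * (i + 1)) := by
    intro i
    have h : ¬ ∃ j, c.s i = c.r j := fun ⟨j, hj⟩ => c.s_ne_r _ _ hj
    simp only [F, dif_neg h]
    rw [← c.s_eq_iff.1 ((qd_cases c (c.s i)).resolve_left h).choose_spec]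
  refine ⟨MonoidHom.mk' F fun a b => ?_, Fr, Fs⟩
  rcases qd_cases c a with ⟨i, rfl⟩ | ⟨i, rfl⟩ <;> rcases qd_cases c b with ⟨j, rfl⟩ | ⟨j, rfl⟩
  · rw [c.r_mul_r, Fr, Fr, Fr, c.r_mul_r, mul_add]
  · rw [c.r_mul_s, Fr, Fs, Fs, c.r_mul_r, c.r_eq_iff]; ring
  · rw [c.s_mul_r, Fr, Fs, Fs, c.r_mul_r, c.r_eq_iff]
    linear_combination j * c.h_h - j * c.two_h
  · rw [c.s_mul_s, Fr, Fs, Fs, c.r_mul_r, c.r_eq_iff]
    linear_combination j * c.h_h - (j + 1) * c.two_h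

theorem qd_conj_e {a : W} (ha : a ∉ center W) (h2 : a * a = 1) : ∃ y, y * a * y⁻¹ = c.s 0 := by
  rcases qd_cases c a with ⟨i, rfl⟩ | ⟨i, rfl⟩
  · exact absurd ((qd_cen_r c i).2 ((qd_r_sq c i).1 h2)) ha
  · obtain ⟨t, ht⟩ := c.exists_conj_s (i := i) (j := 0) (by rw [(qd_s_sq c i).1 h2, mul_zero])
    exact ⟨_, ht⟩

theorem qd_wf (h : IsQuasiDihedral W) :
    WF (c.r (hh n)) (c.s 0) (c.r (qq n)) (c.r (qq n)) where
  sw := Or.inl h
  pg := c.isPGroup.of_equiv topEquiv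
  aut := aut_top c.isPGroup_mulAut
  z_ne := fun h => c.h_ne (c.r_eq_one_iff.1 h)
  z_sq := (qd_r_sq c _).2 c.two_h
  z_cen := (qd_cen c _).2 (Or.inr rfl)
  z_uniq := fun x hx _ => (qd_cen c x).1 hx
  ab := by
    intro x hx a b ha hb
    rcases qd_cases c x with ⟨k, rfl⟩ | ⟨k, rfl⟩
    · rw [qd_cen_r] at hx
      rcases qd_cases c a with ⟨i, rfl⟩ | ⟨i, rfl⟩
      · rcases qd_cases c b with ⟨j, rfl⟩ | ⟨j, rfl⟩
        · exact qd_rr c _ _
        · exact absurd ((qd_sr c _ _).1 hb) hx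
      · exact absurd ((qd_sr c _ _).1 ha) hx
    · rcases qd_cases c a with ⟨i, rfl⟩ | ⟨i, rfl⟩ <;> rcases qd_cases c b with ⟨j, rfl⟩ | ⟨j, rfl⟩
      · exact qd_rr c _ _
      · exact (qd_rs c _ _).2 ((qd_rs c _ _).1 ha)
      · exact (qd_sr c _ _).2 ((qd_rs c _ _).1 hb)
      · rw [qd_ss] at ha hb ⊢
        linear_combination ha - hb
  i_comm := by
    obtain ⟨t, ht⟩ := c.exists_shift (i := 0) (j := qq n) (by rw [c.h_q, mul_zero])
    refine ⟨c.r t, c.s 0, ?_⟩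
    rw [c.r_conj_s, c.s_inv, c.s_mul_s, c.r_eq_iff]
    linear_combination ht
  i_sq := by rw [c.r_mul_r, ← two_mul, c.two_q]
  i_nc := fun h => qd_q2 c ((qd_cen_r c _).1 h)
  i_conj := by
    intro y
    rcases qd_cases c y with ⟨k, rfl⟩ | ⟨k, rfl⟩
    · exact Or.inl (c.r_conj_r _ _)
    · right
      rw [c.s_conj_r, c.r_mul_r, c.r_eq_iff]
      linear_combination c.h_q - c.two_q - c.two_h
  i_uniq := by
    intro p q x hx h2
    have : ∃ k, x = c.r k := by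
      rcases qd_cases c p with ⟨i, rfl⟩ | ⟨i, rfl⟩ <;> rcases qd_cases c q with ⟨j, rfl⟩ | ⟨j, rfl⟩
      · exact ⟨_, by rw [hx, c.r_conj_r, c.r_inv, c.r_mul_r]⟩
      · exact ⟨_, by rw [hx, c.r_conj_s, c.s_inv, c.s_mul_s]⟩
      · exact ⟨_, by rw [hx, c.s_conj_r, c.r_inv, c.r_mul_r]⟩
      · exact ⟨_, by rw [hx, c.s_conj_s, c.s_inv, c.s_mul_s]⟩
    obtain ⟨k, rfl⟩ := this
    rw [c.r_mul_r, c.r_eq_iff, ← two_mul, two_mul_eq_hh_iff c.two_le] at h2
    rcases h2 with rfl | rfl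
    · exact Or.inl rfl
    · right
      rw [c.r_mul_r, c.r_eq_iff]
      linear_combination -c.two_q - c.two_h
  step := by
    intro a ha
    rcases qd_cases c a with ⟨k, rfl⟩ | ⟨k, rfl⟩
    · rw [qd_cen_r] at ha
      obtain ⟨m, hm⟩ := exists_mul_hh ha
      refine ⟨m, c.s 0, ?_⟩
      have h0 : hh n * ((m : ZMod (2 ^ n)) * k) = 0 := by
        rcases (two_mul_eq_hh_iff c.two_le ((m : ZMod (2 ^ n)) * k)).1 (by linear_combination hm)
          with h | h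
        · rw [h, c.h_q]
        · rw [h, mul_neg, c.h_q, neg_zero]
      rw [c.r_pow, c.s_conj_r, c.r_mul_r, c.r_eq_iff]
      linear_combination h0 - hm - c.two_h
    · obtain ⟨t, ht⟩ := c.exists_conj_s (i := k) (j := k + hh n) (by rw [mul_add, c.h_h, add_zero])
      refine ⟨1, c.r t, ?_⟩
      rw [pow_one, ht, c.s_mul_r, c.s_eq_iff]
      linear_combination c.two_h - c.h_h
  emb := by
    intro x hx f hf t ht hc
    have z1 : c.r (hh n) ≠ 1 := fun h => c.h_ne (c.r_eq_one_iff.1 h)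
    have z2 := (qd_r_sq c _).2 c.two_h
    have zc := (qd_cen c _).2 (Or.inr rfl)
    by_cases h2 : x * x = 1
    · exact emb_of_rank z1 z2 zc (qd_rank c) f hf ht hc (Commute.refl x) h2
        (fun h => hx (h ▸ one_mem _)) (fun h => hx (h ▸ zc))
    · refine emb_of_uniq z1 z2 zc f hf ht hc ⟨x, mem_Cz.2 (Commute.refl x)⟩ (qd_uniq c ?_)
      intro h
      rw [← map_mul, ← map_one f] at h
      exact h2 (congrArg Subtype.val (hf h))
  cyc := by
    refine ⟨_, (qd_cen c _).2 (Or.inr rfl), fun x hx => ?_⟩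
    rcases (qd_cen c x).1 hx with rfl | rfl
    · exact ⟨0, (pow_zero _).symm⟩
    · exact ⟨1, (pow_one _).symm⟩
  acyc := by
    refine ⟨c.r 1, qd_rr c _ _, fun a ha => ?_⟩
    rcases qd_cases c a with ⟨k, rfl⟩ | ⟨k, rfl⟩
    · exact ⟨k.val, 1, one_mem _, by rw [c.r_pow, ZMod.natCast_zmod_val, mul_one, mul_one]⟩
    · exact absurd ((qd_sr c _ _).1 ha) (qd_q2 c)
  e_sq := (qd_s_sq c _).2 (mul_zero _)
  e_nc := qd_s_nc c _
  n_e := by
    rw [c.r_conj_s, c.s_mul_r, c.s_eq_iff]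
    linear_combination c.two_q - c.h_q - c.h_h + c.two_h
  rank2 := qd_rank c
  big := fun a ha h2 _ => qd_conj_e c ha h2
  typ := fun a ha h2 => Or.inl (qd_conj_e c ha h2)
  fixB := by
    intro b h1 h2
    rcases qd_cases c b with ⟨k, rfl⟩ | ⟨k, rfl⟩
    · exact (qd_cen_r c _).2 ((qd_rs c _ _).1 h1)
    · exact absurd ((qd_sr c _ _).1 h2) (qd_q2 c)
  dich := by
    right
    intro x hx h
    apply hx
    rcases qd_cases c x with ⟨k, rfl⟩ | ⟨k, rfl⟩
    · rw [c.r_mul_r] at h ⊢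
      exact (qd_cen_r c _).2 ((qd_r_sq c _).1 h)
    · rw [c.s_sq] at h ⊢
      exact (qd_cen_r c _).2 ((qd_r_sq c _).1 h)
  det := by
    obtain ⟨d, hr, hs⟩ := qd_det c
    refine ⟨d, fun a => ?_, fun a ha h2 => ?_⟩
    · rcases qd_cases c a with ⟨k, rfl⟩ | ⟨k, rfl⟩
      · rw [hr, qd_cen_r]; linear_combination k * c.two_h
      · rw [hs, qd_cen_r]; linear_combination (k + 1) * c.two_h
    · rcases qd_cases c a with ⟨k, rfl⟩ | ⟨k, rfl⟩
      · exact absurd ((qd_cen_r c k).2 ((qd_r_sq c k).1 h2)) ha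
      · rw [hs, c.r_eq_iff]
        linear_combination (qd_s_sq c k).1 h2
  d8 := by
    refine ⟨c.s 0, c.s (qq n), (qd_s_sq c _).2 (mul_zero _), (qd_s_sq c _).2 c.h_q, ?_⟩
    rw [c.s_mul_s, c.r_mul_r, c.r_eq_iff]
    linear_combination 2 * c.h_q - c.two_q - c.two_h

end qd

section wr

open CL.Wr

variable {W : Type*} [Group W] {n : ℕ} (c : Coord (⊤ : Subgroup W) n)

theorem wr_cases (g : W) : (∃ a b, g = c.u a b) ∨ ∃ a b, g = c.w a b := (c.mem_iff g).1 (mem_top g)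

theorem wr_cen (g : W) : g ∈ center W ↔ ∃ a, g = c.u a a := by
  rw [← c.mem_center_iff g, top_inf_eq, coe_top, centralizer_univ]

theorem wr_cen_u (a b : ZMod (2 ^ n)) : c.u a b ∈ center W ↔ a = b := by
  rw [wr_cen c]
  constructor
  · rintro ⟨t, ht⟩
    obtain ⟨h1, h2⟩ := c.u_eq_iff.1 ht
    rw [h1, h2]
  · rintro rfl
    exact ⟨a, rfl⟩

theorem wr_w_nc (a b : ZMod (2 ^ n)) : c.w a b ∉ center W := by
  rw [wr_cen c]
  rintro ⟨t, ht⟩
  exact c.w_ne_u _ _ _ _ ht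

theorem wr_uu (a b a' b' : ZMod (2 ^ n)) : Commute (c.u a b) (c.u a' b') := c.u_comm _ _ _ _

theorem wr_wu (s t a b : ZMod (2 ^ n)) : Commute (c.w s t) (c.u a b) ↔ a = b :=
  c.w_comm_u_iff _ _ _ _

theorem wr_uw (s t a b : ZMod (2 ^ n)) : Commute (c.u a b) (c.w s t) ↔ a = b := by
  rw [← wr_wu c s t a b]; exact ⟨Commute.symm, Commute.symm⟩

theorem wr_ww (s t a b : ZMod (2 ^ n)) : Commute (c.w s t) (c.w a b) ↔ a - b = s - t :=
  c.w_comm_w_iff _ _ _ _

include c in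
theorem wr_qq : qq n ≠ -qq n := fun h => c.h_ne (by linear_combination h - c.two_q)

theorem wr_diag {a : ZMod (2 ^ n)} (h : c.u a a * c.u a a = 1) :
    c.u a a = 1 ∨ c.u a a = c.u (hh n) (hh n) := by
  rw [c.u_sq_eq_one_iff, two_mul_eq_zero_iff c.one_le] at h
  rcases h.1 with rfl | rfl
  · exact Or.inl c.u_zero
  · exact Or.inr rfl

theorem wr_rank (a b : W) (ha : a * a = 1) (hb : b * b = 1) (h : Commute a b) :
    a = 1 ∨ b = 1 ∨ a = b ∨ a = c.u (hh n) (hh n) ∨ b = c.u (hh n) (hh n) ∨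
      a * b = c.u (hh n) (hh n) := by
  rcases wr_cases c a with ⟨i, j, rfl⟩ | ⟨i, j, rfl⟩ <;>
    rcases wr_cases c b with ⟨k, l, rfl⟩ | ⟨k, l, rfl⟩
  · rw [c.u_sq_eq_one_iff, two_mul_eq_zero_iff c.one_le, two_mul_eq_zero_iff c.one_le] at ha hb
    obtain ⟨rfl | rfl, rfl | rfl⟩ := ha <;> obtain ⟨rfl | rfl, rfl | rfl⟩ := hb <;>
      simp [c.u_zero, c.u_mul_u]
  · obtain rfl := (wr_uw c _ _ _ _).1 h
    rcases wr_diag c ha with h | h <;> tauto
  · obtain rfl := (wr_wu c _ _ _ _).1 h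
    rcases wr_diag c hb with h | h <;> tauto
  · rw [wr_ww] at h
    rw [c.w_sq_eq_one_iff] at ha hb
    rcases (two_mul_eq_zero_iff c.one_le (i - k)).1 (by linear_combination ha - hb - h) with h1 | h1
    · refine Or.inr (Or.inr (Or.inl ?_))
      rw [c.w_eq_iff]
      exact ⟨by linear_combination h1, by linear_combination ha - hb - h1⟩
    · refine Or.inr (Or.inr (Or.inr (Or.inr (Or.inr ?_))))
      rw [c.w_mul_w, c.u_eq_iff]
      exact ⟨by linear_combination h1 + hb, by linear_combination ha - h1 - c.two_h⟩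

theorem wr_w_pow (a b : ZMod (2 ^ n)) :
    c.w a b ^ 2 ^ n = c.u (hh n * (a + b)) (hh n * (a + b)) := by
  have : 2 ^ n = 2 * 2 ^ (n - 1) := by
    have := c.one_le
    rw [← pow_succ']; congr 1; omega
  rw [show c.w a b ^ 2 ^ n = c.w a b ^ (2 * 2 ^ (n - 1)) from congrArg _ this, pow_mul, sq,
    c.w_sq, c.u_pow]
  simp [hh]

theorem wr_uniq {y : W} (hy : y ^ 2 ^ n ≠ 1) (t : W) (ht : t * t = 1) (h : Commute t y) :
    t = 1 ∨ t = c.u (hh n) (hh n) := by
  rcases wr_cases c y with ⟨a, b, rfl⟩ | ⟨a, b, rfl⟩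
  · exact absurd ((c.u_pow_two_pow_eq_one_iff a b n).2 (by simp [two_pow_self])) hy
  rcases wr_cases c t with ⟨i, j, rfl⟩ | ⟨i, j, rfl⟩
  · obtain rfl := (wr_uw c _ _ _ _).1 h
    exact wr_diag c ht
  · exfalso
    apply hy
    rw [wr_ww] at h
    rw [c.w_sq_eq_one_iff] at ht
    have : hh n * (a + b) = 0 := by
      linear_combination hh n * h + hh n * ht + (b - j) * c.two_h
    rw [wr_w_pow, this, c.u_zero]

theorem wr_det : ∃ d : W →* W, (∀ a b, d (c.u a b) = c.u (a + b) (a + b)) ∧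
    ∀ a b, d (c.w a b) = c.u (a + b + hh n) (a + b + hh n) := by
  classical
  let F : W → ZMod (2 ^ n) := fun g => if h : ∃ a b, g = c.u a b then h.choose + h.choose_spec.choose
    else ((wr_cases c g).resolve_left h).choose +
      ((wr_cases c g).resolve_left h).choose_spec.choose + hh n
  have Fu : ∀ a b, F (c.u a b) = a + b := by
    intro a b
    have h : ∃ a' b', c.u a b = c.u a' b' := ⟨a, b, rfl⟩
    simp only [F, dif_pos h]
    obtain ⟨h1, h2⟩ := c.u_eq_iff.1 h.choose_spec.choose_spec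
    exact (congrArg₂ (· + ·) h1 h2).symm
  have Fw : ∀ a b, F (c.w a b) = a + b + hh n := by
    intro a b
    have h : ¬ ∃ a' b', c.w a b = c.u a' b' := fun ⟨_, _, hj⟩ => c.w_ne_u _ _ _ _ hj
    simp only [F, dif_neg h]
    obtain ⟨h1, h2⟩ := c.w_eq_iff.1 ((wr_cases c (c.w a b)).resolve_left h).choose_spec.choose_spec
    exact (congrArg₂ (fun x y => x + y + hh n) h1 h2).symm
  have Fm : ∀ x y, F (x * y) = F x + F y := by
    intro x y
    rcases wr_cases c x with ⟨i, j, rfl⟩ | ⟨i, j, rfl⟩ <;>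
      rcases wr_cases c y with ⟨k, l, rfl⟩ | ⟨k, l, rfl⟩
    · rw [c.u_mul_u, Fu, Fu, Fu]; ring
    · rw [c.u_mul_w, Fu, Fw, Fw]; ring
    · rw [c.w_mul_u, Fu, Fw, Fw]; ring
    · rw [c.w_mul_w, Fu, Fw, Fw]; linear_combination -c.two_h
  refine ⟨MonoidHom.mk' (fun g => c.u (F g) (F g)) fun a b => ?_, fun a b => ?_, fun a b => ?_⟩
  · simp only [Fm, c.u_mul_u]
  · simp only [MonoidHom.mk'_apply, Fu]
  · simp only [MonoidHom.mk'_apply, Fw]

theorem wr_inv {a : W} (ha : a ∉ center W) (h2 : a * a = 1) :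
    a = c.u (hh n) 0 ∨ a = c.u 0 (hh n) ∨ ∃ s t, s + t = 0 ∧ a = c.w s t := by
  rcases wr_cases c a with ⟨i, j, rfl⟩ | ⟨i, j, rfl⟩
  · rw [c.u_sq_eq_one_iff, two_mul_eq_zero_iff c.one_le, two_mul_eq_zero_iff c.one_le] at h2
    rw [wr_cen_u] at ha
    obtain ⟨rfl | rfl, rfl | rfl⟩ := h2
    · exact absurd rfl ha
    · exact Or.inr (Or.inl rfl)
    · exact Or.inl rfl
    · exact absurd rfl ha
  · exact Or.inr (Or.inr ⟨i, j, (c.w_sq_eq_one_iff _ _).1 h2, rfl⟩)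

theorem card_line (d : ZMod (2 ^ n)) :
    Nat.card {x : ZMod (2 ^ n) × ZMod (2 ^ n) // x.1 - x.2 = d} = 2 ^ n := by
  have e : {x : ZMod (2 ^ n) × ZMod (2 ^ n) // x.1 - x.2 = d} ≃ ZMod (2 ^ n) :=
    { toFun := fun x => x.1.2
      invFun := fun b => ⟨(d + b, b), by simp⟩
      left_inv := by
        rintro ⟨⟨a, b⟩, h⟩
        refine Subtype.ext (Prod.ext ?_ rfl)
        simp only at h ⊢
        linear_combination -h
      right_inv := fun b => rfl }
  rw [Nat.card_congr e, Nat.card_zmod]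

theorem wr_card_w (s t : ZMod (2 ^ n)) :
    Nat.card (centralizer ({c.w s t} : Set W)) = 2 ^ n + 2 ^ n := by
  rw [c.card_eq le_top (fun x => x.1 - x.2 = 0) (fun x => x.1 - x.2 = s - t), card_line, card_line]
  · intro a b
    rw [mem_Cz, wr_uw, sub_eq_zero]
  · intro a b
    rw [mem_Cz, wr_ww]
    exact eq_comm

theorem wr_card_e : 2 ^ n * 2 ^ n ≤ Nat.card (centralizer ({c.u (hh n) 0} : Set W)) := by
  rw [c.card_eq le_top (fun _ => True) (fun _ => False)]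
  · rw [Nat.card_subtype_true, Nat.card_prod, Nat.card_zmod]
    omega
  · intro a b
    rw [mem_Cz]
    exact iff_true_intro (wr_uu c _ _ _ _)
  · intro a b
    rw [mem_Cz, wr_wu]
    exact iff_false_intro c.h_ne

theorem wr_wf (h : IsWreathed W) :
    WF (c.u (hh n) (hh n)) (c.u (hh n) 0) (c.w 0 0) (c.u (qq n) (-qq n)) where
  sw := Or.inr h
  pg := c.isPGroup.of_equiv topEquiv
  aut := aut_top c.isPGroup_mulAut
  z_ne := fun h => c.h_ne (c.u_eq_one_iff.1 h).1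
  z_sq := (c.u_sq_eq_one_iff _ _).2 ⟨c.two_h, c.two_h⟩
  z_cen := (wr_cen_u c _ _).2 rfl
  z_uniq := by
    intro x hx h2
    obtain ⟨a, rfl⟩ := (wr_cen c x).1 hx
    exact wr_diag c h2
  ab := by
    intro x hx a b ha hb
    rcases wr_cases c x with ⟨k, l, rfl⟩ | ⟨k, l, rfl⟩
    · rw [wr_cen_u] at hx
      rcases wr_cases c a with ⟨i, j, rfl⟩ | ⟨i, j, rfl⟩
      · rcases wr_cases c b with ⟨i', j', rfl⟩ | ⟨i', j', rfl⟩
        · exact wr_uu c _ _ _ _
        · exact absurd ((wr_wu c _ _ _ _).1 hb) hx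
      · exact absurd ((wr_wu c _ _ _ _).1 ha) hx
    · rcases wr_cases c a with ⟨i, j, rfl⟩ | ⟨i, j, rfl⟩ <;>
        rcases wr_cases c b with ⟨i', j', rfl⟩ | ⟨i', j', rfl⟩
      · exact wr_uu c _ _ _ _
      · exact (wr_uw c _ _ _ _).2 ((wr_uw c _ _ _ _).1 ha)
      · exact (wr_wu c _ _ _ _).2 ((wr_uw c _ _ _ _).1 hb)
      · rw [wr_ww] at ha hb ⊢
        linear_combination ha - hb
  i_comm := by
    refine ⟨c.u (qq n) 0, c.w 0 0, ?_⟩
    rw [c.u_conj_w, c.w_inv, c.w_mul_w, c.u_eq_iff]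
    constructor <;> ring
  i_sq := by
    rw [c.u_mul_u, c.u_eq_iff]
    exact ⟨by linear_combination c.two_q, by linear_combination -c.two_q - c.two_h⟩
  i_nc := fun h => wr_qq c ((wr_cen_u c _ _).1 h)
  i_conj := by
    intro y
    rcases wr_cases c y with ⟨k, l, rfl⟩ | ⟨k, l, rfl⟩
    · exact Or.inl (c.u_conj_u _ _ _ _)
    · right
      rw [c.w_conj_u, c.u_mul_u, c.u_eq_iff]
      exact ⟨by linear_combination -c.two_q - c.two_h, by linear_combination c.two_q⟩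
  i_uniq := by
    intro p q x hx h2
    have : x ∈ ⁅(⊤ : Subgroup W), (⊤ : Subgroup W)⁆ := by
      rw [hx, ← commutatorElement_def]
      exact commutator_mem_commutator (mem_top _) (mem_top _)
    obtain ⟨a, rfl⟩ := (c.mem_commutator_iff x).1 this
    rw [c.u_mul_u, c.u_eq_iff, ← two_mul, two_mul_eq_hh_iff c.hn] at h2
    rcases h2.1 with rfl | rfl
    · exact Or.inl rfl
    · right
      rw [c.u_mul_u, c.u_eq_iff]
      exact ⟨by linear_combination -c.two_q - c.two_h, by linear_combination c.two_q⟩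
  step := by
    intro a ha
    rcases wr_cases c a with ⟨k, l, rfl⟩ | ⟨k, l, rfl⟩
    · rw [wr_cen_u, ← sub_eq_zero] at ha
      obtain ⟨m, hm⟩ := exists_mul_hh ha
      refine ⟨m, c.w 0 0, ?_⟩
      rw [c.u_pow, c.w_conj_u, c.u_mul_u, c.u_eq_iff]
      exact ⟨by linear_combination -hm - c.two_h, by linear_combination hm⟩
    · refine ⟨1, c.u (hh n) 0, ?_⟩
      rw [pow_one, c.u_conj_w, c.w_mul_u, c.w_eq_iff]
      exact ⟨by ring, by linear_combination -c.two_h⟩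
  emb := by
    intro x hx f hf t ht hc
    have z1 : c.u (hh n) (hh n) ≠ 1 := fun h => c.h_ne (c.u_eq_one_iff.1 h).1
    have z2 := (c.u_sq_eq_one_iff _ _).2 ⟨c.two_h, c.two_h⟩
    have zc := (wr_cen_u c (hh n) _).2 rfl
    rcases wr_cases c x with ⟨k, l, rfl⟩ | ⟨k, l, rfl⟩
    · refine emb_of_rank z1 z2 zc (wr_rank c) f hf ht hc (wr_uu c (hh n) 0 k l)
        ((c.u_sq_eq_one_iff _ _).2 ⟨c.two_h, mul_zero _⟩) (fun h => c.h_ne (c.u_eq_one_iff.1 h).1)
        (fun h => c.h_ne (c.u_eq_iff.1 h).2.symm)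
    · rcases c.par (k + l) with h | h
      · obtain ⟨m, hm⟩ := (hh_mul_eq_zero_iff c.one_le _).1 h
        exact emb_of_rank z1 z2 zc (wr_rank c) f hf ht hc (u := c.w (k - m) (l - m))
          ((wr_ww c _ _ _ _).2 (by ring)) ((c.w_sq_eq_one_iff _ _).2 (by linear_combination hm))
          (c.w_ne_one _ _) (c.w_ne_u _ _ _ _)
      · refine emb_of_uniq z1 z2 zc f hf ht hc ⟨_, mem_Cz.2 (Commute.refl _)⟩ (wr_uniq c ?_)
        intro h1
        rw [← map_pow, ← map_one f] at h1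
        have h2 : c.w k l ^ 2 ^ n = 1 := congrArg Subtype.val (hf h1)
        rw [wr_w_pow, h] at h2
        exact z1 h2
  cyc := by
    refine ⟨c.u 1 1, (wr_cen_u c _ _).2 rfl, fun x hx => ?_⟩
    obtain ⟨a, rfl⟩ := (wr_cen c x).1 hx
    exact ⟨a.val, by rw [c.u_pow, ZMod.natCast_zmod_val, mul_one]⟩
  acyc := by
    refine ⟨c.u 1 0, wr_uu c _ _ _ _, fun a ha => ?_⟩
    rcases wr_cases c a with ⟨k, l, rfl⟩ | ⟨k, l, rfl⟩
    · refine ⟨(k - l).val, c.u l l, (wr_cen_u c _ _).2 rfl, ?_⟩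
      rw [c.u_pow, ZMod.natCast_zmod_val, c.u_mul_u, c.u_eq_iff]
      constructor <;> ring
    · exact absurd ((wr_wu c _ _ _ _).1 ha) (wr_qq c)
  e_sq := (c.u_sq_eq_one_iff _ _).2 ⟨c.two_h, mul_zero _⟩
  e_nc := fun h => c.h_ne ((wr_cen_u c _ _).1 h)
  n_e := by
    rw [c.w_conj_u, c.u_mul_u, c.u_eq_iff]
    exact ⟨by linear_combination -c.two_h, by ring⟩
  rank2 := wr_rank c
  big := by
    intro a ha h2 hle
    rcases wr_inv c ha h2 with rfl | rfl | ⟨s, t, -, rfl⟩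
    · exact ⟨1, by simp⟩
    · exact ⟨c.w 0 0, c.w_conj_u _ _ _ _⟩
    · exfalso
      have h1 := (wr_card_e c).trans hle
      rw [wr_card_w] at h1
      have h4 : 2 ^ 2 ≤ 2 ^ n := Nat.pow_le_pow_right (by norm_num) c.hn
      nlinarith
  typ := by
    intro a ha h2
    rcases wr_inv c ha h2 with rfl | rfl | ⟨s, t, -, rfl⟩
    · exact Or.inl ⟨1, by simp⟩
    · exact Or.inl ⟨c.w 0 0, c.w_conj_u _ _ _ _⟩
    · refine Or.inr ⟨⟨c.u (qq n) (qq n), (wr_cen_u c _ _).2 rfl, ?_⟩, fun x hx => ?_, fun y hy => ?_⟩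
      · rw [c.u_mul_u, ← two_mul, c.two_q]
      · rcases wr_cases c x with ⟨k, l, rfl⟩ | ⟨k, l, rfl⟩
        · rw [c.u_mul_u] at hx; exact c.u_ne_w _ _ _ _ hx
        · rw [c.w_mul_w] at hx; exact c.u_ne_w _ _ _ _ hx
      · rcases wr_cases c y with ⟨k, l, rfl⟩ | ⟨k, l, rfl⟩
        · rw [c.u_conj_u, wr_wu] at hy; exact c.h_ne hy
        · rw [c.w_conj_u, wr_wu] at hy; exact c.h_ne hy.symm
  fixB := by
    intro b h1 h2
    rcases wr_cases c b with ⟨k, l, rfl⟩ | ⟨k, l, rfl⟩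
    · exact (wr_cen_u c _ _).2 ((wr_uw c _ _ _ _).1 h2)
    · exact absurd ((wr_wu c _ _ _ _).1 h1) c.h_ne
  dich := Or.inl (wr_uu c _ _ _ _)
  det := by
    obtain ⟨d, hu, hw⟩ := wr_det c
    refine ⟨d, fun a => ?_, fun a ha h2 => ?_⟩
    · rcases wr_cases c a with ⟨k, l, rfl⟩ | ⟨k, l, rfl⟩
      · rw [hu, wr_cen_u]
      · rw [hw, wr_cen_u]
    · rcases wr_inv c ha h2 with rfl | rfl | ⟨s, t, h, rfl⟩
      · rw [hu, add_zero]
      · rw [hu, zero_add]
      · rw [hw, h, zero_add]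
  d8 := by
    refine ⟨c.u (hh n) 0, c.w 0 0, (c.u_sq_eq_one_iff _ _).2 ⟨c.two_h, mul_zero _⟩,
      (c.w_sq_eq_one_iff _ _).2 (add_zero _), ?_⟩
    rw [c.u_mul_w, c.w_sq, c.u_eq_iff]
    constructor <;> ring

end wr

end Mod

theorem exists_wf {W : Type*} [Group W] [Finite W] (h : IsQuasiDihedral W ∨ IsWreathed W) :
    ∃ z e n i : W, WF z e n i := by
  rcases h with h | h
  · obtain ⟨n, ⟨c⟩⟩ := CL.QD.exists_coord_top h
    exact ⟨_, _, _, _, Mod.qd_wf c h⟩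
  · obtain ⟨n, ⟨c⟩⟩ := CL.Wr.exists_coord_top h
    exact ⟨_, _, _, _, Mod.wr_wf c h⟩

end CL.L5
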