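import Cfsg.Agent.INV.L5.F7
import Cfsg.Agent.INV.TransferCtl

/-! # The `S₅`-configuration of a `Sit`

`t = tt τ z e`; `t 0 = υ e`, `t 1 = υ (e z)`; `ρ` induces the 3-cycle `2 ↦ 3 ↦ 4 ↦ 2`, `WF.ind_n`, `Fr.ind_s`. -/

set_option autoImplicit false
set_option linter.unusedSectionVars false

namespace CL.L5

open Subgroup Cfsg CL.MSS CL.PComp

variable {G W : Type*} [Group G] [Finite G] [Group W] [Finite W] {τ : W × W →* G} {s ρ : G} {z e n i : W}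
  {ψ : W →* W}

namespace S1

theorem syl_of {T H N P : Subgroup G} (hT : SylIn 2 T H) (hN : N ≤ H) (hP : IsPGroup 2 P) (hPN : P ≤ N)
    (h : ∀ k ∈ H, (∀ x ∈ P, k * x * k⁻¹ ∈ T) → ∃ Q : Subgroup G, Nat.card Q ≤ Nat.card P ∧
      ∀ x ∈ N, k * x * k⁻¹ ∈ T → k * x * k⁻¹ ∈ Q) : SylIn 2 P N := by
  obtain ⟨R, hR, hPR⟩ := exists_sylIn_ge hP hPN
  obtain ⟨k, hk, hkR⟩ := hT.exists_conj_le hR.pgroup (hR.le.trans hN)
  obtain ⟨Q, hQ, hq⟩ := h k hk fun x hx => hkR (conj_mem_cj (hPR hx))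
  refine hR.of_card_le hP hPN ?_
  rw [← card_cj k R]
  refine le_trans (card_le_of_le (cj_le_iff_forall.2 fun x hx => ?_)) hQ
  exact hq x (hR.le hx) (hkR (conj_mem_cj hx))

theorem conj_inv {T H : Subgroup G} (hT : SylIn 2 T H) {y : G} (hy : y ∈ H) (h2 : y * y = 1) :
    ∃ k ∈ H, k * y * k⁻¹ ∈ T := by
  obtain ⟨k, hk, h⟩ := hT.exists_conj_le (isPGroup_zpowers (p := 2) (k := 1) (x := y) (by rw [pow_one, sq, h2]))
    (zpowers_le.2 hy)
  exact ⟨k, hk, h (conj_mem_cj (mem_zpowers y))⟩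

theorem conj_sq {k y : G} (h : y * y = 1) : k * y * k⁻¹ * (k * y * k⁻¹) = 1 := by
  rw [conj_mul_conj, h, mul_one, mul_inv_cancel]

theorem card_le (w : WF z e n i) {a : W} (ha : a ∉ center W) (h2 : a * a = 1) :
    Nat.card (Cz a) ≤ Nat.card (Cz e) := by
  by_contra h
  obtain ⟨y, hy⟩ := w.big a ha h2 (not_le.1 h).le
  exact h (by rw [← hy, ← cj_Cz, card_cj])

theorem sq_iff (F : Fr τ s) {a b : W} : τ (a, b) * τ (a, b) = 1 ↔ a * a = 1 ∧ b * b = 1 := by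
  rw [τ_mul, F.eq_one_iff]

/-- a noncentral involution is conjugate to its product with `z`. -/
theorem conj_z (w : WF z e n i) {a : W} (ha : a ∉ center W) (h2 : a * a = 1) :
    ∃ y, y * a * y⁻¹ = a * z := by
  obtain ⟨k, y, hy⟩ := w.step a ha
  have h2' : a ^ 2 = 1 := by rw [sq, h2]
  rcases Nat.even_or_odd' k with ⟨j, rfl | rfl⟩
  · rw [pow_mul, h2', one_pow] at hy
    exact absurd (by simpa using hy.symm) w.z_ne
  · rw [pow_succ, pow_mul, h2', one_pow, one_mul] at hy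
    exact ⟨y, hy⟩

end S1

open S1

namespace Sit

variable (w : WF z e n i) (Γ : Sit τ s z e ψ ρ)
include w Γ

theorem ψz : ψ z = 1 := w.map_z ψ fun a b => (mem_center_iff.1 (Γ.ψc b) (ψ a) :)

theorem ψez : ψ (e * z) = z := by rw [map_mul, Γ.ψz w, Γ.ψe, mul_one]

theorem cU {h : G} (hh : ∀ a, Commute h (τ (a, ψ a))) :
    Commute h (τ (z, 1)) ∧ Commute h (τ (e, z)) ∧ Commute h (τ (e * z, z)) :=
  ⟨by simpa [Γ.ψz w] using hh z, by simpa [Γ.ψe] using hh e, by simpa only [Γ.ψez w] using hh (e * z)⟩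

/-- the conjugate of `t 0` under `C₁`. -/
theorem t0_conj {k : G} (hk : Commute k (τ (z, 1))) (h : k * τ (e, z) * k⁻¹ ∈ τ.range) :
    ∃ a b, k * τ (e, z) * k⁻¹ = τ (a, b) ∧ Nat.card (Cz a) ≤ Nat.card (Cz e) := by
  obtain ⟨a, b, h1⟩ := mem_T.1 h
  have h2 := Γ.scU e k hk a b (by rw [Γ.ψe, h1])
  have h3 : a * a = 1 := ((sq_iff Γ.toFr).1 (h1 ▸ conj_sq ((sq_iff Γ.toFr).2 ⟨w.e_sq, w.z_sq⟩))).1
  refine ⟨a, b, h1, card_le w (fun hc => ?_) h3⟩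
  rcases w.z_uniq a hc h3 with rfl | rfl
  · rw [h2, map_one, τ_one, conj_eq_one_iff, Γ.eq_one_iff] at h1
    exact w.e_ne h1.1
  · rw [h2, Γ.ψz w, ← conj_eq_of_comm hk] at h1
    exact w.e_ne_z (Γ.eq_iff.1 (mul_left_cancel (mul_right_cancel h1))).1

theorem c01 {x : G} (h0 : Commute x (τ (e, z))) (h1 : Commute x (τ (e * z, z))) : Commute x (τ (z, 1)) :=
  w.tt01 (τ := τ) ▸ h0.mul_right h1

/-- as `Good.sylP`, with `scU`: `(t 0)^k = υ a'` for `k ∈ C₁`, `a'` noncentral. -/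
theorem syl0 : SylIn 2 (((Cz e).prod ⊤).map τ) (Cz (tt τ z e 0) ⊓ Cz (tt τ z e 1)) := by
  refine syl_of (Γ.toFr.sylT w) (fun x hx => mem_Cz.2 (Γ.c01 w (mem_Cz.1 hx.1) (mem_Cz.1 hx.2)))
    (Γ.syl.pgroup.to_le ((map_le_range τ _).trans le_sup_left)) (fun x hx => ?_) fun k hk h => ?_
  · obtain ⟨a, ha, b, -, rfl⟩ := mem_prod_map.1 hx
    exact ⟨mem_Cz.2 (τ_comm τ (mem_Cz.1 ha) (w.zc b)),
      mem_Cz.2 (τ_comm τ ((mem_Cz.1 ha).mul_right (w.zc a)) (w.zc b))⟩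
  · obtain ⟨a, b, h1, h2⟩ := Γ.t0_conj w (mem_Cz.1 hk)
      (h _ (mem_prod_map.2 ⟨e, mem_Cz.2 (Commute.refl e), z, mem_top z, rfl⟩))
    refine ⟨((Cz a).prod ⊤).map τ, ?_, fun x hx hT => ?_⟩
    · rw [Γ.card_prod, Γ.card_prod]
      exact Nat.mul_le_mul_right _ h2
    · obtain ⟨c, d, h3⟩ := mem_T.1 hT
      have := comm_conj (mem_Cz.1 hx.1) k
      rw [tt0, h1, h3, Γ.comm_iff] at this
      exact mem_prod_map.2 ⟨c, mem_Cz.2 this.1, d, mem_top d, h3⟩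

theorem sylH : SylIn 2 τ.range (Cz (τ (z, 1)) ⊓ Cz (τ (1, z))) :=
  (Γ.toFr.sylT w).of_le (le_inf w.T_le1 w.T_le2) inf_le_left

/-- `τ (B × W)` is also Sylow in `C(t 0, t 1, κ z)`; `(κ e)^k = κ a'`, `big`. -/
theorem sylD : SylIn 2 (((Cz e).prod (Cz e)).map τ) (centralizer (AA (tt τ z e) : Set G)) := by
  have cA : ∀ x ∈ centralizer (AA (tt τ z e) : Set G), ∀ a ∈ AA (tt τ z e), Commute x a :=
    fun x hx a ha => (mem_centralizer_iff.1 hx a ha).symm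
  refine syl_of (Γ.sylH w) (fun x hx => ⟨mem_Cz.2 (cA x hx _ (w.mem_AA (by simp) (by simp))),
      mem_Cz.2 (cA x hx _ (w.mem_AA (by simp) (by simp)))⟩)
    (Γ.syl.pgroup.to_le ((map_le_range τ _).trans le_sup_left)) (fun x hx => ?_) fun k hk h => ?_
  · obtain ⟨a, ha, b, hb, rfl⟩ := mem_prod_map.1 hx
    have h1 := mem_Cz.1 ha
    have h2 := mem_Cz.1 hb
    rw [AA, centralizer_closure, mem_centralizer_iff]
    rintro _ ⟨j, rfl⟩
    refine Commute.symm (a := τ (a, b)) ?_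
    fin_cases j
    exacts [τ_comm τ h1 (w.zc b), τ_comm τ (h1.mul_right (w.zc a)) (w.zc b), τ_comm τ (w.zc a) (w.zc b),
      τ_comm τ (w.zc a) h2, τ_comm τ (w.zc a) (h2.mul_right (w.zc b))]
  · obtain ⟨a, b, h1, h2⟩ := Γ.t0_conj w (mem_Cz.1 hk.1)
      (h _ (mem_prod_map.2 ⟨e, mem_Cz.2 (Commute.refl e), z, mem_Cz.2 (w.zc e).symm, rfl⟩))
    obtain ⟨a', b', h3⟩ := mem_T.1
      (h _ (mem_prod_map.2 ⟨1, one_mem _, e, mem_Cz.2 (Commute.refl e), rfl⟩))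
    obtain rfl := Γ.scV e k (mem_Cz.1 hk.1) a' b' h3
    have h4 : b' * b' = 1 :=
      ((sq_iff Γ.toFr).1 (h3 ▸ conj_sq ((sq_iff Γ.toFr).2 ⟨mul_one 1, w.e_sq⟩))).2
    have h5 : b' ∉ center W := fun hc => by
      rcases w.z_uniq b' hc h4 with rfl | rfl
      · rw [τ_one, conj_eq_one_iff, Γ.eq_one_iff] at h3
        exact w.e_ne h3.2
      · rw [← conj_eq_of_comm (mem_Cz.1 hk.2)] at h3
        exact w.e_ne_z (Γ.eq_iff.1 (mul_left_cancel (mul_right_cancel h3))).2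
    refine ⟨((Cz a).prod (Cz b')).map τ, ?_, fun x hx hT => ?_⟩
    · rw [Γ.card_prod, Γ.card_prod]
      exact Nat.mul_le_mul h2 (card_le w h5 h4)
    · obtain ⟨c, d, h6⟩ := mem_T.1 hT
      have k1 := comm_conj (cA x hx _ (t_mem 0)) k
      have k2 := comm_conj (cA x hx (τ (1, e)) (w.mem_AA (by simp) (by simp))) k
      rw [tt0, h1, h6, Γ.comm_iff] at k1
      rw [h3, h6, Γ.comm_iff] at k2
      exact mem_prod_map.2 ⟨c, mem_Cz.2 k1.1, d, mem_Cz.2 k2.2, h6⟩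

theorem ind_ρ : Ind (tt τ z e) ρ (Equiv.swap 2 4 * Equiv.swap 2 3) := by
  obtain ⟨c1, c2, c3⟩ := Γ.cU w Γ.ρU
  have k : ∀ b b', ρ * τ (1, b) * ρ⁻¹ = τ (1, b') → ρ * τ (z, b) * ρ⁻¹ = τ (z, b') := fun b b' h => by
    have e1 : ∀ c, τ (z, c) = τ (z, 1) * τ (1, c) := fun c => by rw [τ_mul, mul_one, one_mul]
    rw [e1 b, e1 b', ← conj_mul_conj, h, conj_eq_of_comm c1]
  have k3 : ρ * τ (1, e * z) * ρ⁻¹ = τ (1, z) := by
    rw [show τ (1, e * z) = τ (1, e) * τ (1, z) by rw [τ_mul, mul_one], ← conj_mul_conj, Γ.ρe, Γ.ρz, τ_mul,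
      mul_one, mul_assoc, ← (w.zc e).eq, ← mul_assoc, w.e_sq, one_mul]
  intro j
  fin_cases j
  exacts [conj_eq_of_comm c2, conj_eq_of_comm c3, k _ _ Γ.ρz, k _ _ Γ.ρe, k _ _ k3]

theorem perm (σ : Equiv.Perm (Fin 5)) : ∃ g, Ind (tt τ z e) g σ := by
  have h24 := (Γ.ind_ρ w).conj_swap (w.ind_n (τ := τ))
  have h23 := (Γ.ind_ρ w).conj_swap h24
  have h21 := (Γ.toFr.ind_s (z := z) (e := e)).conj_swap h24
  have h20 := (Γ.toFr.ind_s (z := z) (e := e)).conj_swap h23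
  have : indS (tt τ z e) ⊤ = ⊤ := eq_top_of_star 2 fun k => by
    fin_cases k
    · exact ⟨_, mem_top _, by convert h20 using 1; decide⟩
    · exact ⟨_, mem_top _, by convert h21 using 1; decide⟩
    · exact ⟨1, mem_top _, by convert Ind.one using 1; decide⟩
    · exact ⟨_, mem_top _, by convert h23 using 1; decide⟩
    · exact ⟨_, mem_top _, by convert h24 using 1; decide⟩
  obtain ⟨g, -, hg⟩ := mem_indS.1 (this ▸ mem_top σ)
  exact ⟨g, hg⟩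

theorem snd_E {a b : W} (ha : a * a = 1) (hb : b * b = 1) :
    ∃ h, (∀ a, Commute h (τ (a, ψ a))) ∧ Commute h (τ (1, z)) ∧
      ∃ c, (c = 1 ∨ c = z ∨ c = e ∨ c = e * z) ∧ h * τ (a, b) * h⁻¹ = τ (a, c) := by
  by_cases hc : b ∈ center W
  · refine ⟨1, fun _ => Commute.one_left _, Commute.one_left _, b, ?_, by simp⟩
    rcases w.z_uniq b hc hb with h | h <;> simp [h]
  have p2 : ψ a * ψ a = 1 := by rw [← map_mul, ha, map_one]
  have pc := mem_center_iff.1 (Γ.ψc a)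
  obtain ⟨h, h1, h2, h3⟩ := Γ.toPre.toE w (b := ψ a * b)
    (fun k => hc (by simpa using mul_mem (inv_mem (Γ.ψc a)) k))
    (by rw [mul_assoc, ← mul_assoc b, pc b, mul_assoc, hb, mul_one, p2])
  refine ⟨h, h1, h2, ψ a * e, ?_, ?_⟩
  · rcases w.z_uniq _ (Γ.ψc a) p2 with k | k <;> rw [k]
    · simp
    · simp [(w.zc e).eq]
  · have e1 : ∀ c, τ (a, ψ a * c) = τ (a, ψ a) * τ (1, c) := fun c => by rw [τ_mul, mul_one]
    rw [show b = ψ a * (ψ a * b) by rw [← mul_assoc, p2, one_mul], e1, e1 e, ← conj_mul_conj, h3,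
      conj_eq_of_comm (h1 a)]

theorem invT {y : G} (hy : y ∈ τ.range) (h2 : y * y = 1) :
    ∃ h, Commute h (τ (z, 1)) ∧ Commute h (τ (1, z)) ∧ h * y * h⁻¹ ∈ AA (tt τ z e) := by
  obtain ⟨a, b, rfl⟩ := mem_T.1 hy
  obtain ⟨ha, hb⟩ := (sq_iff Γ.toFr).1 h2
  obtain ⟨h, h1, h2, c, hc, h3⟩ := Γ.snd_E w ha hb
  have c2 : c * c = 1 := ((sq_iff Γ.toFr).1 (h3 ▸ conj_sq ((sq_iff Γ.toFr).2 ⟨ha, hb⟩))).2
  obtain ⟨g, g1, g2, d, hd, g3⟩ := Γ.snd_E w c2 ha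
  refine ⟨s * g * s⁻¹ * h, Commute.mul_left ?_ (Γ.cU w h1).1, Commute.mul_left ?_ h2, ?_⟩
  · exact Γ.sw 1 z ▸ comm_conj g2 s
  · exact Γ.sw z 1 ▸ comm_conj (Γ.cU w g1).1 s
  · have : s * g * s⁻¹ * h * τ (a, b) * (s * g * s⁻¹ * h)⁻¹ = τ (d, c) := by
      rw [← Γ.sw c d, ← g3, ← Γ.sw a c, ← h3, Γ.s_inv]
      simp only [mul_inv_rev, inv_inv, Γ.s_inv, mul_assoc]
    rw [this]
    exact w.mem_AA hd hc

theorem invH {y : G} (h2 : y * y = 1) (c1 : Commute y (τ (z, 1))) (c2 : Commute y (τ (1, z))) :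
    ∃ h, Commute h (τ (z, 1)) ∧ Commute h (τ (1, z)) ∧ h * y * h⁻¹ ∈ AA (tt τ z e) := by
  obtain ⟨k, hk, h⟩ := conj_inv (Γ.sylH w) ⟨mem_Cz.2 c1, mem_Cz.2 c2⟩ h2
  obtain ⟨g, g1, g2, g3⟩ := Γ.invT w h (conj_sq h2)
  exact ⟨g * k, g1.mul_left (mem_Cz.1 hk.1), g2.mul_left (mem_Cz.1 hk.2), by simpa [mul_assoc] using g3⟩

theorem S_le : τ.range ⊔ zpowers s ≤ Cz (τ (z, z)) :=
  sup_le (fun x hx => by
    obtain ⟨a, b, rfl⟩ := mem_T.1 hx
    exact mem_Cz.2 (τ_comm τ (w.zc a) (w.zc b))) (zpowers_le.2 (mem_Cz.2 (comm_of_conj_eq (Γ.sw z z))))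

/-- `perm`: `indS t ⊤` contains `swap 3 4`, `swap 2 3` (conjugate by `ρ`), and their conjugates by `s`; `eq_top_of_star 2`.  `invH`: conjugate `y` into `T` inside `H`,
`τ (a,b) = υ a κ b'`, `toE` makes the second coordinate an element of `⟨z, e⟩`, the `s`-conjugate of `toE` the first one; `WF.mem_AA`.  `inv1`: `T ≤ H`.  `inv0`: `syl0`, `omegaB`, `one`.
`invX`: `T ≤ C(t 2) ⊓ C(t 0 t 1)`, `s ∈ C(t 2) ⊓ C(t 0 t 3)`, so `S` is Sylow in `M`; outer involutions are `T`-conjugate to `s` (`outer`), which commutes with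
`t 0 t 3, t 1 t 4`: transport `invH` by a permutation `0 ↦ 0, 1 ↦ 3, 3 ↦ 1, 4 ↦ 4`. -/
theorem cf : Cf (tt τ z e) := by
  have ce := Commute.refl e
  have cz := Commute.refl z
  have ez := w.zc e
  have z12 : τ (z, z) = τ (z, 1) * τ (1, z) := by rw [τ_mul, mul_one, one_mul]
  refine ⟨fun k => ?_, fun k l => ?_, ?_, ?_, ?_, Γ.perm w, fun y h2 hy => ?_, fun y h2 h h' => ?_,
    fun y h2 h h' => ?_, fun M hM y hy h2 => ?_⟩
  · fin_cases k
    exacts [(sq_iff Γ.toFr).2 ⟨w.e_sq, w.z_sq⟩, (sq_iff Γ.toFr).2 ⟨w.ez_sq, w.z_sq⟩,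
      (sq_iff Γ.toFr).2 ⟨w.z_sq, w.z_sq⟩, (sq_iff Γ.toFr).2 ⟨w.z_sq, w.e_sq⟩,
      (sq_iff Γ.toFr).2 ⟨w.z_sq, w.ez_sq⟩]
  · have hm : ∀ k, tt τ z e k ∈ ((Cz e).prod (Cz e)).map τ := fun k => by
      have m1 := mem_Cz.2 ce
      have m2 := mem_Cz.2 ez.symm
      have m3 := mul_mem m1 m2
      fin_cases k
      exacts [mem_prod_map.2 ⟨_, m1, _, m2, rfl⟩, mem_prod_map.2 ⟨_, m3, _, m2, rfl⟩,
        mem_prod_map.2 ⟨_, m2, _, m2, rfl⟩, mem_prod_map.2 ⟨_, m2, _, m1, rfl⟩,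
        mem_prod_map.2 ⟨_, m2, _, m3, rfl⟩]
    exact mem_centralizer_iff.1 ((Γ.sylD w).le (hm l)) _ (t_mem k)
  · rw [w.tt01, mul_assoc, w.tt34, tt2, τ_mul, τ_mul, w.z_sq, one_mul, one_mul, w.z_sq, τ_one]
  · rw [w.tt01]
    exact fun h => w.z_ne (Γ.eq_one_iff.1 h).1
  · rw [w.tt01]
    exact Γ.toFr.nconj w
  · rw [w.tt01] at hy ⊢
    obtain ⟨k, hk, h⟩ := conj_inv (Γ.toFr.sylT w) (mem_Cz.2 hy) h2
    obtain ⟨g, g1, -, g3⟩ := Γ.invT w h (conj_sq h2)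
    exact ⟨g * k, g1.mul_left (mem_Cz.1 hk), by simpa [mul_assoc] using g3⟩
  · rw [w.tt01] at h ⊢
    rw [w.tt34] at h' ⊢
    exact Γ.invH w h2 h h'
  · obtain ⟨k, hk, h1⟩ := conj_inv (Γ.syl0 w) ⟨mem_Cz.2 h, mem_Cz.2 h'⟩ h2
    obtain ⟨a, ha, b, -, h3⟩ := mem_prod_map.1 h1
    obtain ⟨a2, b2⟩ := (sq_iff Γ.toFr).1 (h3 ▸ conj_sq h2)
    obtain ⟨g, g1, -, c, hc, g3⟩ := Γ.snd_E w a2 b2
    refine ⟨g * k, (Γ.cU w g1).2.1.mul_left (mem_Cz.1 hk.1), (Γ.cU w g1).2.2.mul_left (mem_Cz.1 hk.2), ?_⟩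
    rw [show g * k * y * (g * k)⁻¹ = g * (k * y * k⁻¹) * g⁻¹ by group, h3, g3]
    exact w.mem_AA (w.omegaB a2 (mem_Cz.1 ha)) hc
  · have hH : ∀ h, Commute h (τ (z, 1)) → Commute h (τ (1, z)) → h ∈ M := fun h c1 c2 =>
      hM 0 1 (by decide) (by decide) (by decide)
        ⟨mem_Cz.2 (by rw [tt2, z12]; exact c1.mul_right c2), mem_Cz.2 (by rw [w.tt01]; exact c1)⟩
    have hT : τ.range ≤ M := fun x hx => hH x (mem_Cz.1 (w.T_le1 hx)) (mem_Cz.1 (w.T_le2 hx))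
    have h03 : ∀ h, Commute h (τ (e * z, e * z)) → Commute h (τ (e, e)) → h ∈ M := fun h c1 c2 =>
      hM 0 3 (by decide) (by decide) (by decide) ⟨mem_Cz.2 (by
        have := c2.mul_right c1
        rwa [τ_mul, ← mul_assoc, w.e_sq, one_mul] at this), mem_Cz.2 (by rw [w.tt03]; exact c1)⟩
    have s1 := comm_of_conj_eq (Γ.sw (e * z) (e * z))
    have s2 := comm_of_conj_eq (Γ.sw e e)
    obtain ⟨k, hk, h⟩ := conj_inv (Γ.syl.of_le (sup_le hT (zpowers_le.2 (h03 s s1 s2))) le_top) hy h2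
    rcases Γ.mem_S.1 h with h1 | ⟨a, b, h1⟩
    · obtain ⟨g, g1, g2, g3⟩ := Γ.invT w (mem_T.2 h1) (conj_sq h2)
      exact ⟨g * k, mul_mem (hH g g1 g2) hk, by simpa [mul_assoc] using g3⟩
    · have h3 := Γ.outer (h1 ▸ conj_sq h2)
      obtain ⟨σ, σ0, σ1, σ3, σ4⟩ := exists_perm4 (a := 0) (b := 3) (d := 1) (e := 4) (by decide)
      obtain ⟨g, hg⟩ := Γ.perm w σ
      have g1 := hg.two 0 1
      have g2 := hg.two 3 4
      rw [σ0, σ1, w.tt01, w.tt03] at g1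
      rw [σ3, σ4, w.tt34, w.tt14] at g2
      obtain ⟨x, x1, x2, x3⟩ := Γ.invH w (y := g⁻¹ * s * g⁻¹⁻¹) (conj_sq Γ.s2)
        (comm_of_conj (g := g) (by rw [g1]; simpa [mul_assoc] using s1))
        (comm_of_conj (g := g) (by rw [g2]; simpa [mul_assoc] using s2))
      refine ⟨g * x * g⁻¹ * (τ (a, 1))⁻¹ * k, mul_mem (mul_mem (h03 _ (g1 ▸ comm_conj x1 g) (g2 ▸ comm_conj x2 g))
        (inv_mem (hT (τ_mem τ _ _)))) hk, ?_⟩
      have : g * x * g⁻¹ * (τ (a, 1))⁻¹ * k * y * (g * x * g⁻¹ * (τ (a, 1))⁻¹ * k)⁻¹ =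
          g * (x * (g⁻¹ * s * g⁻¹⁻¹) * x⁻¹) * g⁻¹ := by
        have e1 : s = (τ (a, 1))⁻¹ * (k * y * k⁻¹) * τ (a, 1) := by rw [h1, ← h3]; group
        conv_rhs => rw [e1]
        group
      rw [this]
      exact hg.mem_AA x3

/-- the determinant on `S`. -/
theorem exists_δ : ∃ δ : G → center W, (∀ x ∈ τ.range ⊔ zpowers s, ∀ y ∈ τ.range ⊔ zpowers s,
    δ (x * y) = δ x * δ y) ∧ ∀ a b, a * a = 1 → b * b = 1 → ¬ (a ∈ center W ↔ b ∈ center W) →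
      (δ (τ (a, b)) : W) = z := by
  classical
  obtain ⟨d, dc, dz⟩ := w.det
  let D : W × W → center W := fun p => ⟨d p.1, dc _⟩ * ⟨d p.2, dc _⟩
  let δ : G → center W := fun x => if h : ∃ p, x = τ p ∨ x = τ p * s then D h.choose else 1
  have key : ∀ x p, x = τ p ∨ x = τ p * s → δ x = D p := by
    intro x p hp
    have h : ∃ p, x = τ p ∨ x = τ p * s := ⟨p, hp⟩
    simp only [δ, dif_pos h]
    congr 1
    have hq := h.choose_spec
    set q := h.choose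
    rcases hp with h1 | h1 <;> rcases hq with h2 | h2
    · exact Γ.inj (h2.symm.trans h1)
    · exact absurd (h2.symm.trans h1 ▸ ⟨p, rfl⟩) (Γ.not_mem q.1 q.2)
    · exact absurd (h1.symm.trans h2 ▸ ⟨q, rfl⟩) (Γ.not_mem p.1 p.2)
    · exact Γ.inj (mul_right_cancel (h2.symm.trans h1))
  have c : ∀ a b, d a * d b = d b * d a := fun a b => mem_center_iff.1 (dc b) _
  have D1 : ∀ a b a' b', D (a * a', b * b') = D (a, b) * D (a', b') := fun a b a' b' => Subtype.ext (by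
    simp only [D, coe_mul, map_mul]
    rw [mul_assoc, mul_assoc, ← mul_assoc (d a'), c a' b, mul_assoc])
  have D2 : ∀ a b, D (a, b) = D (b, a) := fun a b => Subtype.ext (c a b)
  refine ⟨δ, fun x hx y hy => ?_, fun a b ha hb h => ?_⟩
  · rcases Γ.mem_S.1 hx with ⟨a, b, rfl⟩ | ⟨a, b, rfl⟩ <;> rcases Γ.mem_S.1 hy with ⟨a', b', rfl⟩ | ⟨a', b', rfl⟩
    · rw [key _ _ (Or.inl (τ_mul τ _ _ _ _)), key _ _ (Or.inl rfl), key _ _ (Or.inl rfl), D1]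
    · rw [key _ (a * a', b * b') (Or.inr (by rw [← mul_assoc, τ_mul])), key _ _ (Or.inl rfl),
        key _ _ (Or.inr rfl), D1]
    · rw [key _ (a * b', b * a') (Or.inr (by rw [mul_assoc, Γ.s_mul, ← mul_assoc, τ_mul])),
        key _ _ (Or.inr rfl), key _ _ (Or.inl rfl), D1, D2 b']
    · rw [key _ (a * b', b * a') (Or.inl (by
        rw [mul_assoc, ← mul_assoc s, Γ.s_mul, mul_assoc, Γ.s2, mul_one, τ_mul])),
        key _ _ (Or.inr rfl), key _ _ (Or.inr rfl), D1, D2 b']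
  · have d1 : ∀ a ∈ center W, a * a = 1 → d a = 1 := fun a h1 h2 => by
      rcases w.z_uniq a h1 h2 with k | k <;> rw [k]
      exacts [map_one d, w.map_z d c]
    rw [key _ _ (Or.inl rfl)]
    change d a * d b = z
    by_cases h1 : a ∈ center W
    · rw [d1 a h1 ha, one_mul, dz b (by tauto) hb]
    · rw [dz a h1 ha, d1 b (by tauto) hb, mul_one]

open scoped IsMulCommutative in
/-- `δ (τ (a,b) s^k) = d a d b` (`det`) is a homomorphism `S →* center W`; transfer to `X = C(t 2)` (`transfer_eq_pow_of_ctrl`).  An `X`-conjugate `y ∈ S` of `u = t 0 t 2` is not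
conjugate to `y t 2` (`u t 2 = t 0`), so it is neither outer (`s ~ s t 2`) nor `τ (a,b)` with `a, b` both noncentral (`step`) or both central; so `δ y = z`, and the
transfer of `u` is `z^odd ≠ 1`. -/
theorem tr {Y : Subgroup G} (hY : Y ≤ Cz (tt τ z e 2)) (hp : ⁅Y, Y⁆ = Y) : tt τ z e 0 * tt τ z e 2 ∉ Y := by
  intro hu
  have C := Γ.cf w
  obtain ⟨δ, δm, δz⟩ := Γ.exists_δ w
  set X := Cz (tt τ z e 2) with hX
  set S := τ.range ⊔ zpowers s with hS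
  have hSX : SylIn 2 S X := Γ.syl.of_le (Γ.S_le w) le_top
  let φ : S.subgroupOf X →* center W :=
    MonoidHom.mk' (fun x => δ x) fun x y => δm _ (mem_subgroupOf.1 x.2) _ (mem_subgroupOf.1 y.2)
  have u2 := C.sq2 0 2
  have uS : tt τ z e 0 * tt τ z e 2 ∈ S := by rw [w.tt02]; exact mem_sup_left (τ_mem τ _ _)
  have conj : ∀ a ∈ X, ∀ y ∈ S, y = a⁻¹ * (tt τ z e 0 * tt τ z e 2) * a → (δ y : W) = z := by
    intro a ha y hy e1
    have ca := mem_Cz.1 ha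
    have y2 : y * y = 1 := by
      rw [e1]; simpa using conj_sq (k := a⁻¹) u2
    have nc : ¬ IsConj y (y * τ (z, z)) := fun h => C.nconj' (k := 0) (l := 2) (by decide) 0 (by
      have i1 : IsConj (tt τ z e 0 * tt τ z e 2) y := isConj_of_eq (g := a⁻¹) (by rw [e1, inv_inv])
      have i2 : IsConj (y * τ (z, z)) (tt τ z e 0) := isConj_of_eq (g := a) (by
        rw [← conj_mul_conj, ← tt2 (e := e), conj_eq_of_comm ca, e1]
        simp only [mul_assoc, mul_inv_cancel_left, mul_inv_cancel, mul_one, C.sq 2])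
      exact (i1.trans h).trans i2)
    rcases Γ.mem_S.1 hy with ⟨p, q, rfl⟩ | ⟨p, q, rfl⟩
    · obtain ⟨p2, q2⟩ := (sq_iff Γ.toFr).1 y2
      refine δz p q p2 q2 fun h => ?_
      by_cases hp : p ∈ center W
      · rcases w.z_uniq p hp p2 with rfl | rfl <;> rcases w.z_uniq q (h.1 hp) q2 with k | k <;> rw [k] at nc e1
        · refine C.ne2 (k := 0) (l := 2) (by decide) ?_
          rw [τ_one] at e1
          exact conj_eq_one_iff.1 (by rw [inv_inv]; exact e1.symm)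
        · exact nc (isConj_of_eq (g := s) (by rw [Γ.sw, τ_mul, one_mul, w.z_sq]))
        · exact nc (isConj_of_eq (g := s) (by rw [Γ.sw, τ_mul, one_mul, w.z_sq]))
        · exact C.nconj' (k := 0) (l := 2) (by decide) 2 (isConj_of_eq (g := a⁻¹) (by rw [inv_inv, ← e1, tt2]))
      · obtain ⟨y1, h1⟩ := conj_z w hp p2
        obtain ⟨y2, h2⟩ := conj_z w (fun k => hp (h.2 k)) q2
        exact nc (isConj_of_eq (g := τ (y1, y2)) (by rw [τ_conj, h1, h2, τ_mul]))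
    · refine absurd (isConj_of_eq (g := τ (z, 1)) ?_) nc
      rw [τ_inv, mul_assoc, mul_assoc, mul_assoc, Γ.s_mul, Γ.s_mul, ← mul_assoc, ← mul_assoc, ← mul_assoc,
        τ_mul, τ_mul, τ_mul, inv_eq_of_mul_eq_one_right w.z_sq, inv_one, mul_one, one_mul, (w.zc p).eq]
  let g : S.subgroupOf X := ⟨⟨_, hY hu⟩, mem_subgroupOf.2 uS⟩
  have φg : (φ g : W) = z := conj 1 (one_mem _) _ uS (by rw [inv_one, one_mul, mul_one])
  have g2 : (g : X) ^ 2 = 1 := Subtype.ext (by rw [coe_pow, sq]; exact u2)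
  have z2 : φ g ^ 2 = 1 := Subtype.ext (by rw [coe_pow, φg, sq, w.z_sq, coe_one])
  have V := CL.Iso.transfer_eq_pow_of_ctrl φ g fun k a h => by
    rcases Nat.even_or_odd' k with ⟨j, rfl | rfl⟩
    · rw [pow_mul (φ g), z2, one_pow, ← map_one φ]
      congr 1
      exact Subtype.ext (by simp [pow_mul, g2])
    · rw [pow_succ (φ g), pow_mul (φ g), z2, one_pow, one_mul]
      refine Subtype.ext ((conj a a.2 _ (mem_subgroupOf.1 h) ?_).trans φg.symm)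
      rw [pow_succ, pow_mul, g2, one_pow, one_mul]
      rfl
  have hk : ⁅Y.subgroupOf X, Y.subgroupOf X⁆ ≤ (MonoidHom.transfer φ).ker :=
    (commutator_mono le_top le_top).trans (Abelianization.commutator_subset_ker _)
  have hm : (g : X) ∈ ⁅Y.subgroupOf X, Y.subgroupOf X⁆ := by
    have : tt τ z e 0 * tt τ z e 2 ∈ (⁅Y.subgroupOf X, Y.subgroupOf X⁆).map X.subtype := by
      rwa [map_commutator, subgroupOf_map_subtype, inf_of_le_left hY, hp]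
    obtain ⟨x, hx, e1⟩ := this
    rwa [show (g : X) = x from Subtype.ext e1.symm]
  have h1 := hk hm
  rw [MonoidHom.mem_ker, V] at h1
  obtain ⟨j, hj⟩ : Odd (S.subgroupOf X).index := Nat.odd_iff.2 (Nat.two_dvd_ne_zero.1 hSX.not_dvd_relIndex)
  rw [hj, pow_succ, pow_mul, z2, one_pow, one_mul] at h1
  exact w.z_ne (by rw [← φg, h1, coe_one])

end Sit

end CL.L5
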