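import Cfsg.Agent.INV.L5.Tool
import Cfsg.Agent.INV.Prod2.Tools

/-! # Groups with a Sylow 2-subgroup `⟨c⟩ × W`: an isolated involution -/

set_option autoImplicit false

namespace CL.L5.Sp

open Subgroup Cfsg CL.MSS CL.PComp

variable {W X : Type*} [Group W] [Group X] {z e n i : W} {κ : W →* X} {c : X}

theorem inv_uniq [Finite X] {g a b : X} (ha : orderOf a = 2) (hag : a ∈ zpowers g) (hbg : b ∈ zpowers g)
    (hb : b * b = 1) : b = 1 ∨ b = a := by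
  classical
  by_cases hb1 : b = 1
  · exact Or.inl hb1
  have hb2 : orderOf b = 2 := orderOf_eq_prime (by rw [pow_two, hb]) hb1
  have := Fintype.ofFinite (zpowers g)
  have h1 := IsCyclic.card_orderOf_eq_totient (α := zpowers g) (d := 2) (by
    rw [← ha, ← Nat.card_eq_fintype_card]; exact orderOf_dvd_natCard _ hag)
  rw [Nat.totient_two, Finset.card_eq_one] at h1
  obtain ⟨x, hx⟩ := h1
  have h2 : ∀ c (hc : c ∈ zpowers g), orderOf c = 2 → (⟨c, hc⟩ : zpowers g) = x := fun c hc h => by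
    rw [← Finset.mem_singleton, ← hx, Finset.mem_filter]
    exact ⟨Finset.mem_univ _, by rw [← h, ← orderOf_coe]⟩
  exact Or.inr (congrArg Subtype.val ((h2 b hbg hb2).trans (h2 a hag ha).symm))

theorem exists_nat [Finite X] {u : X} (h : u ∈ zpowers c) : ∃ j : ℕ, c ^ j = u :=
  (Submonoid.mem_powers_iff _ _).1 (mem_powers_iff_mem_zpowers.2 h)

/-- `⟨c⟩ × κ W`. -/
structure DP (κ : W →* X) (c : X) : Prop where
  inj : Function.Injective κ
  cm : ∀ a, Commute c (κ a)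
  dj : ∀ (j : ℕ) a, c ^ j = κ a → a = 1

namespace DP

variable [Finite X] (D : DP κ c)
include D

omit [Finite X] in
theorem cm' {u : X} (hu : u ∈ zpowers c) (a : W) : Commute u (κ a) := by
  obtain ⟨j, rfl⟩ := hu
  exact (D.cm a).zpow_left j

theorem dj' {u : X} (hu : u ∈ zpowers c) {a : W} (h : u = κ a) : a = 1 := by
  obtain ⟨j, rfl⟩ := exists_nat hu
  exact D.dj j a h

omit [Finite X] in
theorem mul {u v : X} (hv : v ∈ zpowers c) (a b : W) : u * κ a * (v * κ b) = u * v * κ (a * b) := by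
  rw [map_mul, mul_assoc, ← mul_assoc (κ a), ← (D.cm' hv a).eq]; simp only [mul_assoc]

omit [Finite X] in
theorem mem {x : X} : x ∈ zpowers c ⊔ κ.range ↔ ∃ u ∈ zpowers c, ∃ a, x = u * κ a := by
  have hn : zpowers c ≤ normalizer (κ.range : Set X) := fun u hu =>
    centralizer_le_normalizer _ (mem_centralizer_iff.2 fun _ ⟨a, ha⟩ => ha ▸ (D.cm' hu a).eq.symm)
  rw [mem_sup_of_normalizes_right hn]
  exact ⟨fun ⟨u, hu, _, ⟨a, rfl⟩, h⟩ => ⟨u, hu, a, h.symm⟩,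
    fun ⟨u, hu, a, h⟩ => ⟨u, hu, _, ⟨a, rfl⟩, h.symm⟩⟩

omit [Finite X] in
theorem mem' {u : X} (hu : u ∈ zpowers c) (a : W) : u * κ a ∈ zpowers c ⊔ κ.range :=
  D.mem.2 ⟨u, hu, a, rfl⟩

theorem uniq {u v : X} (hu : u ∈ zpowers c) (hv : v ∈ zpowers c) {a b : W} (h : u * κ a = v * κ b) :
    u = v ∧ a = b := by
  have h1 : v⁻¹ * u = κ (b * a⁻¹) := by
    rw [map_mul, map_inv, eq_mul_inv_iff_mul_eq, mul_assoc, h, inv_mul_cancel_left]
  have h2 := mul_inv_eq_one.1 (D.dj' (mul_mem (inv_mem hv) hu) h1)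
  subst h2
  exact ⟨mul_right_cancel h, rfl⟩

theorem sq {u : X} (hu : u ∈ zpowers c) {a : W} (h : u * κ a * (u * κ a) = 1) : u * u = 1 ∧ a * a = 1 :=
  D.uniq (mul_mem hu hu) (one_mem _) (by rw [← D.mul hu, h, map_one, mul_one])

theorem comm_iff {u v : X} (hu : u ∈ zpowers c) (hv : v ∈ zpowers c) {a b : W} :
    Commute (u * κ a) (v * κ b) ↔ Commute a b := by
  have huv : Commute u v := by
    obtain ⟨j, rfl⟩ := hu; obtain ⟨k, rfl⟩ := hv; exact Commute.zpow_zpow_self c j k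
  rw [commute_iff_eq, D.mul hv, D.mul hu]
  exact ⟨fun h => (D.uniq (mul_mem hu hv) (mul_mem hv hu) h).2, fun h => by rw [huv.eq, h.eq]⟩

theorem cen {u : X} (hu : u ∈ zpowers c) {a : W} (ha : a ∈ center W) :
    ∀ x ∈ zpowers c ⊔ κ.range, x * (u * κ a) = u * κ a * x := fun x hx => by
  obtain ⟨v, hv, b, rfl⟩ := D.mem.1 hx
  exact ((D.comm_iff hv hu).2 (mem_center_iff.1 ha b)).eq

omit [Finite X] in
theorem conj {u : X} (hu : u ∈ zpowers c) (y a : W) :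
    κ y * (u * κ a) * (κ y)⁻¹ = u * κ (y * a * y⁻¹) := by
  rw [← mul_assoc, ← (D.cm' hu y).eq, map_mul, map_mul, map_inv]; simp only [mul_assoc]

omit [Finite X] in
theorem isConj {u : X} (hu : u ∈ zpowers c) {y a b : W} (h : y * a * y⁻¹ = b) :
    IsConj (u * κ a) (u * κ b) := isConj_of_eq (h ▸ D.conj hu y a)

omit [Finite X] in
/-- commutators in `R` lie in `κ W`. -/
theorem commut {x y : X} (hx : x ∈ zpowers c ⊔ κ.range) (hy : y ∈ zpowers c ⊔ κ.range) :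
    ∃ a, x * y * x⁻¹ * y⁻¹ = κ a := by
  obtain ⟨u, hu, a, rfl⟩ := D.mem.1 hx
  obtain ⟨v, hv, b, rfl⟩ := D.mem.1 hy
  have huv : Commute u v := by
    obtain ⟨j, rfl⟩ := hu; obtain ⟨k, rfl⟩ := hv; exact Commute.zpow_zpow_self c j k
  refine ⟨a * b * a⁻¹ * b⁻¹, ?_⟩
  rw [mul_assoc _ (u * κ a)⁻¹, ← mul_inv_rev, D.mul hv, D.mul hu, huv.eq, mul_inv_eq_iff_eq_mul,
    ← mul_assoc, ← (D.cm' (mul_mem hv hu) _).eq, mul_assoc (v * u), ← map_mul]
  congr 2; group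

end DP

theorem step (w : WF z e n i) {a : W} (ha : a ∉ center W) (h2 : a * a = 1) : ∃ y, y * a * y⁻¹ = a * z := by
  obtain ⟨k, y, h⟩ := w.step a ha
  have h3 : a ^ 2 = 1 := by rw [pow_two, h2]
  rcases Nat.even_or_odd' k with ⟨j, rfl | rfl⟩
  · rw [pow_mul, h3, one_pow, mul_one, mul_inv_cancel, one_mul] at h
    exact absurd h.symm w.z_ne
  · rw [pow_succ, pow_mul, h3, one_pow, one_mul] at h
    exact ⟨y, h⟩

section key

variable [Finite W] [Finite X] (w : WF z e n i) (D : DP κ c) (hR : SylIn 2 (zpowers c ⊔ κ.range) ⊤)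
  {c₀ : X} (h0 : c₀ ∈ zpowers c) (h2 : orderOf c₀ = 2)
include w D hR

omit [Finite W] hR in
theorem norm_z {g : X} (hg : g ∈ normalizer ((zpowers c ⊔ κ.range : Subgroup X) : Set X)) :
    g * κ z * g⁻¹ = κ z := by
  obtain ⟨y, hy⟩ := w.z_comm
  have hz : z = y * i * y⁻¹ * i⁻¹ := by rw [hy, (w.zc i).eq, mul_inv_cancel_right]
  have m : ∀ a, g * κ a * g⁻¹ ∈ zpowers c ⊔ κ.range := fun a =>
    CL.P2.norm_mem hg (mem_sup_right ⟨a, rfl⟩)
  obtain ⟨a, ha⟩ := D.commut (m y) (m i)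
  have h1 : g * κ z * g⁻¹ = κ a := by rw [← ha, hz]; simp only [map_mul, map_inv]; group
  have hc := CL.P2.norm_cen hg (w := κ z) (by simpa using D.cen (one_mem _) w.z_cen)
  rw [h1] at hc
  have h3 : a ∈ center W := mem_center_iff.2 fun b => D.inj (by
    rw [map_mul, map_mul]; exact hc _ (mem_sup_right ⟨b, rfl⟩))
  have h4 : a * a = 1 := D.inj (by
    rw [map_mul, ← h1, conj_mul_conj, ← map_mul, w.z_sq, map_one, mul_one, mul_inv_cancel])
  rcases w.z_uniq a h3 h4 with rfl | rfl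
  · rw [map_one, conj_eq_one_iff, map_eq_one_iff κ D.inj] at h1; exact absurd h1 w.z_ne
  · exact h1

include h0 h2

omit [Finite W] in
/-- `c₀, z, c₀ z` are pairwise not conjugate. -/
theorem nconj {c' : X} (h : c' = c₀ ∨ c' = c₀ * κ z) :
    (∀ x ∈ zpowers c ⊔ κ.range, x * c' = c' * x) ∧ ¬ IsConj (κ z) c' ∧ ¬ IsConj c' (c' * κ z) ∧ c' ≠ 1 ∧
      ∀ u ∈ zpowers c, ∀ a ∈ center W, u * u = 1 → a * a = 1 →
        u * κ a = 1 ∨ u * κ a = κ z ∨ u * κ a = c' ∨ u * κ a = c' * κ z := by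
  have h1 : c₀ ≠ 1 := fun h => by rw [h, orderOf_one] at h2; omega
  have zz : κ z * κ z = 1 := by rw [← map_mul, w.z_sq, map_one]
  have cz : ∀ x ∈ zpowers c ⊔ κ.range, x * κ z = κ z * x := by simpa using D.cen (one_mem _) w.z_cen
  have hc : ∀ x ∈ zpowers c ⊔ κ.range, x * c' = c' * x := by
    rcases h with rfl | rfl
    exacts [by simpa using D.cen h0 (one_mem _), D.cen h0 w.z_cen]
  have hn : ∀ a, c' ≠ κ a := fun a e => by
    rcases h with rfl | rfl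
    · exact h1 (D.uniq h0 (one_mem _) (a := 1) (b := a) (by simpa using e)).1
    · exact h1 (D.uniq h0 (one_mem _) (a := z) (b := a) (by simpa using e)).1
  have hm : c' ∈ zpowers c ⊔ κ.range := by
    rcases h with rfl | rfl
    exacts [mem_sup_left h0, D.mem' h0 z]
  refine ⟨hc, fun hh => ?_, fun hh => ?_, fun e => hn 1 (by rw [e, map_one]), fun u hu a ha u2 a2 => ?_⟩
  · obtain ⟨g, hg, e⟩ := CL.P2.conj_norm hR.toSylowTop cz hc hh
    exact hn z (e.symm.trans (norm_z w D hg))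
  · obtain ⟨g, hg, e⟩ := CL.P2.conj_norm hR.toSylowTop hc (fun x hx => by
      rw [← mul_assoc, hc x hx, mul_assoc, cz x hx, mul_assoc]) hh
    have := CL.P2.odd_act hR.toSylowTop hg hc (by
      rw [e, ← conj_mul_conj, e, norm_z w D hg, mul_assoc, zz, mul_one])
    rw [e, mul_eq_left, map_eq_one_iff κ D.inj] at this
    exact w.z_ne this
  · rcases inv_uniq h2 h0 hu u2 with rfl | rfl <;> rcases w.z_uniq a ha a2 with rfl | rfl <;>
      rcases h with rfl | rfl <;> simp [mul_assoc, zz]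

omit [Finite W] in
theorem ext {c' : X} (h : c' = c₀ ∨ c' = c₀ * κ z) {u : X} (hu : u ∈ zpowers c) {a : W} (ha : a ∉ center W)
    (a2 : a * a = 1) (hh : IsConj (u * κ a) c') :
    ∃ g, g * (u * κ a) * g⁻¹ = c' ∧
      (∀ v ∈ zpowers c, ∀ b, Commute b a → g * (v * κ b) * g⁻¹ ∈ zpowers c ⊔ κ.range) ∧
      ∃ u' ∈ zpowers c, ∃ a' ∉ center W, u' * u' = 1 ∧ a' * a' = 1 ∧ g * κ z * g⁻¹ = u' * κ a' := by
  obtain ⟨hc, n1, n2, -, lst⟩ := nconj w D hR h0 h2 h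
  obtain ⟨-, n3, -, -, -⟩ := nconj w D hR h0 h2 (c' := c' * κ z) (by
    rcases h with rfl | rfl
    exacts [Or.inr rfl, Or.inl (by rw [mul_assoc, ← map_mul, w.z_sq, map_one, mul_one])])
  obtain ⟨g, e, hg⟩ := CL.P2.conj_cen hR.toSylowTop hc hh
  have hg' : ∀ v ∈ zpowers c, ∀ b, Commute b a → g * (v * κ b) * g⁻¹ ∈ zpowers c ⊔ κ.range :=
    fun v hv b hb => hg _ (D.mem' hv b) ((D.comm_iff hv hu).2 hb).eq
  obtain ⟨u', hu', a', e'⟩ := D.mem.1 (hg' 1 (one_mem _) z (w.zc a).symm)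
  rw [one_mul] at e'
  obtain ⟨s1, s2⟩ := D.sq hu' (a := a') (by
    rw [← e', conj_mul_conj, ← map_mul, w.z_sq, map_one, mul_one, mul_inv_cancel])
  refine ⟨g, e, hg', u', hu', a', fun hcen => ?_, s1, s2, e'⟩
  obtain ⟨y, hy⟩ := step w ha a2
  rcases lst u' hu' a' hcen s1 s2 with k | k | k | k <;> rw [← e'] at k
  · rw [conj_eq_one_iff, map_eq_one_iff κ D.inj] at k; exact w.z_ne k
  · refine n2 ((hh.symm.trans (D.isConj hu hy)).trans (isConj_of_eq (g := g) ?_))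
    rw [map_mul, ← mul_assoc u, ← conj_mul_conj, e, k]
  · exact n1 (isConj_of_eq k)
  · exact n3 (isConj_of_eq k)

omit [Finite W] in
theorem claimP {c' : X} (h : c' = c₀ ∨ c' = c₀ * κ z) {g₀ : X} (hm : g₀ * c' * g₀⁻¹ ∈ zpowers c ⊔ κ.range)
    (hne : g₀ * c' * g₀⁻¹ ≠ c') : ∃ v ∈ zpowers c, v * v = 1 ∧ IsConj (v * κ e) c' := by
  obtain ⟨hc, n1, n2, n0, lst⟩ := nconj w D hR h0 h2 h
  have c02 : c₀ * c₀ = 1 := by rw [← pow_two, ← h2, pow_orderOf_eq_one]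
  have c2 : c' * c' = 1 := by
    rcases h with rfl | rfl
    exacts [c02, by rw [D.mul h0, c02, w.z_sq, map_one, mul_one]]
  obtain ⟨u, hu, a, e1⟩ := D.mem.1 hm
  obtain ⟨u2, a2⟩ := D.sq hu (a := a) (by rw [← e1, conj_mul_conj, c2, mul_one, mul_inv_cancel])
  have hh : IsConj (u * κ a) c' := (isConj_of_eq e1).symm
  have ha : a ∉ center W := fun hcen => by
    rcases lst u hu a hcen u2 a2 with k | k | k | k
    · rw [k] at hh; exact n0 (isConj_one_right.1 hh)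
    · rw [k] at hh; exact n1 hh
    · exact hne (e1.trans k)
    · rw [k] at hh; exact n2 hh.symm
  rcases w.typ a ha a2 with ⟨y, hy⟩ | ⟨⟨ζ, hζ, ζ2⟩, -, -⟩
  · exact ⟨u, hu, u2, (D.isConj hu hy).symm.trans hh⟩
  obtain ⟨g, e2, hg, u', hu', a', ha', s1, s2, e3⟩ := ext w D hR h0 h2 h hu ha a2 hh
  obtain ⟨v, hv, b, e4⟩ := D.mem.1 (hg 1 (one_mem _) ζ (mem_center_iff.1 hζ a).symm)
  have e5 : a' = b * b := (D.uniq hu' (mul_mem hv hv) (by
    rw [← e3, ← D.mul hv, ← e4, conj_mul_conj, one_mul, ← map_mul, ζ2])).2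
  obtain ⟨y, hy⟩ : ∃ y, y * a' * y⁻¹ = e := by
    rcases w.typ a' ha' s2 with k | ⟨-, k, -⟩
    exacts [k, absurd e5.symm (k b)]
  obtain ⟨y1, hy1⟩ := step w ha a2
  obtain ⟨y2, hy2⟩ := step w ha' s2
  have cm : Commute c₀ u' := by
    obtain ⟨j, rfl⟩ := h0; obtain ⟨k, rfl⟩ := hu'; exact Commute.zpow_zpow_self c j k
  have hv' := mul_mem h0 hu'
  have e6 : IsConj c' (c' * (u' * κ a')) := (hh.symm.trans (D.isConj hu hy1)).trans
    (isConj_of_eq (g := g) (by rw [map_mul, ← mul_assoc u, ← conj_mul_conj, e2, e3]))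
  refine ⟨c₀ * u', hv', by rw [mul_assoc, ← cm.left_comm, ← mul_assoc, c02, one_mul, s1], ?_⟩
  refine (D.isConj hv' hy).symm.trans (IsConj.symm (e6.trans ?_))
  rcases h with rfl | rfl
  · rw [← mul_assoc]
  · rw [D.mul hu', ← (w.zc a').eq]; exact (D.isConj hv' hy2).symm

theorem claimQ {c' : X} (h : c' = c₀ ∨ c' = c₀ * κ z) {u : X} (hu : u ∈ zpowers c) (u2 : u * u = 1)
    (hh : IsConj (u * κ e) c') {v : X} (hv : v ∈ zpowers c) (v2 : v * v = 1) :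
    IsConj (v * κ e) c' ∨ IsConj (v * κ e) (κ z) := by
  obtain ⟨-, n1, -, -, -⟩ := nconj w D hR h0 h2 h
  obtain ⟨g, -, hg, u', hu', a', ha', s1, s2, e3⟩ := ext w D hR h0 h2 h hu w.e_nc w.e_sq hh
  have key : ∀ p : zpowers c × centralizer ({e} : Set W), ∃ q : zpowers c × centralizer ({a'} : Set W),
      g * (p.1 * κ p.2) * g⁻¹ = q.1 * κ q.2 := fun p => by
    obtain ⟨x, hx, b, e4⟩ := D.mem.1 (hg p.1 p.1.2 p.2 (mem_Cz.1 p.2.2))
    refine ⟨(⟨x, hx⟩, ⟨b, mem_Cz.2 ((D.comm_iff hx hu').1 ?_)⟩), e4⟩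
    rw [← e4, ← e3]
    exact comm_conj ((commute_iff_eq _ _).2 (by
      simpa using D.cen (one_mem _) w.z_cen _ (D.mem' p.1.2 p.2))) g
  choose f hf using key
  have hinj : Function.Injective f := fun p q e => by
    have := (hf p).trans (e ▸ (hf q).symm)
    obtain ⟨k1, k2⟩ := D.uniq p.1.2 q.1.2 (mul_left_cancel (mul_right_cancel this))
    exact Prod.ext (Subtype.ext k1) (Subtype.ext k2)
  have hcard := Nat.card_le_card_of_injective f hinj
  rw [Nat.card_prod, Nat.card_prod] at hcard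
  obtain ⟨y, hy⟩ := w.big a' ha' s2 (Nat.le_of_mul_le_mul_left hcard Nat.card_pos)
  have e4 : IsConj (u' * κ e) (κ z) := (D.isConj hu' hy).symm.trans (isConj_of_eq e3).symm
  have e5 : u ≠ u' := fun k => n1 (e4.symm.trans (k ▸ hh))
  rcases inv_uniq h2 h0 hu u2 with k1 | k1 <;> rcases inv_uniq h2 h0 hu' s1 with k2 | k2 <;>
    rcases inv_uniq h2 h0 hv v2 with k3 | k3
  all_goals first
    | exact absurd (k1.trans k2.symm) e5
    | exact Or.inl ((k1.trans k3.symm) ▸ hh)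
    | exact Or.inr ((k2.trans k3.symm) ▸ e4)

theorem key' : (∀ g, g * c₀ * g⁻¹ ∈ zpowers c ⊔ κ.range → g * c₀ * g⁻¹ = c₀) ∨
      ∀ g, g * (c₀ * κ z) * g⁻¹ ∈ zpowers c ⊔ κ.range → g * (c₀ * κ z) * g⁻¹ = c₀ * κ z := by
  by_contra hcon
  push Not at hcon
  obtain ⟨⟨g, m1, k1⟩, g', m2, k2⟩ := hcon
  obtain ⟨u, hu, u2, c1⟩ := claimP w D hR h0 h2 (Or.inl rfl) m1 k1
  obtain ⟨v, hv, v2, c2⟩ := claimP w D hR h0 h2 (Or.inr rfl) m2 k2
  rcases claimQ w D hR h0 h2 (Or.inl rfl) hu u2 c1 hv v2 with k | k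
  · exact (nconj w D hR h0 h2 (Or.inl rfl)).2.2.1 (k.symm.trans c2)
  · exact (nconj w D hR h0 h2 (Or.inr rfl)).2.1 (k.symm.trans c2)

end key

end CL.L5.Sp
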