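import Cfsg.Agent.INV.L5.CfB

/-! # Coordinates in a frame -/

set_option autoImplicit false

namespace CL.L5

open Subgroup Cfsg CL.MSS CL.PComp

variable {G W : Type*} [Group G] [Group W] {τ : W × W →* G} {s ρ : G} {z e n i : W} {ψ : W →* W}

theorem τ_mul (τ : W × W →* G) (a b c d : W) : τ (a, b) * τ (c, d) = τ (a * c, b * d) :=
  (map_mul τ (a, b) (c, d)).symm

theorem τ_inv (τ : W × W →* G) (a b : W) : (τ (a, b))⁻¹ = τ (a⁻¹, b⁻¹) := (map_inv τ (a, b)).symm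

theorem τ_pow (τ : W × W →* G) (a b : W) (k : ℕ) : τ (a, b) ^ k = τ (a ^ k, b ^ k) :=
  (map_pow τ (a, b) k).symm

theorem τ_one (τ : W × W →* G) : τ (1, 1) = 1 := map_one τ

theorem τ_conj (τ : W × W →* G) (a b c d : W) :
    τ (a, b) * τ (c, d) * (τ (a, b))⁻¹ = τ (a * c * a⁻¹, b * d * b⁻¹) := by rw [τ_inv, τ_mul, τ_mul]

theorem τ_comm (τ : W × W →* G) {a b c d : W} (h1 : Commute a c) (h2 : Commute b d) :
    Commute (τ (a, b)) (τ (c, d)) := by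
  change _ * _ = _ * _
  rw [τ_mul, τ_mul, h1.eq, h2.eq]

theorem τ_mem (τ : W × W →* G) (a b : W) : τ (a, b) ∈ τ.range := ⟨_, rfl⟩

theorem mem_T {x : G} : x ∈ τ.range ↔ ∃ a b, x = τ (a, b) :=
  ⟨fun ⟨p, h⟩ => ⟨p.1, p.2, h.symm⟩, fun ⟨a, b, h⟩ => h ▸ τ_mem τ a b⟩

theorem mem_V {x : G} : x ∈ (kap τ).range ↔ ∃ b, x = τ (1, b) :=
  ⟨fun ⟨b, h⟩ => ⟨b, h.symm⟩, fun ⟨b, h⟩ => ⟨b, h.symm⟩⟩

theorem mem_prod_map {A B : Subgroup W} {x : G} :
    x ∈ (A.prod B).map τ ↔ ∃ a ∈ A, ∃ b ∈ B, x = τ (a, b) :=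
  ⟨fun ⟨p, h, e⟩ => ⟨p.1, h.1, p.2, h.2, e.symm⟩, fun ⟨a, ha, b, hb, e⟩ => ⟨(a, b), ⟨ha, hb⟩, e.symm⟩⟩

namespace Fr

variable (F : Fr τ s)
include F

theorem eq_iff {a b c d : W} : τ (a, b) = τ (c, d) ↔ a = c ∧ b = d := by
  rw [F.inj.eq_iff, Prod.mk.injEq]

theorem eq_one_iff {a b : W} : τ (a, b) = 1 ↔ a = 1 ∧ b = 1 := by rw [← τ_one τ, F.eq_iff]

theorem comm_iff {a b c d : W} : Commute (τ (a, b)) (τ (c, d)) ↔ Commute a c ∧ Commute b d := by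
  rw [commute_iff_eq, τ_mul, τ_mul, F.eq_iff]; rfl

theorem s_inv : s⁻¹ = s := inv_eq_of_mul_eq_one_right F.s2

theorem s_mul (a b : W) : s * τ (a, b) = τ (b, a) * s := mul_inv_eq_iff_eq_mul.1 (F.sw a b)

theorem kap_inj : Function.Injective (kap τ) := fun _ _ h => (F.eq_iff.1 h).2

theorem card_prod (A B : Subgroup W) : Nat.card ((A.prod B).map τ) = Nat.card A * Nat.card B := by
  rw [← Nat.card_congr ((A.prod B).equivMapOfInjective τ F.inj).toEquiv,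
    Nat.card_congr (A.prodEquiv B).toEquiv, Nat.card_prod]

theorem card_V : Nat.card (kap τ).range = Nat.card W :=
  (Nat.card_congr (MonoidHom.ofInjective F.kap_inj).toEquiv).symm

theorem card_T : Nat.card τ.range = Nat.card W * Nat.card W := by
  rw [← Nat.card_congr (MonoidHom.ofInjective F.inj).toEquiv, Nat.card_prod]

theorem mem_S {x : G} : x ∈ τ.range ⊔ zpowers s ↔ (∃ a b, x = τ (a, b)) ∨ ∃ a b, x = τ (a, b) * s := by
  have hn : zpowers s ≤ normalizer (τ.range : Set G) := by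
    rw [zpowers_le, mem_normalizer_iff]
    intro x
    have k : ∀ y ∈ τ.range, s * y * s⁻¹ ∈ τ.range := fun y hy => by
      obtain ⟨a, b, rfl⟩ := mem_T.1 hy; rw [F.sw]; exact τ_mem τ _ _
    refine ⟨k x, fun h => ?_⟩
    have := k _ h
    rwa [F.s_inv, ← mul_assoc, ← mul_assoc, F.s2, one_mul, mul_assoc, F.s2, mul_one] at this
  rw [mem_sup_of_normalizes_left hn]
  constructor
  · rintro ⟨y, hy, _, ⟨k, rfl⟩, rfl⟩
    obtain ⟨a, b, rfl⟩ := mem_T.1 hy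
    have h2 : s ^ (2 : ℤ) = 1 := by rw [zpow_two, F.s2]
    rcases Int.even_or_odd' k with ⟨j, rfl | rfl⟩
    · exact Or.inl ⟨a, b, by simp only [zpow_mul, h2, one_zpow, mul_one]⟩
    · exact Or.inr ⟨a, b, by simp only [zpow_add, zpow_mul, h2, one_zpow, one_mul, zpow_one]⟩
  · rintro (⟨a, b, rfl⟩ | ⟨a, b, rfl⟩)
    exacts [⟨_, τ_mem τ a b, 1, one_mem _, mul_one _⟩, ⟨_, τ_mem τ a b, s, mem_zpowers s, rfl⟩]

theorem not_mem (a b : W) : τ (a, b) * s ∉ τ.range := fun h =>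
  F.sT (by simpa using mul_mem (inv_mem (τ_mem τ a b)) h)

theorem relIndex_T : τ.range.relIndex (τ.range ⊔ zpowers s) = 2 := by
  rw [relIndex, index_eq_two_iff]
  refine ⟨⟨s, mem_sup_right (mem_zpowers s)⟩, fun ⟨x, hx⟩ => ?_⟩
  simp only [mem_subgroupOf, coe_mul]
  rcases F.mem_S.1 hx with ⟨a, b, rfl⟩ | ⟨a, b, rfl⟩
  · exact Or.inr ⟨τ_mem τ a b, F.not_mem a b⟩
  · exact Or.inl ⟨by rw [mul_assoc, F.s2, mul_one]; exact τ_mem τ a b, F.not_mem a b⟩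

theorem outer_sq (a b : W) : τ (a, b) * s * (τ (a, b) * s) = τ (a * b, b * a) := by
  rw [mul_assoc, ← mul_assoc s, F.s_mul, mul_assoc, F.s2, mul_one, τ_mul]

theorem outer_conj (a b c d : W) :
    τ (a, b) * s * τ (c, d) * (τ (a, b) * s)⁻¹ = τ (a * d * a⁻¹, b * c * b⁻¹) := by
  rw [← τ_conj, ← F.sw c d]; group

/-- the outer involutions are conjugate to `s` under `T`. -/
theorem outer {a b : W} (h : τ (a, b) * s * (τ (a, b) * s) = 1) :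
    τ (a, 1) * s * (τ (a, 1))⁻¹ = τ (a, b) * s := by
  rw [F.outer_sq, F.eq_one_iff] at h
  rw [τ_inv, mul_assoc, F.s_mul, ← mul_assoc, τ_mul, inv_one, mul_one, one_mul,
    inv_eq_of_mul_eq_one_right h.1]

end Fr

@[simp] theorem tt0 : tt τ z e 0 = τ (e, z) := rfl
@[simp] theorem tt1 : tt τ z e 1 = τ (e * z, z) := rfl
@[simp] theorem tt2 : tt τ z e 2 = τ (z, z) := rfl
@[simp] theorem tt3 : tt τ z e 3 = τ (z, e) := rfl
@[simp] theorem tt4 : tt τ z e 4 = τ (z, e * z) := rfl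

namespace WF

variable (w : WF z e n i)
include w

theorem tt01 : tt τ z e 0 * tt τ z e 1 = τ (z, 1) := by
  rw [tt0, tt1, τ_mul, ← mul_assoc, w.e_sq, one_mul, w.z_sq]

theorem tt34 : tt τ z e 3 * tt τ z e 4 = τ (1, z) := by
  rw [tt3, tt4, τ_mul, ← mul_assoc, w.e_sq, one_mul, w.z_sq]

theorem tt23 : tt τ z e 2 * tt τ z e 3 = τ (1, e * z) := by
  rw [tt2, tt3, τ_mul, w.z_sq, (w.zc e).eq]

theorem tt24 : tt τ z e 2 * tt τ z e 4 = τ (1, e) := by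
  rw [tt2, tt4, τ_mul, w.z_sq, (w.zc e).eq, ← mul_assoc, w.z_sq, one_mul]

theorem tt02 : tt τ z e 0 * tt τ z e 2 = τ (e * z, 1) := by rw [tt0, tt2, τ_mul, w.z_sq]

theorem tt12 : tt τ z e 1 * tt τ z e 2 = τ (e, 1) := by
  rw [tt1, tt2, τ_mul, mul_assoc, w.z_sq, mul_one]

theorem tt03 : tt τ z e 0 * tt τ z e 3 = τ (e * z, e * z) := by rw [tt0, tt3, τ_mul, (w.zc e).eq]

theorem tt14 : tt τ z e 1 * tt τ z e 4 = τ (e, e) := by
  rw [tt1, tt4, τ_mul, mul_assoc, w.z_sq, mul_one, (w.zc e).eq, ← mul_assoc, w.z_sq, one_mul]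

theorem ind_n : Ind (tt τ z e) (τ (1, n)) (Equiv.swap 3 4) := fun k => by
  have h := conj_eq_of_comm (w.zc n)
  fin_cases k
  · change _ * τ (e, z) * _ = τ (e, z); rw [τ_conj, h]; simp
  · change _ * τ (e * z, z) * _ = τ (e * z, z); rw [τ_conj, h]; simp
  · change _ * τ (z, z) * _ = τ (z, z); rw [τ_conj, h]; simp
  · change _ * τ (z, e) * _ = τ (z, e * z); rw [τ_conj, w.n_e]; simp
  · change _ * τ (z, e * z) * _ = τ (z, e); rw [τ_conj, w.n_ez]; simp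

/-- the elements `τ (a, b)`, `a, b ∈ ⟨z, e⟩`, lie in `A`. -/
theorem mem_AA {a b : W} (ha : a = 1 ∨ a = z ∨ a = e ∨ a = e * z) (hb : b = 1 ∨ b = z ∨ b = e ∨ b = e * z) :
    τ (a, b) ∈ AA (tt τ z e) := by
  have m := fun k l => mul_mem (t_mem (t := tt τ z e) k) (t_mem l)
  have h1 : τ (a, 1) ∈ AA (tt τ z e) := by
    rcases ha with h | h | h | h <;> rw [h]
    exacts [by rw [τ_one]; exact one_mem _, w.tt01 (τ := τ) ▸ m 0 1, w.tt12 (τ := τ) ▸ m 1 2,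
      w.tt02 (τ := τ) ▸ m 0 2]
  have h2 : τ (1, b) ∈ AA (tt τ z e) := by
    rcases hb with h | h | h | h <;> rw [h]
    exacts [by rw [τ_one]; exact one_mem _, w.tt34 (τ := τ) ▸ m 3 4, w.tt24 (τ := τ) ▸ m 2 4,
      w.tt23 (τ := τ) ▸ m 2 3]
  simpa [τ_mul] using mul_mem h1 h2

/-- `T` centralises `z₁`. -/
theorem T_le1 : τ.range ≤ Cz (τ (z, 1)) := fun x hx => by
  obtain ⟨a, b, rfl⟩ := mem_T.1 hx
  exact mem_Cz.2 (τ_comm τ (w.zc a) (Commute.one_right b))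

theorem T_le2 : τ.range ≤ Cz (τ (1, z)) := fun x hx => by
  obtain ⟨a, b, rfl⟩ := mem_T.1 hx
  exact mem_Cz.2 (τ_comm τ (Commute.one_right a) (w.zc b))

end WF

theorem Fr.ind_s (F : Fr τ s) : Ind (tt τ z e) s (Equiv.swap 0 3 * Equiv.swap 1 4) := fun k => by
  fin_cases k <;> exact F.sw _ _

end CL.L5
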