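import Cfsg.Agent.INV.L5.Defs

/-! # General tools -/

set_option autoImplicit false

namespace CL.L5

open Subgroup Cfsg CL.MSS CL.PComp

variable {G : Type*} [Group G]

theorem mem_Cz {a x : G} : x ∈ Cz a ↔ Commute x a := mem_centralizer_singleton_iff

theorem comm_conj {a b : G} (h : Commute a b) (g : G) : Commute (g * a * g⁻¹) (g * b * g⁻¹) := by
  have := h.map (MulAut.conj g)
  simpa only [MulAut.conj_apply] using this

theorem comm_of_conj {a b g : G} (h : Commute (g * a * g⁻¹) (g * b * g⁻¹)) : Commute a b := by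
  have := comm_conj h g⁻¹
  simpa [mul_assoc] using this

theorem conj_eq_of_comm {g a : G} (h : Commute g a) : g * a * g⁻¹ = a := by
  rw [h.eq, mul_inv_cancel_right]

theorem comm_of_conj_eq {g a : G} (h : g * a * g⁻¹ = a) : Commute g a :=
  mul_inv_eq_iff_eq_mul.1 h

theorem conj_mul_conj (g a b : G) : g * a * g⁻¹ * (g * b * g⁻¹) = g * (a * b) * g⁻¹ := by group

theorem isConj_of_eq {g a b : G} (h : g * a * g⁻¹ = b) : IsConj a b := isConj_iff.2 ⟨g, h⟩

/-- two 2-subgroups of `N ≤ H` are conjugated into the Sylow subgroup `T` of `H` simultaneously. -/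
theorem two_sub [Finite G] {T H N P Q : Subgroup G} (hT : SylIn 2 T H) (hN : N ≤ H) (hP : IsPGroup 2 P)
    (hQ : IsPGroup 2 Q) (hPN : P ≤ N) (hQN : Q ≤ N) :
    ∃ ν ∈ N, ∃ k ∈ H, (∀ x ∈ P, k * ν * x * (k * ν)⁻¹ ∈ T) ∧ ∀ x ∈ Q, k * x * k⁻¹ ∈ T := by
  obtain ⟨R, hR, hQR⟩ := exists_sylIn_ge hQ hQN
  obtain ⟨ν, hν, h1⟩ := hR.exists_conj_le hP hPN
  obtain ⟨k, hk, h2⟩ := hT.exists_conj_le hR.pgroup (hR.le.trans hN)
  refine ⟨ν, hν, k, hk, fun x hx => ?_, fun x hx => h2 (conj_mem_cj (hQR hx))⟩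
  have := h2 (conj_mem_cj (g := k) (h1 (conj_mem_cj (g := ν) hx)))
  simpa [mul_assoc] using this

/-- `N = T D` if `N / D` is a 2-group. -/
theorem sup_of_two [Finite G] {T N D : Subgroup G} (hT : SylIn 2 T N)
    (hn : N ≤ normalizer (D : Set G)) (h2 : ∀ x ∈ N, ∃ k : ℕ, x ^ 2 ^ k ∈ D) :
    ∀ x ∈ N, ∃ t ∈ T, ∃ d ∈ D, x = t * d := by
  have hN : (D.subgroupOf N).Normal := normal_subgroupOf_of_le_normalizer hn
  have h1 := (hT.subgroupOf le_rfl).map (QuotientGroup.mk' (D.subgroupOf N))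
  have h3 : IsPGroup 2 (N ⧸ D.subgroupOf N) := fun q => by
    obtain ⟨x, rfl⟩ := QuotientGroup.mk_surjective q
    obtain ⟨k, hk⟩ := h2 x x.2
    exact ⟨k, by rw [← QuotientGroup.mk_pow, QuotientGroup.eq_one_iff]; exact hk⟩
  have h4 := h1.eq_of_isPGroup (h3.to_subgroup _)
  intro x hx
  have h5 : QuotientGroup.mk' (D.subgroupOf N) ⟨x, hx⟩ ∈
      (T.subgroupOf N).map (QuotientGroup.mk' (D.subgroupOf N)) := by
    rw [h4]; exact mem_map_of_mem _ (mem_subgroupOf.2 hx)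
  obtain ⟨t, ht, e⟩ := h5
  have h6 := QuotientGroup.eq.1 e
  exact ⟨t, ht, (t : G)⁻¹ * x, h6, by group⟩

/-- `N_H(Q) = T C_H(Q)` if `Aut Q` is a 2-group and the Sylow subgroup `T` normalises `Q`. -/
theorem norm_split [Finite G] {T H Q : Subgroup G} (hT : SylIn 2 T H) (hTQ : T ≤ normalizer (Q : Set G))
    (hA : IsPGroup 2 (MulAut Q)) {g : G} (hg : g ∈ H) (hn : g ∈ normalizer (Q : Set G)) :
    ∃ t ∈ T, ∃ c ∈ H, (∀ x ∈ Q, Commute c x) ∧ g = t * c := by
  obtain ⟨t, ht, d, hd, e⟩ := sup_of_two (D := H ⊓ centralizer (Q : Set G)) (hT.inf_of_le hTQ)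
    (le_normalizer_inf (inf_le_left.trans le_normalizer)
      (inf_le_right.trans (normalizer_le_normalizer_centralizer Q))) (fun x hx => by
      obtain ⟨k, hk⟩ := hA (Q.normalizerMonoidHom ⟨x, hx.2⟩)
      refine ⟨k, pow_mem hx.1 _, mem_centralizer_iff.2 fun y hy => ?_⟩
      rw [← map_pow] at hk
      have := congrArg (fun f : MulAut Q => ((f ⟨y, hy⟩ : Q) : G)) hk
      simp only [normalizerMonoidHom_apply_apply_coe, MulAut.one_apply, SubgroupClass.coe_pow] at this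
      exact (mul_inv_eq_iff_eq_mul.1 this).symm) g ⟨hg, hn⟩
  exact ⟨t, ht, d, hd.1, fun x hx => (mem_centralizer_iff.1 hd.2 x hx).symm, e⟩

/-- a `p`-group acting by conjugation on a set of size prime to `p` has a fixed point. -/
theorem fix_set [Finite G] {p : ℕ} [Fact p.Prime] {E : Subgroup G} (hE : IsPGroup p E) {X : Set G}
    (hX : ∀ e ∈ E, ∀ x ∈ X, e * x * e⁻¹ ∈ X) (hp : ¬ p ∣ Nat.card X) :
    ∃ x ∈ X, ∀ e ∈ E, Commute e x := by
  let _ : MulAction E X :=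
    { smul := fun e x => ⟨e * x * (e : G)⁻¹, hX e e.2 x x.2⟩
      one_smul := fun x => Subtype.ext (by change (1 : G) * x * (1 : G)⁻¹ = x; simp)
      mul_smul := fun a b x => Subtype.ext (by
        change (a * b : G) * x * (a * b : G)⁻¹ = a * (b * x * (b : G)⁻¹) * (a : G)⁻¹
        group) }
  obtain ⟨x, hx⟩ := hE.nonempty_fixed_point_of_prime_not_dvd_card X hp
  exact ⟨x, x.2, fun e he => comm_of_conj_eq (congrArg Subtype.val (hx ⟨e, he⟩))⟩

/-- a `p`-group acting by conjugation on a coset `x D`, `D` of order prime to `p`. -/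
theorem fix_coset [Finite G] {p : ℕ} [Fact p.Prime] {E D : Subgroup G} (hE : IsPGroup p E)
    (hn : E ≤ normalizer (D : Set G)) (hp : ¬ p ∣ Nat.card D) {x : G}
    (hx : ∀ e ∈ E, x⁻¹ * (e * x * e⁻¹) ∈ D) : ∃ d ∈ D, ∀ e ∈ E, Commute e (x * d) := by
  obtain ⟨y, hy, h⟩ := fix_set hE (X := {y | x⁻¹ * y ∈ D}) (fun e he y hy => by
    have h1 := mul_mem (hx e he) (conj_mem_of_normalizes hn he hy)
    change x⁻¹ * (e * y * e⁻¹) ∈ D
    convert h1 using 1
    group) (by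
    have : Nat.card {y | x⁻¹ * y ∈ D} = Nat.card D := Nat.card_congr
      { toFun := fun y => ⟨x⁻¹ * y, y.2⟩
        invFun := fun d => ⟨x * d, by simp⟩
        left_inv := fun y => by simp
        right_inv := fun d => by simp }
    rwa [this])
  exact ⟨x⁻¹ * y, hy, by simpa using h⟩

theorem eq_one_of_odd_of_two {x : G} (h1 : Odd (orderOf x)) {k : ℕ} (h2 : x ^ 2 ^ k = 1) : x = 1 :=
  eq_one_of_coprime_of_pow (p := 2) (Nat.coprime_two_right.2 h1) h2

theorem odd_of_mem_Oc [Finite G] {a x : G} (h : x ∈ Oc a) : Odd (orderOf x) :=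
  Nat.coprime_two_right.1 (coprime_orderOf_of_mem (opOf_coprime 2 _) h)

theorem comm_of_mem_Oc {a x : G} (h : x ∈ Oc a) : Commute x a := mem_Cz.1 (opOf_le 2 _ h)

theorem conj_mem_Oc {a x g : G} (hg : Commute g a) (h : x ∈ Oc a) : g * x * g⁻¹ ∈ Oc a :=
  conj_mem_of_normalizes (le_normalizer_opOf 2 _) (mem_Cz.2 hg) h

theorem cj_Cz (g a : G) : g •ᶜ Cz a = Cz (g * a * g⁻¹) := cj_centralizer_singleton g a

theorem cj_Oc [Finite G] (g a : G) : g •ᶜ Oc a = Oc (g * a * g⁻¹) := by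
  rw [Oc, Oc, ← cj_Cz]
  exact (opOf_map_of_injective 2 _ (MulAut.conj g).injective).symm

theorem conj_mem_Oc_conj [Finite G] {a x : G} (g : G) (h : x ∈ Oc a) :
    g * x * g⁻¹ ∈ Oc (g * a * g⁻¹) := by
  rw [← cj_Oc]; exact conj_mem_cj h

theorem conj_mem_JJ {a b : G} (g : G) (h : b ∈ JJ a) : g * b * g⁻¹ ∈ JJ (g * a * g⁻¹) := by
  obtain ⟨h1, h2, h3, h4⟩ := h
  have k : ∀ x : G, IsConj x (g * x * g⁻¹) := fun x => isConj_of_eq rfl
  refine ⟨((k a).symm.trans h1).trans (k b), comm_conj h2 g, fun e => h3 (by simpa using e), fun e => h4 ?_⟩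
  rw [conj_mul_conj] at e
  exact ((k a).trans e).trans (k _).symm

theorem cj_LL (g a : G) : g •ᶜ LL a = LL (g * a * g⁻¹) := by
  rw [LL, cj_closure, LL]
  congr 1
  ext b
  refine ⟨by rintro ⟨c, hc, rfl⟩; exact conj_mem_JJ g hc, fun hb => ⟨g⁻¹ * b * g, ?_, by group⟩⟩
  have := conj_mem_JJ g⁻¹ hb
  simpa [mul_assoc] using this

theorem conj_mem_LL {a x : G} (g : G) (h : x ∈ LL a) : g * x * g⁻¹ ∈ LL (g * a * g⁻¹) := by
  rw [← cj_LL]; exact conj_mem_cj h

theorem conj_mem_LL' {a x g : G} (hg : Commute g a) (h : x ∈ LL a) : g * x * g⁻¹ ∈ LL a := by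
  have := conj_mem_LL g h
  rwa [conj_eq_of_comm hg] at this

theorem LL_le (a : G) : LL a ≤ Cz a := (closure_le _).2 fun _ hb => mem_Cz.2 hb.2.1.symm

theorem Cz_le_normalizer_LL (a : G) : Cz a ≤ normalizer (LL a : Set G) := fun g hg =>
  mem_normalizer_iff_cj.2 (by rw [cj_LL, conj_eq_of_comm (mem_Cz.1 hg)])

theorem cj_Kp (p : ℕ) (g : G) (L : Subgroup G) (a : G) :
    g •ᶜ Kp p L a = Kp p (g •ᶜ L) (g * a * g⁻¹) := by
  rw [Kp, cj_closure, Kp]
  congr 1
  ext x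
  constructor
  · rintro ⟨y, ⟨h1, h2, k, h3⟩, rfl⟩
    exact ⟨conj_mem_cj h1, comm_conj h2 g, k, by rw [conj_pow, h3]; group⟩
  · rintro ⟨h1, h2, k, h3⟩
    refine ⟨g⁻¹ * x * g, ⟨mem_cj.1 h1, comm_of_conj (g := g) (by simpa [mul_assoc] using h2), k, ?_⟩,
      by group⟩
    have := conj_pow (a := g⁻¹) (b := x) (i := p ^ k)
    rw [inv_inv] at this
    rw [this, h3]; group

theorem Kp_le (p : ℕ) (L : Subgroup G) (a : G) : Kp p L a ≤ L ⊓ Cz a :=
  (closure_le _).2 fun _ hx => ⟨hx.1, mem_Cz.2 hx.2.1⟩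

section
variable {W : Type*} [Group W] {z e n i : W} (w : WF z e n i)
include w

/-- `z` is a commutator. -/
theorem WF.z_comm : ∃ y, y * i * y⁻¹ = i * z := by
  by_contra! h
  exact w.i_nc (mem_center_iff.2 fun y => (comm_of_conj_eq ((w.i_conj y).resolve_right (h y))).eq)

theorem WF.zc (a : W) : Commute a z := mem_center_iff.1 w.z_cen a

theorem WF.map_z {A : Type*} [Group A] (f : W →* A) (h : ∀ a b, Commute (f a) (f b)) : f z = 1 := by
  obtain ⟨y, hy⟩ := w.z_comm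
  have := congrArg f hy
  rw [map_mul, map_mul, (h y i).eq, mul_assoc, ← map_mul, mul_inv_cancel, map_one, map_mul] at this
  exact (mul_left_cancel this).symm

theorem WF.map_i {A : Type*} [Group A] (f : W →* A) (h : ∀ a b, Commute (f a) (f b)) : f i = 1 := by
  obtain ⟨p, q, e⟩ := w.i_comm
  rw [e, map_mul, map_mul, map_mul, (h p q).eq, map_inv, map_inv]; group

theorem WF.e_ne : e ≠ 1 := fun h => w.e_nc (h ▸ one_mem _)

theorem WF.e_ne_z : e ≠ z := fun h => w.e_nc (h ▸ w.z_cen)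

theorem WF.ez_nc : e * z ∉ center W := fun h => w.e_nc (by
  simpa [mul_assoc, w.z_sq] using mul_mem h w.z_cen)

theorem WF.ez_sq : e * z * (e * z) = 1 := by
  rw [mul_assoc, ← mul_assoc z, ← (w.zc e).eq, mul_assoc, w.z_sq, mul_one, w.e_sq]

theorem WF.n_ez : n * (e * z) * n⁻¹ = e := by
  rw [← conj_mul_conj, w.n_e, conj_eq_of_comm (w.zc n), mul_assoc, w.z_sq, mul_one]

/-- the involutions of `B`. -/
theorem WF.omegaB {b : W} (h2 : b * b = 1) (h : Commute b e) : b = 1 ∨ b = z ∨ b = e ∨ b = e * z := by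
  rcases w.rank2 b e h2 w.e_sq h with h | h | h | h | h | h
  · exact Or.inl h
  · exact absurd h w.e_ne
  · exact Or.inr (Or.inr (Or.inl h))
  · exact Or.inr (Or.inl h)
  · exact absurd h w.e_ne_z
  · refine Or.inr (Or.inr (Or.inr ?_))
    rw [(w.zc e).eq, ← h, mul_assoc, w.e_sq, mul_one]

/-- a nontrivial element of `W` has a power which is an involution. -/
theorem WF.exists_pow {a : W} (h : a ≠ 1) : ∃ j : ℕ, a ^ 2 ^ j ≠ 1 ∧ a ^ 2 ^ j * a ^ 2 ^ j = 1 := by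
  classical
  have h1 := w.pg a
  have h0 : Nat.find h1 ≠ 0 := fun h0 => h (by simpa [h0] using Nat.find_spec h1)
  obtain ⟨j, hj⟩ := Nat.exists_eq_succ_of_ne_zero h0
  refine ⟨j, Nat.find_min h1 (by omega), ?_⟩
  have := Nat.find_spec h1
  rwa [hj, pow_succ, pow_mul, pow_two] at this

/-- a homomorphism on `W × W` which does not kill a central involution is injective. -/
theorem WF.inj_of [Finite W] (f : W × W →* G) (h1 : f (z, 1) ≠ 1) (h2 : f (1, z) ≠ 1)
    (h3 : f (z, z) ≠ 1) : Function.Injective f := by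
  rw [← MonoidHom.ker_eq_bot_iff]
  by_contra hk
  have hp : IsPGroup 2 (W × W) := fun x => by
    obtain ⟨a, ha⟩ := w.pg x.1
    obtain ⟨b, hb⟩ := w.pg x.2
    refine ⟨a + b, Prod.ext ?_ ?_⟩
    · rw [Prod.pow_fst, pow_add, pow_mul, ha, one_pow, Prod.fst_one]
    · rw [Prod.pow_snd, add_comm, pow_add, pow_mul, hb, one_pow, Prod.snd_one]
  have h4 := inf_centralizer_ne_bot (P := ⊤) (A := f.ker) (hp.to_subgroup _) (hp.to_subgroup _)
    (by rw [normalizer_eq_top]) hk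
  obtain ⟨⟨x, hx⟩, hx1⟩ := (ne_bot_iff_exists_ne_one).1 h4
  have hx1' : x ≠ 1 := fun e => hx1 (Subtype.ext e)
  classical
  have h5 := hp x
  have h0 : Nat.find h5 ≠ 0 := fun h0 => hx1' (by simpa [h0] using Nat.find_spec h5)
  obtain ⟨j, hj⟩ := Nat.exists_eq_succ_of_ne_zero h0
  have h6 : x ^ 2 ^ j ≠ 1 := Nat.find_min h5 (by omega)
  have h7 := Nat.find_spec h5
  rw [hj, pow_succ, pow_mul, pow_two] at h7
  have h8 := pow_mem hx (2 ^ j)
  generalize x ^ 2 ^ j = y at h6 h7 h8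
  have c := mem_centralizer_iff.1 h8.2
  have k : f y = 1 := h8.1
  obtain ⟨a, b⟩ := y
  have ha := w.z_uniq a (mem_center_iff.2 fun g => congrArg Prod.fst (c (g, 1) (mem_top _)))
    (congrArg Prod.fst h7)
  have hb := w.z_uniq b (mem_center_iff.2 fun g => congrArg Prod.snd (c (1, g) (mem_top _)))
    (congrArg Prod.snd h7)
  rcases ha with rfl | rfl <;> rcases hb with rfl | rfl
  exacts [h6 rfl, h2 k, h1 k, h3 k]

end

end CL.L5
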