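import Cfsg.Agent.INV.L5.CfB
import Cfsg.Agent.S0223

/-! # Two uniqueness lemmas -/

set_option autoImplicit false

namespace CL.L5

open Subgroup Cfsg CL.MSS CL.PComp

variable {G : Type*} [Group G] [Finite G] {t : Fin 5 → G}

omit [Finite G] in
theorem Cf.inv0' (h : Cf t) {k l : Fin 5} (e : k ≠ l) {y : G} (h2 : y * y = 1) (hk : Commute y (t k))
    (hl : Commute y (t l)) : ∃ g, Commute g (t k) ∧ Commute g (t l) ∧ g * y * g⁻¹ ∈ AA t := by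
  obtain ⟨σ, rfl, rfl⟩ := exists_perm2 e
  obtain ⟨p, hp⟩ := h.perm σ
  have k1 : ∀ m, Commute y (t (σ m)) → Commute (p⁻¹ * y * p⁻¹⁻¹) (t m) := fun m hm => by
    have := comm_conj hm p⁻¹
    rwa [hp.inv, show σ⁻¹ (σ m) = m by simp] at this
  obtain ⟨g, g0, g1, hg⟩ := h.inv0 _ (by rw [conj_mul_conj, h2, mul_one, mul_inv_cancel]) (k1 0 hk) (k1 1 hl)
  refine ⟨p * g * p⁻¹, hp 0 ▸ comm_conj g0 p, hp 1 ▸ comm_conj g1 p, ?_⟩
  simpa [mul_assoc] using hp.mem_AA hg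

omit [Finite G] in
theorem Cf.swap_comm (h : Cf t) {g : G} {k l : Fin 5} (hg : Ind t g (Equiv.swap k l)) :
    Commute g (t k * t l) :=
  comm_of_conj_eq (by rw [hg.two, Equiv.swap_apply_left, Equiv.swap_apply_right, h.c])

/-- two involutions `u, v` centralising `z`. -/
theorem dihedral {u v z : G} (hu : u * u = 1) (hv : v * v = 1) (hz : z * z = 1) (cu : Commute u z)
    (cv : Commute v z) (n1 : ¬ IsConj (u * z) v) (n2 : ¬ IsConj (u * z) (v * z)) (n3 : ¬ IsConj u (u * z)) :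
    ∃ j, j ≠ 1 ∧ j ≠ z ∧ j * j = 1 ∧ Commute j u ∧ Commute j v ∧ Commute j z := by
  classical
  have ui : u⁻¹ = u := inv_eq_of_mul_eq_one_right hu
  have vi : v⁻¹ = v := inv_eq_of_mul_eq_one_right hv
  have k1 : ∀ k : ℕ, u * (u * v) ^ k * u⁻¹ = ((u * v) ^ k)⁻¹ := fun k => by
    rw [← conj_pow, ← inv_pow, mul_inv_rev, ui, vi, ← mul_assoc, hu, one_mul]
  have k2 : ∀ k : ℕ, v * (u * v) ^ k * v⁻¹ = ((u * v) ^ k)⁻¹ := fun k => by
    rw [← conj_pow, ← inv_pow, mul_inv_rev, ui, vi, mul_assoc, mul_assoc, hv, mul_one]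
  have k3 : ∀ k : ℕ, (u * v) ^ k * u * ((u * v) ^ k)⁻¹ = (u * v) ^ (2 * k) * u := fun k => by
    rw [← k1, two_mul, pow_add, ui, ← mul_assoc, ← mul_assoc, mul_assoc _ u u, hu, mul_one]
  have cz : ∀ k : ℕ, Commute ((u * v) ^ k) z := fun k => (cu.mul_left cv).pow_left k
  have ex : ∃ m : ℕ, 0 < m ∧ ((u * v) ^ m = 1 ∨ (u * v) ^ m = z) :=
    ⟨_, orderOf_pos _, Or.inl (pow_orderOf_eq_one _)⟩
  obtain ⟨m0, hm⟩ := Nat.find_spec ex
  obtain ⟨k, hk | hk⟩ := Nat.even_or_odd' (Nat.find ex) <;> rw [hk] at hm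
  · have k4 := Nat.find_min ex (m := k) (by omega)
    have h1 : (u * v) ^ (2 * k) = 1 := hm.resolve_right fun e =>
      n3 (isConj_of_eq (by rw [k3, e, cu.eq]))
    have h2 : (u * v) ^ k * (u * v) ^ k = 1 := by rw [← pow_add, ← two_mul, h1]
    exact ⟨_, fun e => k4 ⟨by omega, Or.inl e⟩, fun e => k4 ⟨by omega, Or.inr e⟩, h2,
      comm_of_conj_eq (by rw [k3, h1, one_mul]),
      (comm_of_conj_eq (by rw [k2, inv_eq_of_mul_eq_one_right h2])).symm, cz k⟩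
  · have h1 : (u * v) ^ k * (u * z) * ((u * v) ^ k)⁻¹ = (u * v) ^ (2 * k + 1) * (v * z) := by
      rw [← conj_mul_conj, k3, conj_eq_of_comm (cz k), pow_succ]
      simp only [mul_assoc]
      rw [← mul_assoc v, hv, one_mul]
    exfalso
    rcases hm with e | e <;> rw [e] at h1
    · exact n2 (isConj_of_eq (by rw [h1, one_mul]))
    · exact n1 (isConj_of_eq (by rw [h1, cv.eq, ← mul_assoc, hz, one_mul]))

/-- `z = t 2`, `X = C(z)`, `u = t 0 * t 2`, `z₁ = t 0 * t 1`, `x ∈ X`, `v = x z₁ x⁻¹`.  `u, v, v z` have weight 2 (`z₁ z = t 3 * t 4`), `u z = t 0` has weight 4.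
Let `m > 0` be least with `(u v)^m ∈ {1, z}`.  If `m = 2k+1`, `(uv)^k u (uv)^(-k) = (uv)^(2k) u ∈ {v, v z}`, and multiplying by `z` gives
`t 0 ~` weight 2, impossible.  So `m = 2k`, `j = (uv)^k ∉ {1,z}`, `(j u)² = 1`, `j u j⁻¹ ∈ {u, u z}`, so `j` commutes with `u` and `j² = 1`; `v j v⁻¹ = j⁻¹ = j`.
`inv0` (transported by a permutation `0 ↦ 0, 1 ↦ 2`): `g j g⁻¹ = a ∈ A` with `g ∈ C(t 0) ⊓ C(t 2) ≤ M`, `a ∉ {1, z}`; one of `a, a z` has weight 2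
and `g v g⁻¹ ∈ X` centralises it, so `v ∈ M`.  `invX` for `M ⊓ X`: `m v m⁻¹ = t k * t l`, and `k, l ≠ 2` because `v z` has weight 2.  The elements
inducing transpositions `(k l)`, `k, l ≠ 2`, lie in `C(t 2) ⊓ C(t k * t l) ≤ M` and generate the stabiliser of `2` (`indS`, `swap_mem_of`), so some
`g₂ ∈ M ⊓ X` maps `z₁` to `t k * t l`, and `g₂⁻¹ m x ∈ C(t 2) ⊓ C(z₁) ≤ M`. -/
theorem Cf.trick1 (h : Cf t) {M : Subgroup G} (hM : ∀ k l, k ≠ l → Cz (t 2) ⊓ Cz (t k * t l) ≤ M) :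
    Cz (t 2) ≤ M := by
  intro x hx
  have cx := mem_Cz.1 hx
  have c1 : IsConj (t 0 * t 1) (x * (t 0 * t 1) * x⁻¹) := isConj_of_eq rfl
  have c2 : IsConj (t 3 * t 4) (x * (t 0 * t 1) * x⁻¹ * t 2) := isConj_of_eq (g := x) (by
    rw [← h.prod3 (a := 0) (b := 1) (c := 2) (by decide), ← conj_mul_conj _ (t 0 * t 1), conj_eq_of_comm cx])
  have v2 : x * (t 0 * t 1) * x⁻¹ * (x * (t 0 * t 1) * x⁻¹) = 1 := by
    rw [conj_mul_conj, h.sq2, mul_one, mul_inv_cancel]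
  have cv : Commute (x * (t 0 * t 1) * x⁻¹) (t 2) :=
    (cx.mul_left (h.comm1 2 0 1).symm).mul_left cx.inv_left
  have e0 : t 0 * t 2 * t 2 = t 0 := by rw [mul_assoc, h.sq, mul_one]
  obtain ⟨j, j1, jz, j2, ju, jv, cj⟩ := dihedral (h.sq2 0 2) v2 (h.sq 2) (h.comm1 2 0 2).symm cv
    (fun c => h.nconj' (k := 0) (l := 1) (by decide) 0 (c1.trans (e0 ▸ c).symm))
    (fun c => h.nconj' (k := 3) (l := 4) (by decide) 0 (c2.trans (e0 ▸ c).symm))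
    (fun c => h.nconj' (k := 0) (l := 2) (by decide) 0 (c.trans (by rw [e0])))
  obtain ⟨g, g0, g2, hg⟩ := h.inv0' (k := 0) (l := 2) (by decide) j2 (e0 ▸ ju.mul_right cj) cj
  have gM : g ∈ M := hM 0 2 (by decide) ⟨mem_Cz.2 g2, mem_Cz.2 (g0.mul_right g2)⟩
  have c3 := comm_conj jv.symm g
  have c4 : Commute (g * (x * (t 0 * t 1) * x⁻¹) * g⁻¹) (t 2) := (g2.mul_left cv).mul_left g2.inv_left
  have vM : x * (t 0 * t 1) * x⁻¹ ∈ M := by
    have : g * (x * (t 0 * t 1) * x⁻¹) * g⁻¹ ∈ M := by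
      rcases h.mem_AA.1 hg with e | ⟨k, e⟩ | ⟨k, l, hkl, e⟩
      · exact absurd (conj_eq_one_iff.1 e) j1
      · refine hM k 2 (fun e1 => jz ?_) ⟨mem_Cz.2 c4, mem_Cz.2 ((e ▸ c3).mul_right c4)⟩
        rw [e1, ← conj_eq_of_comm g2] at e
        exact mul_left_cancel (mul_right_cancel e)
      · exact hM k l hkl ⟨mem_Cz.2 c4, mem_Cz.2 (e ▸ c3)⟩
    simpa [mul_assoc] using mul_mem (mul_mem (inv_mem gM) this) gM
  obtain ⟨m, hm', hm⟩ := h.invX (M ⊓ Cz (t 2)) (fun k l _ _ e => le_inf (hM k l e) inf_le_left) _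
    ⟨vM, mem_Cz.2 cv⟩ v2
  obtain ⟨mM, mz⟩ := mem_inf.1 hm'
  obtain ⟨k, l, hkl, e⟩ := h.wt2 hm (c1.trans (isConj_of_eq rfl))
  have c5 : IsConj (t 3 * t 4) (t k * t l * t 2) := c2.trans (isConj_of_eq (g := m) (by
    rw [← conj_mul_conj, e, conj_eq_of_comm (mem_Cz.1 mz)]))
  have k2 : k ≠ 2 := fun e1 => h.nconj' (k := 3) (l := 4) (by decide) l (by
    rwa [e1, h.c 2 l, mul_assoc, h.sq, mul_one] at c5)
  have l2 : l ≠ 2 := fun e1 => h.nconj' (k := 3) (l := 4) (by decide) k (by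
    rwa [e1, mul_assoc, h.sq, mul_one] at c5)
  have sw : ∀ a b, a ≠ 2 → b ≠ 2 → Equiv.swap a b ∈ indS t (M ⊓ Cz (t 2)) := fun a b ha hb => by
    by_cases e1 : a = b
    · rw [e1, Equiv.swap_self]; exact one_mem _
    obtain ⟨p, hp⟩ := h.perm (Equiv.swap a b)
    have p2 := mem_Cz.2 (hp.comm (Equiv.swap_apply_of_ne_of_ne ha.symm hb.symm))
    exact ⟨p, ⟨hM a b e1 ⟨p2, mem_Cz.2 (h.swap_comm hp)⟩, p2⟩, hp⟩
  obtain ⟨q1, q2, q3⟩ : Equiv.swap 0 k 1 ≠ 2 ∧ (Equiv.swap (Equiv.swap 0 k 1) l * Equiv.swap 0 k) 0 = k ∧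
    (Equiv.swap (Equiv.swap 0 k 1) l * Equiv.swap 0 k) 1 = l := by
    clear e c5; revert k l; decide
  obtain ⟨p, hp', hp⟩ := mul_mem (sw _ l q1 l2) (sw 0 k (by decide) k2)
  obtain ⟨pM, pz⟩ := mem_inf.1 hp'
  have e2 := hp.two 0 1
  rw [q2, q3, ← e] at e2
  have : p⁻¹ * m * x ∈ M := hM 0 1 (by decide) <| mem_inf.2 ⟨mul_mem (mul_mem (inv_mem pz) mz) hx,
    mem_Cz.2 (comm_of_conj_eq (by
      calc _ = p⁻¹ * (m * (x * (t 0 * t 1) * x⁻¹) * m⁻¹) * p := by group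
        _ = _ := by rw [← e2]; group))⟩
  simpa [mul_assoc] using mul_mem (mul_mem (inv_mem mM) pM) this

/-- `M` induces `S₅` on the `t k` (`eq_top_of_chain`: elements inducing `(0 1), (2 3), (3 4)` centralise `t 0 * t 1`), so it contains all `C(t k * t l)`,
`C(t 2)` (`trick1`) and all `C(t k)`.  By `invX` every involution of `M` is `M`-conjugate into `A`.  If `M ≠ ⊤` it is strongly embedded
(`S0223`), so all involutions of `G` are conjugate (`CL.StrongEmb.isConj_of_involutions`), against `nconj`. -/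
theorem Cf.trick2 (h : Cf t) {M : Subgroup G} (h1 : Cz (t 0 * t 1) ≤ M)
    (h2 : ∃ g ∈ M, Ind t g (Equiv.swap 1 2)) : M = ⊤ := by
  have hP : indS t M = ⊤ := by
    refine eq_top_of_chain ?_ h2 ?_ ?_
    · obtain ⟨p, hp⟩ := h.perm (Equiv.swap 0 1)
      exact ⟨p, h1 (mem_Cz.2 (h.swap_comm hp)), hp⟩
    · obtain ⟨p, hp⟩ := h.perm (Equiv.swap 2 3)
      exact ⟨p, h1 (mem_Cz.2 ((hp.comm (by decide)).mul_right (hp.comm (by decide)))), hp⟩
    · obtain ⟨p, hp⟩ := h.perm (Equiv.swap 3 4)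
      exact ⟨p, h1 (mem_Cz.2 ((hp.comm (by decide)).mul_right (hp.comm (by decide)))), hp⟩
  have hP' : ∀ σ, ∃ g ∈ M, Ind t g σ := fun σ => (hP ▸ mem_top σ : σ ∈ indS t M)
  have tr : ∀ a, ∀ g ∈ M, Cz a ≤ M → Cz (g * a * g⁻¹) ≤ M := fun a g hg ha y hy => by
    rw [← cj_Cz] at hy
    obtain ⟨y', hy', rfl⟩ := mem_cj'.1 hy
    exact mul_mem (mul_mem hg (ha hy')) (inv_mem hg)
  have w2 : ∀ k l, k ≠ l → ∃ g ∈ M, g * (t 0 * t 1) * g⁻¹ = t k * t l := fun k l e => by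
    obtain ⟨σ, rfl, rfl⟩ := exists_perm2 e
    obtain ⟨g, hg, a⟩ := hP' σ
    exact ⟨g, hg, a.two 0 1⟩
  have w4 : ∀ k, ∃ g ∈ M, g * t 2 * g⁻¹ = t k := fun k => by
    obtain ⟨g, hg, a⟩ := hP' (Equiv.swap 2 k)
    exact ⟨g, hg, by rw [a, Equiv.swap_apply_left]⟩
  have c2 : ∀ k l, k ≠ l → Cz (t k * t l) ≤ M := fun k l e => by
    obtain ⟨g, hg, a⟩ := w2 k l e
    exact a ▸ tr _ g hg h1
  have c4 := h.trick1 fun k l e => inf_le_right.trans (c2 k l e)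
  have rep : ∀ y ∈ M, orderOf y = 2 → ∃ g ∈ M, g * (t 0 * t 1) * g⁻¹ = y ∨ g * t 2 * g⁻¹ = y := by
    intro y hy o
    obtain ⟨m, hm, a⟩ := h.invX M (fun k l _ _ e => inf_le_right.trans (c2 k l e)) y hy
      (by rw [← pow_two, ← o, pow_orderOf_eq_one])
    rcases h.mem_AA.1 a with e | ⟨k, e⟩ | ⟨k, l, hkl, e⟩
    · rw [conj_eq_one_iff.1 e, orderOf_one] at o; omega
    · obtain ⟨g, hg, b⟩ := w4 k
      exact ⟨m⁻¹ * g, mul_mem (inv_mem hm) hg, Or.inr (by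
        calc _ = m⁻¹ * (g * t 2 * g⁻¹) * m := by group
          _ = _ := by rw [b, ← e]; group)⟩
    · obtain ⟨g, hg, b⟩ := w2 k l hkl
      exact ⟨m⁻¹ * g, mul_mem (inv_mem hm) hg, Or.inl (by
        calc _ = m⁻¹ * (g * (t 0 * t 1) * g⁻¹) * m := by group
          _ = _ := by rw [b, ← e]; group)⟩
  by_contra hne
  have se := (Cfsg.Agent.S0223.result M hne (even_iff_two_dvd.2 (h.ord1 2 ▸ orderOf_dvd_natCard _
    (c4 (mem_Cz.2 (Commute.refl _)))))).2 ⟨fun y hy o => by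
      obtain ⟨g, hg, rfl | rfl⟩ := rep y hy o
      exacts [tr _ g hg h1, tr _ g hg c4], fun y hy y' hy' o o' c => by
      obtain ⟨g, hg, rfl | rfl⟩ := rep y hy o <;> obtain ⟨g', hg', rfl | rfl⟩ := rep y' hy' o'
      · exact ⟨g' * g⁻¹, mul_mem hg' (inv_mem hg), by group⟩
      · exact absurd (((isConj_of_eq rfl).trans c).trans (isConj_of_eq rfl).symm) h.nconj
      · exact absurd (((isConj_of_eq rfl).trans c.symm).trans (isConj_of_eq rfl).symm) h.nconj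
      · exact ⟨g' * g⁻¹, mul_mem hg' (inv_mem hg), by group⟩⟩
  exact h.nconj (CL.StrongEmb.isConj_of_involutions se (h.ord2 (by decide)) (h.ord1 2))

end CL.L5
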