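import Cfsg.Agent.INV.L5.GoodA

/-! # The complement `U`

`κ = kap τ`, `B = C_W(e)` (abelian by `ab`), `P = τ (W × B)`, `E₂ = {1, κ z, κ e, κ (e z)}`. -/

set_option autoImplicit false
set_option linter.unusedSectionVars false

namespace CL.L5

open Subgroup Cfsg CL.MSS CL.PComp

variable {G W : Type*} [Group G] [Finite G] [Group W] [Finite W] {τ : W × W →* G} {s ρ : G} {z e n i : W}
  {ψ : W →* W}

theorem card_Cz_conj {H : Type*} [Group H] (y a : H) : Nat.card (Cz (y * a * y⁻¹)) = Nat.card (Cz a) := by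
  rw [← cj_Cz, card_cj]

theorem exists_odd_pow (x : G) : ∃ k : ℕ, Odd (orderOf (x ^ 2 ^ k)) ∧ Odd (orderOf (x ^ 4 ^ k)) := by
  obtain ⟨k, m, hm, e⟩ := Nat.exists_eq_two_pow_mul_odd (orderOf_pos x).ne'
  have h : Odd (orderOf (x ^ 2 ^ k)) :=
    hm.of_dvd_nat (orderOf_dvd_of_pow_eq_one (by rw [← pow_mul, ← e, pow_orderOf_eq_one]))
  refine ⟨k, h, h.of_dvd_nat ?_⟩
  rw [show 4 ^ k = 2 ^ k * 2 ^ k from mul_pow 2 2 k, pow_mul]
  exact orderOf_pow_dvd _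

theorem comm_of_odd {x y t : G} (hx : Odd (orderOf x)) (h : x * y * x⁻¹ = y * t) (ht : Commute x t) {l : ℕ}
    (h2 : t ^ 2 ^ l = 1) : Commute x y := by
  have h1 : ∀ m : ℕ, x ^ m * y * (x ^ m)⁻¹ = y * t ^ m := fun m => by
    induction m with
    | zero => simp
    | succ m ih =>
      calc _ = x ^ m * (x * y * x⁻¹) * (x ^ m)⁻¹ := by rw [pow_succ]; group
        _ = _ := by rw [h, ← conj_mul_conj, ih, conj_eq_of_comm (ht.pow_left m), pow_succ, mul_assoc]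
  have h3 := h1 (orderOf x)
  rw [pow_orderOf_eq_one, one_mul, inv_one, mul_one, left_eq_mul] at h3
  rw [eq_one_of_odd_of_two (hx.of_dvd_nat (orderOf_dvd_of_pow_eq_one h3)) h2, mul_one] at h
  exact comm_of_conj_eq h

/-- the stabiliser of `z₁`, `P` and `κ B`. -/
def Nn (τ : W × W →* G) (z e : W) : Subgroup G :=
  Cz (τ (z, 1)) ⊓ normalizer ((((⊤ : Subgroup W).prod (Cz e)).map τ : Subgroup G) : Set G) ⊓
    normalizer ((((⊥ : Subgroup W).prod (Cz e)).map τ : Subgroup G) : Set G)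

theorem Nn.P {x : G} (hx : x ∈ Nn τ z e) (a : W) {c : W} (hc : Commute c e) :
    ∃ a' c', Commute c' e ∧ x * τ (a, c) * x⁻¹ = τ (a', c') := by
  obtain ⟨a', -, c', h, e1⟩ := mem_prod_map.1
    (CL.P2.norm_mem hx.1.2 (mem_prod_map.2 ⟨a, mem_top a, c, mem_Cz.2 hc, rfl⟩))
  exact ⟨a', c', mem_Cz.1 h, e1⟩

theorem Nn.B {x : G} (hx : x ∈ Nn τ z e) {c : W} (hc : Commute c e) :
    ∃ c', Commute c' e ∧ x * τ (1, c) * x⁻¹ = τ (1, c') := by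
  obtain ⟨a', h', c', h, e1⟩ := mem_prod_map.1
    (CL.P2.norm_mem hx.2 (mem_prod_map.2 ⟨1, one_mem _, c, mem_Cz.2 hc, rfl⟩))
  exact ⟨c', mem_Cz.1 h, mem_bot.1 h' ▸ e1⟩

theorem WF.n_B (w : WF z e n i) {c : W} (hc : Commute c e) : Commute (n * c * n⁻¹) e :=
  w.n_ez ▸ comm_conj (hc.mul_right (w.zc c)) n

theorem WF.n_B' (w : WF z e n i) {c : W} (hc : Commute c e) : Commute (n⁻¹ * c * n) e := by
  simpa [mul_assoc] using comm_conj (w.n_e ▸ hc.mul_right (w.zc c) : Commute c (n * e * n⁻¹)) n⁻¹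

theorem WF.abB (w : WF z e n i) {c d : W} (hc : Commute c e) (hd : Commute d e) : Commute c d :=
  w.ab e w.e_nc c d hc hd

namespace Good

variable (w : WF z e n i) (Γ : Good τ s z)
include w Γ

/-- A Sylow subgroup `R ≥ P` of `C(z₁, κ z, κ e)` is conjugated into `T` by `k ∈ H = C(z₁, κ z)` (`T` is Sylow in `H`); `(κ e)^k = κ a'` (`scV`), `a'` noncentral,
`R^k ≤ τ (W × C(a'))`; `|P| ≤ |R|` gives `|C(e)| ≤ |C(a')|`, so `a' ~ e` (`big`) and `|R| ≤ |P|` (`Fr.card_prod`). -/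
theorem sylP : SylIn 2 (((⊤ : Subgroup W).prod (Cz e)).map τ)
    (Cz (τ (z, 1)) ⊓ Cz (τ (1, z)) ⊓ Cz (τ (1, e))) := by
  have F := Γ.toFr
  have hP : ((⊤ : Subgroup W).prod (Cz e)).map τ ≤ Cz (τ (z, 1)) ⊓ Cz (τ (1, z)) ⊓ Cz (τ (1, e)) := fun x hx => by
    obtain ⟨a, -, c, hc, rfl⟩ := mem_prod_map.1 hx
    exact ⟨⟨w.T_le1 (τ_mem τ a c), w.T_le2 (τ_mem τ a c)⟩,
      mem_Cz.2 (τ_comm τ (Commute.one_right a) (mem_Cz.1 hc))⟩
  obtain ⟨R, hR, hPR⟩ := exists_sylIn_ge (F.pg_prod _ _) hP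
  obtain ⟨k, hk, h1⟩ := ((F.sylT w).of_le (le_inf w.T_le1 w.T_le2) inf_le_left).exists_conj_le hR.pgroup
    (hR.le.trans inf_le_left)
  obtain ⟨a, a', e1⟩ := mem_T.1 (h1 (conj_mem_cj (hPR
    (mem_prod_map.2 ⟨1, mem_top _, e, mem_Cz.2 (Commute.refl e), rfl⟩))))
  obtain rfl := Γ.scV e k (mem_Cz.1 hk.1) a a' e1
  have a2 : a' * a' = 1 := (F.eq_one_iff.1 (by
    rw [← τ_mul, ← e1, conj_mul_conj, τ_mul, w.e_sq, mul_one, τ_one, mul_one, mul_inv_cancel])).2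
  have hc : a' ∉ center W := fun hc => by
    rcases w.z_uniq a' hc a2 with rfl | rfl
    · exact w.e_ne (F.eq_one_iff.1 (conj_eq_one_iff.1 (e1.trans (τ_one τ)))).2
    · rw [← conj_eq_of_comm (mem_Cz.1 hk.2)] at e1
      exact w.e_ne_z (F.eq_iff.1 (mul_left_cancel (mul_right_cancel e1))).2
  have h2 : k •ᶜ R ≤ ((⊤ : Subgroup W).prod (Cz a')).map τ := fun x hx => by
    obtain ⟨b, c, e2⟩ := mem_T.1 (h1 hx)
    obtain ⟨y, hy, e3⟩ := mem_cj'.1 hx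
    refine mem_prod_map.2 ⟨b, mem_top b, c, mem_Cz.2 (F.comm_iff (a := b) (c := 1) |>.1 ?_).2, e2⟩
    rw [← e2, ← e3, ← e1]
    exact comm_conj (mem_Cz.1 (hR.le hy).2) k
  have c1 := card_le_of_le hPR
  have c2 := card_le_of_le h2
  rw [card_cj, F.card_prod] at c2
  obtain ⟨y, hy⟩ := w.big a' hc a2 (Nat.le_of_mul_le_mul_left ((F.card_prod _ _ ▸ c1).trans c2) Nat.card_pos)
  exact hR.of_card_le (F.pg_prod _ _) hP (by rwa [F.card_prod, ← hy, card_Cz_conj])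

/-- If `κ b ~ κ z`, the conjugating element can be chosen to map `C_T(κ b)` into `T` (`T` is Sylow in `C(z₁, κ z)`). -/
theorem cls' {b : W} (h2 : b * b = 1) (h1 : b ≠ 1) : ∃ g, Commute g (τ (z, 1)) ∧
    g * τ (1, b) * g⁻¹ = τ (1, z) ∧ ∀ a c, Commute c b → g * τ (a, c) * g⁻¹ ∈ τ.range := by
  have F := Γ.toFr
  obtain ⟨g, hg, e1⟩ := Γ.cls b h2 h1
  obtain ⟨k, hk, h3⟩ := ((F.sylT w).of_le (le_inf w.T_le1 w.T_le2) inf_le_left).exists_conj_le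
    (isPGroup_cj g (F.pg_prod ⊤ (Cz b))) fun x hx => by
      obtain ⟨_, hy, rfl⟩ := mem_cj'.1 hx
      obtain ⟨a, -, c, hc, rfl⟩ := mem_prod_map.1 hy
      exact ⟨mem_Cz.2 ((hg.mul_left (mem_Cz.1 (w.T_le1 (τ_mem τ a c)))).mul_left hg.inv_left),
        mem_Cz.2 (e1 ▸ comm_conj (τ_comm τ (Commute.one_right a) (mem_Cz.1 hc)) g)⟩
  have e2 : ∀ y, k * g * y * (k * g)⁻¹ = k * (g * y * g⁻¹) * k⁻¹ := fun y => by group
  exact ⟨k * g, (mem_Cz.1 hk.1).mul_left hg, by rw [e2, e1, conj_eq_of_comm (mem_Cz.1 hk.2)], fun a c hc =>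
    e2 _ ▸ h3 (conj_mem_cj (conj_mem_cj (mem_prod_map.2 ⟨a, mem_top a, c, mem_Cz.2 hc, rfl⟩)))⟩

theorem mem_Nn {x : G} (h1 : Commute x (τ (z, 1)))
    (h : ∀ a c, Commute c e → ∃ a' c', Commute c' e ∧ x * τ (a, c) * x⁻¹ = τ (a', c')) : x ∈ Nn τ z e := by
  refine ⟨⟨mem_Cz.2 h1, mem_normalizer_of_cj_le fun y hy => ?_⟩, mem_normalizer_of_cj_le fun y hy => ?_⟩
  all_goals
    obtain ⟨_, hy', rfl⟩ := mem_cj'.1 hy
    obtain ⟨a, ha, c, hc, rfl⟩ := mem_prod_map.1 hy'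
    obtain ⟨a', c', h2, e1⟩ := h a c (mem_Cz.1 hc)
  · exact mem_prod_map.2 ⟨a', mem_top _, c', mem_Cz.2 h2, e1⟩
  · rw [mem_bot.1 ha] at e1 ⊢
    exact mem_prod_map.2 ⟨a', mem_bot.2 (Γ.scV c x h1 a' c' e1), c', mem_Cz.2 h2, e1⟩

theorem n_mem : τ (1, n) ∈ Nn τ z e :=
  Γ.mem_Nn w (τ_comm τ (Commute.one_left z) (Commute.one_right n)) fun _ _ hc => ⟨_, _, w.n_B hc, τ_conj τ _ _ _ _⟩

theorem exists_cyc : ∃ ρ ∈ Nn τ z e, Odd (orderOf ρ) ∧ ρ * τ (1, z) * ρ⁻¹ = τ (1, e) ∧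
    ρ * τ (1, e) * ρ⁻¹ = τ (1, e * z) := by
  have F := Γ.toFr
  obtain ⟨g, hg, e1, h1⟩ := Γ.cls' w w.e_sq w.e_ne
  obtain ⟨α, β, h2⟩ := F.coords2 (C := Cz e) fun c hc => h1 1 c (mem_Cz.1 hc)
  have h3 : ∀ c : Cz e, g * τ (1, c) * g⁻¹ = τ (1, β c) := fun c => Γ.scV _ g hg _ _ (h2 c) ▸ h2 c
  have inj : Function.Injective β := fun c d e2 => Subtype.ext
    (F.eq_iff.1 (mul_left_cancel (mul_right_cancel ((h3 c).trans (e2 ▸ (h3 d).symm))))).2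
  set z' : Cz e := ⟨z, mem_Cz.2 (w.zc e).symm⟩ with hz'
  have a2 : β z' * β z' = 1 := by rw [← map_mul, show z' * z' = 1 from Subtype.ext w.z_sq, map_one]
  have hc : β z' ∉ center W := fun hc => by
    rcases w.z_uniq _ hc a2 with k | k
    · exact w.z_ne (congrArg Subtype.val ((map_eq_one_iff β inj).1 k))
    · have := h3 z'
      rw [k] at this
      exact w.e_ne_z (F.eq_iff.1 (mul_left_cancel (mul_right_cancel (e1.trans this.symm)))).2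
  obtain ⟨y, hy⟩ := w.big _ hc a2 (Nat.card_le_card_of_injective
    (fun c => (⟨β c, mem_Cz.2 (Commute.map (Subtype.ext (w.zc c).eq) β)⟩ : Cz (β z')))
    fun c d e2 => inj (congrArg Subtype.val e2))
  have e2 : ∀ u, τ (1, y) * g * u * (τ (1, y) * g)⁻¹ = τ (1, y) * (g * u * g⁻¹) * (τ (1, y))⁻¹ := fun u => by
    group
  have e3 : τ (1, y) * g * τ (1, z) * (τ (1, y) * g)⁻¹ = τ (1, e) := by
    rw [e2, h3 z', τ_conj, hy]; simp
  have e4 : τ (1, y) * g * τ (1, e) * (τ (1, y) * g)⁻¹ = τ (1, z) := by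
    rw [e2, e1, τ_conj, conj_eq_of_comm (w.zc y)]; simp
  have m1 : τ (1, y) * g ∈ Nn τ z e := Γ.mem_Nn w ((mem_Cz.1 (w.T_le1 (τ_mem τ 1 y))).mul_left hg)
    fun a c hc => by
      obtain ⟨a', c', e5⟩ := mem_T.1 (h1 a c hc)
      have e6 : τ (1, y) * g * τ (a, c) * (τ (1, y) * g)⁻¹ = τ (1 * a' * 1⁻¹, y * c' * y⁻¹) := by
        rw [e2, e5, τ_conj]
      refine ⟨_, _, (F.comm_iff (a := 1 * a' * 1⁻¹) (c := 1) |>.1 ?_).2, e6⟩
      rw [← e6, ← e3]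
      exact comm_conj (mem_Cz.1 (w.T_le2 (τ_mem τ a c))) _
  have m2 := mul_mem m1 (Γ.n_mem w)
  have e5 : ∀ x x' u : G, x * x' * u * (x * x')⁻¹ = x * (x' * u * x'⁻¹) * x⁻¹ := fun x x' u => by group
  have ez : τ (1, e * z) = τ (1, e) * τ (1, z) := by rw [τ_mul, mul_one]
  have ze : τ (1, e * z) * τ (1, e) = τ (1, z) := by
    rw [τ_mul, mul_one, (w.zc e).eq, mul_assoc, w.e_sq, mul_one]
  have key : ∀ k : ℕ, (τ (1, y) * g * τ (1, n)) ^ 4 ^ k * τ (1, z) * ((τ (1, y) * g * τ (1, n)) ^ 4 ^ k)⁻¹ = τ (1, e) ∧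
      (τ (1, y) * g * τ (1, n)) ^ 4 ^ k * τ (1, e) * ((τ (1, y) * g * τ (1, n)) ^ 4 ^ k)⁻¹ = τ (1, e * z) := by
    intro k
    induction k with
    | zero =>
      rw [pow_zero, pow_one, e5, e5 _ (τ (1, n)), τ_conj, τ_conj, w.n_e, conj_eq_of_comm (w.zc n), mul_one,
        mul_inv_cancel, e3, ez, ← conj_mul_conj, e3, e4]
      exact ⟨rfl, (τ_comm τ (Commute.refl 1) (w.zc e)).eq.symm⟩
    | succ k ih =>
      rw [pow_succ, pow_mul]
      generalize (τ (1, y) * g * τ (1, n)) ^ 4 ^ k = x at ih ⊢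
      obtain ⟨k1, k2⟩ := ih
      have k3 : x * τ (1, e * z) * x⁻¹ = τ (1, z) := by rw [ez, ← conj_mul_conj, k1, k2, ze]
      have e6 : ∀ u, x ^ 4 * u * (x ^ 4)⁻¹ = x * (x * (x * (x * u * x⁻¹) * x⁻¹) * x⁻¹) * x⁻¹ := fun u => by
        rw [show x ^ 4 = x * x * x * x by rw [pow_succ, pow_succ, pow_two]]; group
      rw [e6, e6, k1, k2, k3, k1, k2]
      exact ⟨rfl, rfl⟩
  obtain ⟨k, -, hk⟩ := exists_odd_pow (τ (1, y) * g * τ (1, n))
  exact ⟨_, pow_mem m2 _, hk, key k⟩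

/-- an element of odd order acts trivially on `P / κ B`. -/
theorem odd_P {x : G} (hx : x ∈ Nn τ z e) (ho : Odd (orderOf x)) (a : W) {c : W} (hc : Commute c e) :
    ∃ c', Commute c' e ∧ x * τ (a, c) * x⁻¹ = τ (a, c') := by
  have F := Γ.toFr
  obtain ⟨α, β, h1⟩ := F.coords1 (g := x) fun a => by
    obtain ⟨a', c', -, e1⟩ := Nn.P hx a (Commute.one_left e)
    exact e1 ▸ τ_mem τ a' c'
  have h2 : ∀ a c, Commute c e → ∃ c', Commute c' e ∧ x * τ (a, c) * x⁻¹ = τ (α a, c') := fun a c hc => by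
    obtain ⟨a', c', h3, e1⟩ := Nn.P hx a hc
    obtain ⟨c'', -, e2⟩ := Nn.B hx hc
    have e3 : τ (a', c') = τ (α a * 1, β a * c'') := by
      rw [← e1, ← τ_mul, ← h1, ← e2, conj_mul_conj, τ_mul, mul_one, one_mul]
    exact ⟨c', h3, by rw [e1, (F.eq_iff.1 e3).1, mul_one]⟩
  have inj : Function.Injective α := (injective_iff_map_eq_one α).2 fun a ha => by
    obtain ⟨c', h3, e1⟩ := h2 a 1 (Commute.one_left e)
    obtain ⟨c'', -, e2⟩ := Nn.B (inv_mem hx) h3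
    rw [← ha, ← e1] at e2
    exact (F.eq_iff.1 (show τ (a, 1) = τ (α a, c'') by rw [← e2]; group)).1.trans ha
  set A : MulAut W := MulEquiv.ofBijective α (Finite.injective_iff_bijective.1 inj) with hA
  have h3 : ∀ m : ℕ, ∀ a c, Commute c e →
      ∃ c', Commute c' e ∧ x ^ m * τ (a, c) * (x ^ m)⁻¹ = τ ((A ^ m) a, c') := fun m => by
    induction m with
    | zero => exact fun a c hc => ⟨c, hc, by simp⟩
    | succ m ih =>
      intro a c hc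
      obtain ⟨c', h4, e1⟩ := h2 a c hc
      obtain ⟨c'', h5, e2⟩ := ih (α a) c' h4
      refine ⟨c'', h5, ?_⟩
      rw [pow_succ A, MulAut.mul_apply]
      refine Eq.trans ?_ e2
      rw [← e1, pow_succ]; group
  have h4 : A ^ orderOf x = 1 := MulEquiv.ext fun a => by
    obtain ⟨c', -, e1⟩ := h3 (orderOf x) a 1 (Commute.one_left e)
    rw [pow_orderOf_eq_one, one_mul, inv_one, mul_one, F.eq_iff] at e1
    exact e1.1.symm
  obtain ⟨k, hk⟩ := w.aut A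
  have h5 : α a = a :=
    DFunLike.congr_fun (eq_one_of_odd_of_two (ho.of_dvd_nat (orderOf_dvd_of_pow_eq_one h4)) hk) a
  simpa only [h5] using h2 a c hc

/-- an element of odd order which centralises the involutions of `κ B` centralises `P`. -/
theorem odd_cen {x : G} (hx : x ∈ Nn τ z e) (ho : Odd (orderOf x)) (hz : Commute x (τ (1, z)))
    (he : Commute x (τ (1, e))) (a : W) {c : W} (hc : Commute c e) : Commute x (τ (a, c)) := by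
  have F := Γ.toFr
  have h1 : ∀ (j : ℕ) b, Commute b e → b ^ 2 ^ j = 1 → Commute x (τ (1, b)) := fun j => by
    induction j with
    | zero => intro b _ h; rw [pow_zero, pow_one] at h; rw [h, τ_one]; exact Commute.one_right x
    | succ j ih =>
      intro b hb h
      obtain ⟨b', hb', e1⟩ := Nn.B hx hb
      have e2 := conj_eq_of_comm (ih (b * b) (hb.mul_left hb) (by rwa [← pow_two, ← pow_mul, ← pow_succ']))
      have e3 : τ (1 * 1, b' * b') = τ (1, b * b) := by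
        rw [← τ_mul, ← e1, conj_mul_conj, τ_mul, one_mul, e2]
      have t2 : b⁻¹ * b' * (b⁻¹ * b') = 1 := by
        rw [(w.abB hb' hb).inv_right.mul_mul_mul_comm, (F.eq_iff.1 e3).2, ← mul_inv_rev, inv_mul_cancel]
      refine comm_of_odd ho (t := τ (1, b⁻¹ * b')) (l := 1) (by rw [e1, τ_mul]; simp) ?_
        (by rw [pow_one, pow_two, τ_mul, t2, mul_one, τ_one])
      rcases w.omegaB t2 (hb.inv_left.mul_left hb') with k | k | k | k <;> rw [k]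
      exacts [τ_one τ ▸ Commute.one_right x, hz, he, by simpa [τ_mul] using he.mul_right hz]
  have h2 : ∀ b, Commute b e → Commute x (τ (1, b)) := fun b hb => by
    obtain ⟨j, hj⟩ := w.pg b
    exact h1 j b hb hj
  obtain ⟨c', h3, e1⟩ := Γ.odd_P w hx ho a hc
  obtain ⟨j, hj⟩ := w.pg (c⁻¹ * c')
  exact comm_of_odd ho (t := τ (1, c⁻¹ * c')) (l := j) (by rw [e1, τ_mul]; simp) (h2 _ (hc.inv_left.mul_left h3))
    (by rw [τ_pow, hj, one_pow, τ_one])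

/-- no fixed points on `κ B`. -/
theorem fpf (hz : ρ * τ (1, z) * ρ⁻¹ = τ (1, e)) (he : ρ * τ (1, e) * ρ⁻¹ = τ (1, e * z)) {c : W}
    (hc : Commute c e) (h : Commute ρ (τ (1, c))) : c = 1 := by
  have F := Γ.toFr
  by_contra h1
  obtain ⟨j, j1, j2⟩ := w.exists_pow h1
  have h2 := conj_eq_of_comm (h.pow_right (2 ^ j))
  rw [τ_pow, one_pow] at h2
  rcases w.omegaB j2 (hc.pow_left _) with k | k | k | k
  · exact j1 k
  · rw [k, hz] at h2; exact w.e_ne_z (F.eq_iff.1 h2).2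
  · rw [k, he] at h2; exact w.z_ne (mul_eq_left.1 (F.eq_iff.1 h2).2)
  · rw [k, show τ (1, e * z) = τ (1, e) * τ (1, z) by rw [τ_mul, mul_one], ← conj_mul_conj, hz, he, τ_mul,
      τ_mul, mul_assoc, ← (w.zc e).eq] at h2
    exact w.e_ne (mul_eq_right.1 (mul_left_cancel (F.eq_iff.1 h2).2))

/-- `g` from `cls'` for `b = e`: `(κ z)^g = κ a'`, `κ(B)^g ≤ κ C(a')`, so `a' ~ e` (`big`); correcting by `V`: `g : κ e ↦ κ z ↦ κ e`, `g` normalises `P` and `κ B`.  `h = g κ(n)`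
acts as `z ↦ e ↦ e z ↦ z`; `ρ = h^(4^k)` has odd order and acts in the same way.  An element of odd order of `C₁` normalising `P` and `κ B` acts trivially on
`P / κ B ≅ W` (`aut`).  `ρ` has no fixed point on `κ B` (`exists_pow`, `omegaB`), so `b ↦ b⁻¹ b^ρ` is bijective on `κ B`, and for every `a` there is a unique `ψ a ∈ B` with
`τ (a, ψ a)` fixed by `ρ`; `ψ` is a homomorphism.  Let `K₀ = N(P) ⊓ N(κ B) ⊓ C(z₁, E₂)`, with Sylow subgroup `P` (`sylP`).  An element `x ∈ K₀` of odd order centralises `κ B`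
(induction on the order of `b`: `b^x = b t` with `t² = 1`, `t` fixed) and then `P`; `sup_of_two`: `K₀ = P C_{K₀}(P)`.  `ρ' = κ(n) ρ κ(n)⁻¹`, `ρ ρ' ∈ K₀`, so `ρ'` maps
`U = C_P(ρ)` into `U` (`P = U × κ B` normalises `U`) and acts trivially on `P / κ B`, so it centralises `U`; by uniqueness `n⁻¹ (ψ a) n = ψ a`; `fixB`. -/
theorem exists_preU : ∃ (ψ : W →* W) (ρ : G), PreU τ s z e ψ ρ := by
  have F := Γ.toFr
  obtain ⟨ρ, hρ, ho, hz, he⟩ := Γ.exists_cyc w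
  have uq : ∀ a c c', Commute c e → Commute c' e → Commute ρ (τ (a, c)) → Commute ρ (τ (a, c')) → c = c' :=
    fun a c c' h1 h2 h3 h4 => inv_mul_eq_one.1 (Γ.fpf w hz he (h1.inv_left.mul_left h2) (by
      simpa [τ_inv, τ_mul] using h3.inv_right.mul_right h4))
  choose σ hσ hσ' using fun c : Cz e => Nn.B hρ (mem_Cz.1 c.2)
  have sur : Function.Surjective fun c : Cz e => c * (⟨σ c, mem_Cz.2 (hσ c)⟩ : Cz e)⁻¹ :=
    Finite.surjective_of_injective fun c d e1 => by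
      have e2 : (c : W) * (σ c)⁻¹ = d * (σ d)⁻¹ := congrArg Subtype.val e1
      refine Subtype.ext (inv_mul_eq_one.1 (Γ.fpf w hz he (mem_Cz.1 (d⁻¹ * c).2) (comm_of_conj_eq ?_))).symm
      have e3 : τ (1, (d : W)⁻¹ * c) = (τ (1, d))⁻¹ * τ (1, c) := by simp [τ_inv, τ_mul]
      have e4 : (σ d)⁻¹ * σ c = (d : W)⁻¹ * c := by
        rw [inv_mul_eq_iff_eq_mul.2 (mul_inv_eq_iff_eq_mul.1 e2 |>.trans (mul_assoc _ _ _))]
      rw [e3, ← conj_mul_conj, ← conj_inv, hσ', hσ', ← e3, τ_inv, τ_mul, e4]; simp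
  have ex : ∀ a, ∃ c, Commute c e ∧ Commute ρ (τ (a, c)) := fun a => by
    obtain ⟨b, hb, e1⟩ := Γ.odd_P w hρ ho a (Commute.one_left e)
    obtain ⟨c, hc⟩ := sur ⟨b, mem_Cz.2 hb⟩
    refine ⟨c, mem_Cz.1 c.2, comm_of_conj_eq ?_⟩
    have e2 : (c : W) * (σ c)⁻¹ = b := congrArg Subtype.val hc
    rw [show τ (a, c) = τ (a, 1) * τ (1, c) by simp [τ_mul], ← conj_mul_conj, e1, hσ', τ_mul, τ_mul, ← e2]
    simp
  choose ψ hψ hψ' using ex
  let ψ' : W →* W := MonoidHom.mk' ψ fun a b => uq _ _ _ (hψ _) ((hψ a).mul_left (hψ b)) (hψ' _)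
    (τ_mul τ _ _ _ _ ▸ (hψ' a).mul_right (hψ' b))
  have ez : τ (1, e * z) = τ (1, e) * τ (1, z) := by rw [τ_mul, mul_one]
  have hez : ρ * τ (1, e * z) * ρ⁻¹ = τ (1, z) := by
    rw [ez, ← conj_mul_conj, hz, he, τ_mul, mul_one, (w.zc e).eq, mul_assoc, w.e_sq, mul_one]
  have m1 : τ (1, n) * ρ * (τ (1, n))⁻¹ ∈ Nn τ z e := mul_mem (mul_mem (Γ.n_mem w) hρ) (inv_mem (Γ.n_mem w))
  have e1 : ∀ u, ρ * (τ (1, n) * ρ * (τ (1, n))⁻¹) * u * (ρ * (τ (1, n) * ρ * (τ (1, n))⁻¹))⁻¹ =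
      ρ * (τ (1, n) * (ρ * ((τ (1, n))⁻¹ * u * τ (1, n)) * ρ⁻¹) * (τ (1, n))⁻¹) * ρ⁻¹ := fun u => by group
  have nz : τ (1, n) * τ (1, z) * (τ (1, n))⁻¹ = τ (1, z) := by rw [τ_conj, conj_eq_of_comm (w.zc n)]; simp
  have ne : τ (1, n) * τ (1, e) * (τ (1, n))⁻¹ = τ (1, e * z) := by rw [τ_conj, w.n_e]; simp
  have nez : τ (1, n) * τ (1, e * z) * (τ (1, n))⁻¹ = τ (1, e) := by rw [τ_conj, w.n_ez]; simp
  have bk : ∀ {a b c : G}, a * b * a⁻¹ = c → a⁻¹ * c * a = b := fun h => by rw [← h]; group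
  have nz' := bk nz
  have ne' := bk nez
  obtain ⟨p, hp, d, hd, e2⟩ := sup_of_two (D := centralizer ((((⊤ : Subgroup W).prod (Cz e)).map τ : Subgroup G) : Set G))
    ((Γ.sylP w).of_le (K := Nn τ z e ⊓ (Cz (τ (1, z)) ⊓ Cz (τ (1, e)))) (fun x hx => by
      obtain ⟨a, -, c, hc, rfl⟩ := mem_prod_map.1 hx
      refine ⟨Γ.mem_Nn w (mem_Cz.1 ((Γ.sylP w).le hx).1.1) fun a' c' hc' => ⟨_, _, ?_, τ_conj τ _ _ _ _⟩,
        ((Γ.sylP w).le hx).1.2, ((Γ.sylP w).le hx).2⟩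
      exact ((mem_Cz.1 hc).mul_left hc').mul_left (mem_Cz.1 hc).inv_left) fun x hx => ⟨⟨hx.1.1.1, hx.2.1⟩, hx.2.2⟩)
    (MSS.le_normalizer_centralizer fun x hx => hx.1.1.2) (fun x hx => by
      obtain ⟨k, hk, -⟩ := exists_odd_pow x
      have h1 := pow_mem hx (2 ^ k)
      refine ⟨k, fun y hy => ?_⟩
      obtain ⟨a, -, c, hc, rfl⟩ := mem_prod_map.1 hy
      exact (Γ.odd_cen w h1.1 hk (mem_Cz.1 h1.2.1) (mem_Cz.1 h1.2.2) a (mem_Cz.1 hc)).eq.symm)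
    (ρ * (τ (1, n) * ρ * (τ (1, n))⁻¹)) ⟨mul_mem hρ m1, mem_Cz.2 (comm_of_conj_eq (by
      rw [e1, nz', hz, ne, hez])),
      mem_Cz.2 (comm_of_conj_eq (by
      rw [e1, ne', hez, nz, hz]))⟩
  obtain ⟨a₁, -, b₁, hb₁, rfl⟩ := mem_prod_map.1 hp
  refine ⟨ψ', ρ, Γ, fun a => w.fixB _ (hψ a) ?_, hψ', hz, he, fun b hb => Nn.B hρ hb⟩
  have e3 : ψ (a₁ * a * a₁⁻¹) = ψ a := by
    change ψ' _ = ψ' a
    rw [map_mul, map_mul, map_inv]
    exact conj_eq_of_comm (w.abB (hψ a₁) (hψ a))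
  have e4 : ρ * (τ (1, n) * ρ * (τ (1, n))⁻¹ * τ (a, ψ a) * (τ (1, n) * ρ * (τ (1, n))⁻¹)⁻¹) * ρ⁻¹ =
      ρ * τ (a₁ * a * a₁⁻¹, ψ a) * ρ⁻¹ := by
    rw [← e3, conj_eq_of_comm (hψ' _), e3, ← conj_eq_of_comm (w.abB (mem_Cz.1 hb₁) (hψ a)), ← τ_conj,
      conj_eq_of_comm (w.abB (mem_Cz.1 hb₁) (hψ a))]
    have := conj_eq_of_comm (Eq.symm (hd _ (mem_prod_map.2 ⟨a, mem_top a, ψ a, mem_Cz.2 (hψ a), rfl⟩)))
    conv_rhs => rw [← this]
    calc _ = ρ * (τ (1, n) * ρ * (τ (1, n))⁻¹) * τ (a, ψ a) * (ρ * (τ (1, n) * ρ * (τ (1, n))⁻¹))⁻¹ := by group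
      _ = _ := by rw [e2]; group
  obtain ⟨c', -, e5⟩ := Γ.odd_P w m1 (by rwa [← MulAut.conj_apply, MulEquiv.orderOf_eq]) a (hψ a)
  have e6 := mul_left_cancel (mul_right_cancel e4)
  rw [← (F.eq_iff.1 (e5.symm.trans e6)).1] at e6
  have e7 := comm_conj (comm_of_conj_eq e6) (τ (1, n))⁻¹
  rw [show (τ (1, n))⁻¹ * (τ (1, n) * ρ * (τ (1, n))⁻¹) * (τ (1, n))⁻¹⁻¹ = ρ by group, τ_inv, τ_conj] at e7
  simp only [inv_inv, inv_one, one_mul, mul_one] at e7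
  have e8 := uq a _ _ (w.n_B' (hψ a)) (hψ a) e7 (hψ' a)
  exact (inv_mul_eq_iff_eq_mul.1 ((mul_assoc _ _ _).symm.trans e8) :)

end Good

end CL.L5
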