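import Cfsg.Agent.INV.L5.Tool
import Cfsg.Agent.SPOR.A10.UType

/-! # Recognising a central extension of `U₄(3)` by a cyclic group of order 4 -/

set_option autoImplicit false
set_option maxRecDepth 100000

namespace CL.L5

open Subgroup Cfsg CL.MSS CL.PComp
open scoped MatrixGroups

section
open CL.CE CL.K CL.Reg CL.A10 CL.LX CL.Tr CL.Comp CL.UQ

theorem exists_cprod' {G : Type*} [Group G] {z : G} (z1 : z ≠ 1) (f₁ f₂ : SL(2, ZMod 3) →* G)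
    (a5 : ∀ x y, Commute (f₁ x) (f₂ y)) (m₁ : f₁ m = z) (m₂ : f₂ m = z) :
    ∃ P : Subgroup G, ES P z ∧ Nat.card P = 32 ∧
      ∀ g, g ∈ P ↔ ∃ x y, x ^ 4 = 1 ∧ y ^ 4 = 1 ∧ g = f₁ x * f₂ y := by
  have z2 : z * z = 1 := by
    rw [← m₁, ← map_mul, show m * m = 1 by decide +kernel, map_one]
  have a3 : ∀ x, f₂ x * z = z * f₂ x := fun x => by rw [← m₂, ← map_mul, (s1 x).2.1, map_mul]
  let F := f₁.noncommCoprod f₂ a5
  have F1 : ∀ x y, F (x, y) = f₁ x * f₂ y := fun _ _ => rfl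
  have F2 : F (m, m) = 1 := by rw [F1, m₁, m₂, z2]
  have a6 : ∀ r ∈ Rels, ev (fun i => F (lets LS i)) r = 1 := fun r hr => by
    have := List.all_eq_true.1 s2 r hr
    simp only [Bool.or_eq_true, decide_eq_true_eq] at this
    rw [← map_ev]
    rcases this with e | e <;> rw [e]
    exacts [map_one F, F2]
  obtain ⟨ψ, -, hψ⟩ := Q_hom (g := fun i => F (lets LS i)) ⟨fun i => by
    by_cases hi : i < 5
    · have := a6 _ ((by decide : ∀ i < 5, [i, iv i] ∈ Rels) i hi)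
      rw [ev_cons, ev_singleton] at this
      exact eq_inv_of_mul_eq_one_right this
    · rw [iv, List.getD_eq_default _ _ (by simpa using hi), lets,
        List.getD_eq_default _ _ (by simpa [LS] using hi), map_one, inv_one], a6⟩
  have a7 : ψ UQ.z = z := (hψ [0] (by decide)).trans (by
    rw [ev_singleton]; show f₁ m * f₂ 1 = z; rw [m₁, map_one, mul_one])
  have a8 : ψ.range = T4.map F := by
    refine le_antisymm ?_ ?_
    · rintro _ ⟨u, rfl⟩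
      rw [← RG.wd_W u, hψ _ (RG.ltAll_W u)]
      exact ev_mem fun i hi => ⟨_, s4 i (ltAll_spec (RG.ltAll_W u) i hi), rfl⟩
    · rintro _ ⟨⟨x, y⟩, hx, rfl⟩
      obtain ⟨r, -, e⟩ := List.any_eq_true.1 (s3 x (congrArg Prod.fst hx)).1
      obtain ⟨r', -, e'⟩ := List.any_eq_true.1 (s3 y (congrArg Prod.snd hx)).2
      simp only [Bool.or_eq_true, Bool.and_eq_true, decide_eq_true_eq] at e e'
      refine ⟨RG.wd Q_good r * RG.wd Q_good r', ?_⟩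
      rw [map_mul, hψ _ e.1, hψ _ e'.1, ← map_ev, ← map_ev, F1 x y]
      refine congrArg₂ (· * ·) ?_ ?_
      · rcases e.2 with e | e <;> rw [e, F1]
        · simp
        · rw [map_mul, m₁, m₂, mul_assoc, z2, mul_one]
      · rcases e'.2 with e | e <;> rw [e, F1]
        · simp
        · rw [map_mul, m₁, m₂, a3, ← mul_assoc, z2, one_mul]
  have i := inj_of_es es ψ (a7 ▸ z1)
  refine ⟨ψ.range, a7 ▸ es_range es i, by
    rw [← Nat.card_congr (MonoidHom.ofInjective i).toEquiv, RG.card]; rfl, fun g => ?_⟩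
  rw [a8]
  exact ⟨fun ⟨⟨x, y⟩, h, e⟩ => ⟨x, y, congrArg Prod.fst h, congrArg Prod.snd h, e.symm⟩,
    fun ⟨x, y, h1, h2, e⟩ => ⟨(x, y), Prod.ext h1 h2, e.symm⟩⟩

theorem psu4_of {G : Type*} [Group G] [Finite G] {P : Subgroup G} {t : G} (hL : LX P t) (hP : Nat.card P = 32)
    (hC : Nat.card (Cz t) = 1152) {g : G} (hg : g * t * g⁻¹ ∈ P) (hne : g * t * g⁻¹ ≠ t)
    (hV : ∀ g : G, g * t * g⁻¹ ∈ P → g * t * g⁻¹ ≠ t → Nat.card (P ⊓ g •ᶜ P : Subgroup G) = 4)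
    {K : Type} [Field K] [Fintype K] (hK : Fintype.card K = 9) : Nonempty (G ≃* PSU 4 K 3) := by
  obtain ⟨φ, y, h, -⟩ := exists_Hy hL hP hC hg hne hV
  obtain ⟨f, -⟩ := h.iso
  obtain ⟨e⟩ := CL.F24.nonempty_equiv_PSU9 hK
  exact ⟨f.symm.trans e.symm⟩

end

open CL.UQ (m)
open CL.Tr (sl23i sl23j sl23g sl23_normal_form)

theorem q1 : ∀ x : SL(2, ZMod 3), (x * x = 1 → x = 1 ∨ x = m) ∧ (x ^ 4 = 1 → x = 1 ∨ x = m ∨ x * x = m) ∧
    (x * sl23i = sl23i * x → x * sl23j = sl23j * x → x = 1 ∨ x = m) ∧ x * m = m * x ∧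
    (x * x = m → x ^ 4 = 1) ∧ ((x * sl23i) * x⁻¹) ^ 4 = 1 ∧ ((x * sl23j) * x⁻¹) ^ 4 = 1 := by decide +kernel

theorem q2 : ∀ x y : SL(2, ZMod 3), x * x = m → (y * y = m → ∃ a, a * x * a⁻¹ = y) ∧
    (y ^ 4 = 1 → x * y = y * x → y = 1 ∨ y = m ∨ y = x ∨ y = x * m) := by decide +kernel

theorem q3 : m * m = 1 ∧ m ≠ 1 ∧ sl23i ^ 4 = 1 ∧ sl23j ^ 4 = 1 ∧ sl23i * sl23j ≠ sl23j * sl23i ∧
    sl23g ^ 3 = 1 ∧ (sl23g * m) ^ 3 ≠ 1 ∧ m ^ 4 = 1 := by decide +kernel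

/-- An element normalising `SL₂(3)` and centralising `Q₈` centralises `SL₂(3)`. -/
theorem comm_of_Q8 {G : Type*} [Group G] {f : SL(2, ZMod 3) →* G} (hf : Function.Injective f) {g : G}
    (h1 : ∀ x, ∃ x', g * f x * g⁻¹ = f x') (h2 : ∀ x, x ^ 4 = 1 → Commute g (f x)) (x : SL(2, ZMod 3)) :
    Commute g (f x) := by
  obtain ⟨γ, hγ⟩ := h1 sl23g
  have a1 : ∀ q, q ^ 4 = 1 → (sl23g * q * sl23g⁻¹) ^ 4 = 1 → sl23g⁻¹ * γ * q = q * (sl23g⁻¹ * γ) :=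
    fun q h3 h4 => by
    have : γ * q * γ⁻¹ = sl23g * q * sl23g⁻¹ := hf (by
      rw [← conj_eq_of_comm (h2 _ h4), map_mul, map_mul, map_inv, ← hγ, map_mul, map_mul, map_inv]
      conv_lhs => rw [← conj_eq_of_comm (h2 _ h3)]
      group)
    calc sl23g⁻¹ * γ * q = sl23g⁻¹ * (γ * q * γ⁻¹) * γ := by group
      _ = _ := by rw [this]; group
  have a2 : γ ^ 3 = 1 := hf (by
    rw [map_pow, ← hγ, conj_pow, ← map_pow, q3.2.2.2.2.2.1]; simp)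
  have a3 : γ = sl23g := by
    rcases (q1 _).2.2.1 (a1 _ q3.2.2.1 (q1 _).2.2.2.2.2.1) (a1 _ q3.2.2.2.1 (q1 _).2.2.2.2.2.2) with h | h
    · exact (inv_mul_eq_one.1 h).symm
    · exact absurd (by rw [← inv_mul_eq_iff_eq_mul.1 h]; exact a2) q3.2.2.2.2.2.2.1
  obtain ⟨a, b, c, rfl⟩ := sl23_normal_form x
  rw [map_mul, map_mul, map_pow, map_pow, map_pow]
  exact (((h2 _ q3.2.2.1).pow_right _).mul_right ((h2 _ q3.2.2.2.1).pow_right _)).mul_right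
    ((comm_of_conj_eq (a3 ▸ hγ)).pow_right _)

/-- The local structure of `SU₄(3)`. -/
structure Q4 {Y : Type*} [Group Y] (c : Y) (f₁ f₂ : SL(2, ZMod 3) →* Y) (r : Y) : Prop where
  hc : ∀ y, Commute c y
  cm : ∀ x y, Commute (f₁ x) (f₂ y)
  dis : ∀ x y, f₁ x = f₂ y → x = 1 ∧ y = 1
  c2 : c * c = f₁ m * f₂ m
  n1 : ∀ g, Commute g (f₁ m) → (∀ x, ∃ x', g * f₁ x * g⁻¹ = f₁ x') ∧ ∀ x, ∃ x', g * f₂ x * g⁻¹ = f₂ x'
  r1 : ∀ x, ∃ x', r * f₁ x * r⁻¹ = f₂ x'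
  r2 : ∀ x, ∃ x', r * f₂ x * r⁻¹ = f₁ x'
  card : Nat.card (Cz (f₁ m)) = 2304
  cen : ∀ g, (∀ x, Commute g (f₁ x)) → (∀ x, Commute g (f₂ x)) → g ∈ zpowers c ∨ g * f₁ m ∈ zpowers c

namespace Q4

variable {Y : Type*} [Group Y] {c r : Y} {f₁ f₂ : SL(2, ZMod 3) →* Y} (h : Q4 c f₁ f₂ r)
include h

theorem i1 : Function.Injective f₁ :=
  (injective_iff_map_eq_one _).2 fun x e => (h.dis x 1 (by rw [e, map_one])).1

theorem i2 : Function.Injective f₂ :=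
  (injective_iff_map_eq_one _).2 fun x e => (h.dis 1 x (by rw [e, map_one])).2

omit h in
theorem msq (f : SL(2, ZMod 3) →* Y) : f m * f m = 1 := by rw [← map_mul, q3.1, map_one]

theorem uniq {x y x' y' : SL(2, ZMod 3)} (e : f₁ x * f₂ y = f₁ x' * f₂ y') : x = x' ∧ y = y' := by
  have := h.dis (x'⁻¹ * x) (y' * y⁻¹) (by
    rw [map_mul, map_mul, map_inv, map_inv, inv_mul_eq_iff_eq_mul, ← mul_assoc, ← e]; group)
  exact ⟨(inv_mul_eq_one.1 this.1).symm, (mul_inv_eq_one.1 this.2).symm⟩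

theorem mul_mul (x y x' y' : SL(2, ZMod 3)) :
    f₁ x * f₂ y * (f₁ x' * f₂ y') = f₁ (x * x') * f₂ (y * y') := by
  rw [map_mul, map_mul, (h.cm x' y).symm.mul_mul_mul_comm]

theorem cc {k : Y} (hk : k ∈ zpowers c) (y : Y) : Commute k y := by
  obtain ⟨j, rfl⟩ := hk
  exact (h.hc y).zpow_left j

theorem c4 : c ^ 4 = 1 := by
  rw [show c ^ 4 = c * c * (c * c) by simp [pow_succ, mul_assoc], h.c2, h.mul_mul, q3.1, map_one, map_one, mul_one]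

theorem c2_ne : c * c ≠ 1 := fun e =>
  q3.2.1 (h.uniq (x' := 1) (y' := 1) (by rw [← h.c2, e]; simp)).1

theorem ord : orderOf c = 4 :=
  orderOf_eq_prime_pow (p := 2) (n := 1) (by simpa [pow_two] using h.c2_ne) h.c4

theorem mem_c {k : Y} (hk : k ∈ zpowers c) : k = 1 ∨ k = c ∨ k = c * c ∨ k = c * c * c := by
  obtain ⟨j, rfl⟩ := hk
  have : c ^ j = c ^ (j % 4) := by rw [← zpow_mod_orderOf, h.ord]; rfl
  have h1 : j % 4 = 0 ∨ j % 4 = 1 ∨ j % 4 = 2 ∨ j % 4 = 3 := by omega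
  rcases h1 with e | e | e | e <;> rw [e] at this <;> simp [this, zpow_ofNat, pow_succ]

theorem sq_c {k : Y} (hk : k ∈ zpowers c) : (k = 1 ∨ k = f₁ m * f₂ m) ∧ k * k = 1 ∨
    (k = c ∨ k = c * (f₁ m * f₂ m)) ∧ k * k = f₁ m * f₂ m := by
  have h4 : c * c * (c * c) = 1 := by rw [← h.c4]; simp [pow_succ, mul_assoc]
  rw [← h.c2]
  rcases h.mem_c hk with rfl | rfl | rfl | rfl
  · simp
  · simp
  · simp [h4]
  · refine Or.inr ⟨Or.inr (mul_assoc _ _ _), ?_⟩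
    calc _ = c * c * (c * c * (c * c)) := by simp only [mul_assoc]
      _ = _ := by rw [h4, mul_one]

theorem inv_c {k : Y} (hk : k ∈ zpowers c) (h2 : k * k = 1) : k = 1 ∨ k = f₁ m * f₂ m := by
  rcases h.sq_c hk with e | e
  · exact e.1
  · exact absurd (h.c2.trans (e.2.symm.trans h2)) h.c2_ne

theorem f1c {x : SL(2, ZMod 3)} (hx : f₁ x ∈ zpowers c) : x = 1 := by
  rcases (q1 x).2.2.1 (h.i1 (by rw [map_mul, map_mul, h.cc hx])) (h.i1 (by rw [map_mul, map_mul, h.cc hx]))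
    with e | rfl
  · exact e
  · rcases h.inv_c hx (msq _) with e | e
    · exact h.i1 (by rw [e, map_one])
    · exact absurd (h.uniq (x := m) (y := 1) (by rw [map_one, mul_one]; exact e)).2.symm q3.2.1

theorem f2c {x : SL(2, ZMod 3)} (hx : f₂ x ∈ zpowers c) : x = 1 := by
  rcases (q1 x).2.2.1 (h.i2 (by rw [map_mul, map_mul, h.cc hx])) (h.i2 (by rw [map_mul, map_mul, h.cc hx]))
    with e | rfl
  · exact e
  · rcases h.inv_c hx (msq _) with e | e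
    · exact h.i2 (by rw [e, map_one])
    · exact absurd (h.uniq (x := 1) (y := m) (by rw [map_one, one_mul]; exact e)).1.symm q3.2.1

omit h in
theorem pow_of {f f' : SL(2, ZMod 3) →* Y} (hf : Function.Injective f') {g : Y} {x x' : SL(2, ZMod 3)}
    (e : g * f x * g⁻¹ = f' x') {k : ℕ} (hx : x ^ k = 1) : x' ^ k = 1 :=
  hf (by rw [map_pow, ← e, conj_pow, ← map_pow, hx]; simp)

theorem rz : r * f₁ m * r⁻¹ = f₂ m := by
  obtain ⟨x, e⟩ := h.r1 m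
  rcases (q1 x).1 (by rw [← pow_two]; exact pow_of h.i2 e (by rw [pow_two, q3.1])) with rfl | rfl
  · exact absurd (h.i1 (by simpa using e)) q3.2.1
  · exact e

theorem z_ne : f₁ m ≠ f₂ m := fun e => q3.2.1 (h.dis _ _ e).1

theorem lift {g k : Y} (hk : k ∈ zpowers c) (e : g * f₁ m * g⁻¹ = f₁ m * k) :
    Commute g (f₁ m) ∨ Commute (r⁻¹ * g) (f₁ m) := by
  have h1 : k * k = 1 := by
    have := conj_mul_conj g (f₁ m) (f₁ m)
    rw [e, msq, (h.cc hk _).symm.symm.mul_mul_mul_comm, msq] at this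
    simpa using this
  rcases h.inv_c hk h1 with rfl | rfl
  · exact Or.inl (comm_of_conj_eq (by simpa using e))
  · refine Or.inr (comm_of_conj_eq ?_)
    rw [← mul_assoc (f₁ m), msq, one_mul, ← h.rz] at e
    calc _ = r⁻¹ * (g * f₁ m * g⁻¹) * r := by group
      _ = _ := by rw [e]; group

theorem act {g : Y} (e : Commute (r⁻¹ * g) (f₁ m)) :
    (∀ x, ∃ x', g * f₁ x * g⁻¹ = f₂ x') ∧ ∀ x, ∃ x', g * f₂ x * g⁻¹ = f₁ x' := by
  refine ⟨fun x => ?_, fun x => ?_⟩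
  · obtain ⟨y, e1⟩ := (h.n1 _ e).1 x
    obtain ⟨y', e2⟩ := h.r1 y
    exact ⟨y', by rw [← e2, ← e1]; group⟩
  · obtain ⟨y, e1⟩ := (h.n1 _ e).2 x
    obtain ⟨y', e2⟩ := h.r2 y
    exact ⟨y', by rw [← e2, ← e1]; group⟩

variable {X : Type*} [Group X] {π : Y →* X} (hπ : Function.Surjective π) (hk : π.ker = zpowers c)
include hk

omit h in
theorem eq_of {a b : Y} (e : π a = π b) : ∃ k ∈ zpowers c, a = b * k :=
  ⟨b⁻¹ * a, by rw [← hk, MonoidHom.mem_ker, map_mul, map_inv, e, inv_mul_cancel], by group⟩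

omit h in
theorem one_of {k : Y} (e : k ∈ zpowers c) : π k = 1 := by rwa [← hk] at e

theorem πz : π (f₂ m) = π (f₁ m) := by
  have := one_of hk (mul_mem (mem_zpowers c) (mem_zpowers c))
  rw [h.c2, map_mul] at this
  rw [← mul_left_cancel_iff (a := π (f₁ m)), this, ← map_mul, msq, map_one]

theorem πz_ne : π (f₁ m) ≠ 1 := fun e => q3.2.1 (h.f1c (by rw [← hk]; exact e))

theorem lift' {g : Y} (e : Commute (π g) (π (f₁ m))) : Commute g (f₁ m) ∨ Commute (r⁻¹ * g) (f₁ m) := by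
  obtain ⟨k, h1, h2⟩ := eq_of hk (a := g * f₁ m * g⁻¹) (b := f₁ m) (by
    rw [map_mul, map_mul, map_inv, conj_eq_of_comm e])
  exact h.lift h1 h2

include hπ

theorem cardC [Finite Y] : Nat.card (Cz (π (f₁ m))) = 1152 := by
  have a1 : Cz (f₁ m) ≤ (Cz (π (f₁ m))).comap π := fun x hx => mem_Cz.2 ((mem_Cz.1 hx).map π)
  have a2 : (Cz (f₁ m)).relIndex ((Cz (π (f₁ m))).comap π) = 2 := by
    refine relIndex_eq_two_iff.2 ⟨r, mem_Cz.2 (comm_of_conj_eq ?_), fun b hb => ?_⟩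
    · rw [← map_inv, ← map_mul, ← map_mul, h.rz, h.πz hk]
    · have b1 : Commute b (f₁ m) → ¬ Commute (b * r) (f₁ m) := fun h1 h2 => by
        have : Commute r (f₁ m) := by simpa using h1.inv_left.mul_left h2
        exact h.z_ne ((conj_eq_of_comm this).symm.trans h.rz)
      rcases h.lift' hk (g := b⁻¹) (by simpa using (mem_Cz.1 hb).inv_left) with e | e
      · exact Or.inr ⟨mem_Cz.2 (by simpa using e.inv_left), fun e' =>
          b1 (by simpa using e.inv_left) (mem_Cz.1 e')⟩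
      · exact Or.inl ⟨mem_Cz.2 (by simpa using e.inv_left), fun e' =>
          b1 (mem_Cz.1 e') (by simpa using e.inv_left)⟩
  have a3 := relIndex_mul_index a1
  rw [a2, index_comap_of_surjective _ hπ] at a3
  have a4 := (Cz (f₁ m)).card_mul_index
  have : Finite X := Finite.of_surjective _ hπ
  have a5 := (Cz (π (f₁ m))).card_mul_index
  have a6 := π.ker.card_mul_index
  rw [index_ker, MonoidHom.range_eq_top.2 hπ, card_top, hk, Nat.card_zpowers, h.ord, ← a5, ← a4, ← a3,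
    h.card] at a6
  have a7 : 0 < (Cz (π (f₁ m))).index := Nat.pos_of_ne_zero index_ne_zero_of_finite
  nlinarith

variable {P : Subgroup X} (hE : LX.ES P (π (f₁ m)))
  (hP : ∀ g, g ∈ P ↔ ∃ x y, x ^ 4 = 1 ∧ y ^ 4 = 1 ∧ g = π (f₁ x) * π (f₂ y))
include hE hP

theorem lx : LX.LX P (π (f₁ m)) := by
  have p1 : ∀ x, x ^ 4 = 1 → π (f₁ x) ∈ P := fun x hx => (hP _).2 ⟨x, 1, hx, one_pow _, by simp⟩
  have p2 : ∀ x, x ^ 4 = 1 → π (f₂ x) ∈ P := fun x hx => (hP _).2 ⟨1, x, one_pow _, hx, by simp⟩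
  refine ⟨hE, fun g hg => ?_, fun g hg y hy => ?_⟩
  · obtain ⟨g, rfl⟩ := hπ g
    have a1 : ∀ y, π y ∈ P → ∃ k ∈ zpowers c, g * y * g⁻¹ = y * k := fun y hy =>
      eq_of hk (by rw [map_mul, map_mul, map_inv, hg _ hy, mul_inv_cancel_right])
    rcases h.lift' hk (hg _ hE.z_mem) with e | e
    · have a2 := comm_of_Q8 h.i1 (h.n1 g e).1 fun x hx => by
        obtain ⟨k, h1, h2⟩ := a1 _ (p1 x hx)
        obtain ⟨x', h3⟩ := (h.n1 g e).1 x
        have := h.f1c (x := x⁻¹ * x') (by rwa [map_mul, map_inv, ← h3, h2, inv_mul_cancel_left])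
        exact comm_of_conj_eq (by rw [h3, inv_mul_eq_one.1 this])
      have a3 := comm_of_Q8 h.i2 (h.n1 g e).2 fun x hx => by
        obtain ⟨k, h1, h2⟩ := a1 _ (p2 x hx)
        obtain ⟨x', h3⟩ := (h.n1 g e).2 x
        have := h.f2c (x := x⁻¹ * x') (by rwa [map_mul, map_inv, ← h3, h2, inv_mul_cancel_left])
        exact comm_of_conj_eq (by rw [h3, inv_mul_eq_one.1 this])
      refine (h.cen g a2 a3).imp (one_of hk) fun e => ?_
      have := one_of hk e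
      rw [map_mul] at this
      rw [eq_inv_of_mul_eq_one_left this, hE.z_inv]
    · obtain ⟨k, h1, h2⟩ := a1 _ (p1 _ q3.2.2.1)
      obtain ⟨x', h3⟩ := (h.act e).1 sl23i
      have : Commute (f₁ sl23i * k * k⁻¹) (f₁ sl23j) :=
        Commute.mul_left (by rw [← h2, h3]; exact (h.cm _ _).symm) (h.cc h1 _).inv_left
      rw [mul_inv_cancel_right] at this
      exact absurd (h.i1 (by rw [map_mul, map_mul, this])) q3.2.2.2.2.1
  · obtain ⟨g, rfl⟩ := hπ g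
    obtain ⟨x, y, hx, hy', rfl⟩ := (hP _).1 hy
    rw [← conj_mul_conj, ← map_inv, ← map_mul, ← map_mul, ← map_mul, ← map_mul]
    rcases h.lift' hk hg with e | e
    · obtain ⟨x', h1⟩ := (h.n1 g e).1 x
      obtain ⟨y', h2⟩ := (h.n1 g e).2 y
      rw [h1, h2]
      exact mul_mem (p1 _ (pow_of h.i1 h1 hx)) (p2 _ (pow_of h.i2 h2 hy'))
    · obtain ⟨x', h1⟩ := (h.act e).1 x
      obtain ⟨y', h2⟩ := (h.act e).2 y
      rw [h1, h2]
      exact mul_mem (p2 _ (pow_of h.i2 h1 hx)) (p1 _ (pow_of h.i1 h2 hy'))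

variable {g₀ : Y} {i₁ i₂ : SL(2, ZMod 3)} (h₁ : i₁ * i₁ = m) (h₂ : i₂ * i₂ = m)
  (g1 : g₀ * f₁ m * g₀⁻¹ = f₁ i₁ * f₂ i₂ * c) (g2 : g₀ * (f₁ i₁ * f₂ i₂ * c) * g₀⁻¹ = f₁ m)
include h₁ h₂ g1

omit h hπ hE hP h₁ h₂ in
theorem πw : π g₀ * π (f₁ m) * (π g₀)⁻¹ = π (f₁ i₁) * π (f₂ i₂) := by
  rw [← map_inv, ← map_mul, ← map_mul, g1, map_mul, one_of hk (mem_zpowers c), mul_one, map_mul]

omit hπ hE hP g1 h₂ in
theorem w_ne : π (f₁ i₁) * π (f₂ i₂) ≠ π (f₁ m) := fun e => by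
  obtain ⟨k, h1, h2⟩ := eq_of hk (a := f₁ i₁ * f₂ i₂) (b := f₁ m) (by rw [map_mul, e])
  have h3 : ∀ y, y * i₁ = i₁ * y := fun y => by
    have : Commute (f₁ m * k) (f₁ y * f₂ 1) := by
      rw [map_one, mul_one]
      exact Commute.mul_left (by rw [commute_iff_eq, ← map_mul, ← map_mul, (q1 y).2.2.2.1]) (h.cc h1 _)
    rw [← h2, commute_iff_eq, h.mul_mul, h.mul_mul] at this
    exact (h.uniq this).1.symm
  rcases (q1 i₁).2.2.1 (h3 _).symm (h3 _).symm with rfl | rfl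
  · exact q3.2.1 (by simpa using h₁.symm)
  · exact q3.2.1 (h₁.symm.trans q3.1)

include g2

omit hπ in
theorem card_inf : Nat.card (P ⊓ π g₀ •ᶜ P : Subgroup X) = 4 := by
  have w1 := πw hk g1
  have w2 := h.w_ne hk h₁ (i₂ := i₂)
  have w3 : π g₀ * (π (f₁ i₁) * π (f₂ i₂)) * (π g₀)⁻¹ = π (f₁ m) := by
    rw [← g2]; simp [one_of hk (mem_zpowers c)]
  have w4 : π (f₁ i₁) * π (f₂ i₂) ∈ P := (hP _).2 ⟨_, _, (q1 _).2.2.2.2.1 h₁, (q1 _).2.2.2.2.1 h₂, rfl⟩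
  have w5 : π (f₁ i₁) * π (f₂ i₂) ≠ 1 := fun e => hE.z_ne (by rw [← w3, e]; simp)
  have w6 : π (f₁ i₁) * π (f₂ i₂) * (π (f₁ i₁) * π (f₂ i₂)) = 1 := by
    rw [← w1, conj_mul_conj, hE.z_sq]; simp
  have m1 : π (f₁ m) ∈ P ⊓ π g₀ •ᶜ P := ⟨hE.z_mem, w3 ▸ conj_mem_cj w4⟩
  have m2 : π (f₁ i₁) * π (f₂ i₂) ∈ P ⊓ π g₀ •ᶜ P := ⟨w4, w1 ▸ conj_mem_cj hE.z_mem⟩
  refine Set.ncard_eq_four.2 ⟨1, π (f₁ m), π (f₁ i₁) * π (f₂ i₂), π (f₁ i₁) * π (f₂ i₂) * π (f₁ m),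
    hE.z_ne.symm, w5.symm, fun e => w2 ?_, w2.symm, fun e => w5 (by simpa using e.symm),
    fun e => hE.z_ne (by simpa using e), Set.Subset.antisymm (fun p hp => ?_) ?_⟩
  · rw [eq_inv_of_mul_eq_one_left e.symm, hE.z_inv]
  · obtain ⟨x, y, hx, hy, rfl⟩ := (hP _).1 hp.1
    obtain ⟨p', hp', e⟩ := mem_cj'.1 hp.2
    obtain ⟨x', y', hx', hy', rfl⟩ := (hP _).1 hp'
    obtain ⟨k, h1, h2⟩ := eq_of hk (a := f₁ x * f₂ y) (b := g₀ * (f₁ x' * f₂ y') * g₀⁻¹) (by simpa using e.symm)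
    have a1 : Commute (f₁ x * f₂ y) (f₁ i₁ * f₂ i₂ * c * c⁻¹) := by
      refine Commute.mul_right ?_ (h.hc _).symm.inv_right
      rw [h2, ← g1]
      refine Commute.mul_left (comm_conj (Commute.mul_left ?_ (h.cm _ _).symm) _) (h.cc h1 _)
      rw [commute_iff_eq, ← map_mul, ← map_mul, (q1 x').2.2.2.1]
    rw [mul_inv_cancel_right, commute_iff_eq, h.mul_mul, h.mul_mul] at a1
    have a2 : π (f₁ (x * x)) * π (f₂ (y * y)) = 1 := by
      rw [← map_mul, ← h.mul_mul, map_mul, map_mul]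
      refine (hE.sq _ hp.1).resolve_right fun e1 => ?_
      rw [← e, conj_mul_conj] at e1
      rcases hE.sq _ hp' with e2 | e2 <;> rw [e2] at e1
      · exact hE.z_ne (by simpa using e1.symm)
      · exact w2 (w1.symm.trans e1)
    have a3 : i₁ * m * (i₁ * m) = m := by rw [mul_assoc, ← mul_assoc m, ← (q1 _).2.2.2.1, mul_assoc, q3.1, mul_one, h₁]
    have a4 : i₂ * m * (i₂ * m) = m := by rw [mul_assoc, ← mul_assoc m, ← (q1 _).2.2.2.1, mul_assoc, q3.1, mul_one, h₂]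
    have a5 := h.πz hk
    have a6 := hE.z_ne
    have a7 := hE.z_sq
    have a8 : ∀ y u, π (f₁ m) * (π (f₂ y) * u) = π (f₂ y) * (π (f₁ m) * u) := fun y u => by
      rw [← mul_assoc, ← mul_assoc, ((h.cm m y).map π).eq]
    have a9 := fun y => ((h.cm m y).map π).eq
    rcases (q2 i₁ x h₁).2 hx (h.uniq a1).1.symm with rfl | rfl | rfl | rfl <;>
      rcases (q2 i₂ y h₂).2 hy (h.uniq a1).2.symm with rfl | rfl | rfl | rfl <;>
      simp only [h₁, h₂, a3, a4, q3.1, a5, mul_one, one_mul, map_one, a6] at a2 <;>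
      simp [a5, a7, a8, a9, mul_assoc]
  · rintro _ (rfl | rfl | rfl | rfl)
    exacts [one_mem _, m1, m2, mul_mem m2 m1]

theorem hV (g : X) (hg : g * π (f₁ m) * g⁻¹ ∈ P) (hne : g * π (f₁ m) * g⁻¹ ≠ π (f₁ m)) [Finite X] :
    Nat.card (P ⊓ g •ᶜ P : Subgroup X) = 4 := by
  have L := h.lx hπ hk hE hP
  obtain ⟨g, rfl⟩ := hπ g
  obtain ⟨x, y, hx, hy, e⟩ := (hP _).1 hg
  have a1 : π g * π (f₁ m) * (π g)⁻¹ ≠ 1 := fun e => hE.z_ne (by simpa using e)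
  obtain ⟨k, h1, h2⟩ := eq_of hk (a := g * f₁ m * g⁻¹) (b := f₁ x * f₂ y) (by simpa using e)
  have a2 : f₁ (x * x) * f₂ (y * y) * (k * k) = 1 := by
    rw [← h.mul_mul, ← (h.cc h1 _).mul_mul_mul_comm, ← h2, conj_mul_conj, msq]; simp
  have a3 : x * x = y * y := by
    rcases h.sq_c h1 with e1 | e1 <;> rw [e1.2] at a2
    · have := h.uniq (x' := 1) (y' := 1) (by simpa using a2 : f₁ (x * x) * f₂ (y * y) = _)
      rw [this.1, this.2]
    · rw [h.mul_mul] at a2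
      have := h.uniq (x' := 1) (y' := 1) (a2.trans (by simp))
      rw [eq_inv_of_mul_eq_one_left this.1, eq_inv_of_mul_eq_one_left this.2]
  have a4 : x * x = m := by
    by_contra hn
    rw [e] at hne a1
    have a5 := h.πz hk
    have a7 := hE.z_sq
    rcases (q1 x).2.1 hx with rfl | rfl | e1 <;> rcases (q1 y).2.1 hy with rfl | rfl | e2 <;> simp_all
  obtain ⟨a, ha⟩ := (q2 i₁ x h₁).1 a4
  obtain ⟨b, hb⟩ := (q2 i₂ y h₂).1 (a3 ▸ a4)
  have n1 : ∀ u, Commute u (π (f₁ m)) → u •ᶜ P = P := fun u hu =>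
    cj_eq_of_le (cj_le_iff_forall.2 (L.norm u hu))
  have a5 : Commute (π (f₁ a * f₂ b)) (π (f₁ m)) :=
    (Commute.mul_left (by rw [commute_iff_eq, ← map_mul, ← map_mul, (q1 a).2.2.2.1]) (h.cm _ _).symm).map π
  have a6 : π (f₁ a * f₂ b) * (π (f₁ i₁) * π (f₂ i₂)) * (π (f₁ a * f₂ b))⁻¹ = π (f₁ x) * π (f₂ y) := by
    rw [mul_inv_eq_iff_eq_mul, ← map_mul, ← map_mul, ← map_mul, ← map_mul, h.mul_mul, h.mul_mul, ← ha, ← hb]
    simp
  have a7 := n1 ((π (f₁ a * f₂ b) * π g₀)⁻¹ * π g) (comm_of_conj_eq (by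
    calc _ = (π g₀)⁻¹ * ((π (f₁ a * f₂ b))⁻¹ * (π g * π (f₁ m) * (π g)⁻¹) * π (f₁ a * f₂ b)) * π g₀ := by group
      _ = _ := by rw [e, ← a6, ← πw hk g1]; group))
  rw [cj_mul, cj_eq_iff, inv_inv, cj_mul] at a7
  rw [a7, ← h.card_inf hk hE hP h₁ h₂ g1 g2, ← card_cj (π (f₁ a * f₂ b)) (P ⊓ π g₀ •ᶜ P), cj_inf, n1 _ a5]

end Q4

theorem Q4.psu {Y : Type*} [Group Y] [Finite Y] {c r : Y} {f₁ f₂ : SL(2, ZMod 3) →* Y} (h : Q4 c f₁ f₂ r)
    {g₀ : Y} {i₁ i₂ : SL(2, ZMod 3)} (h₁ : i₁ * i₁ = m) (h₂ : i₂ * i₂ = m)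
    (g1 : g₀ * f₁ m * g₀⁻¹ = f₁ i₁ * f₂ i₂ * c) (g2 : g₀ * (f₁ i₁ * f₂ i₂ * c) * g₀⁻¹ = f₁ m)
    {K : Type} [Field K] [Fintype K] (hK : Fintype.card K = 9) :
    ∃ π : Y →* PSU 4 K 3, Function.Surjective π ∧ π.ker = zpowers c := by
  have : (zpowers c).Normal := ⟨fun k hk g => by rwa [conj_eq_of_comm (h.cc hk g).symm]⟩
  have hπ := QuotientGroup.mk'_surjective (zpowers c)
  have hk := QuotientGroup.ker_mk' (zpowers c)
  obtain ⟨P, hE, hc, hP⟩ := exists_cprod' (h.πz_ne hk) ((QuotientGroup.mk' (zpowers c)).comp f₁)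
    ((QuotientGroup.mk' (zpowers c)).comp f₂) (fun x y => (h.cm x y).map (QuotientGroup.mk' (zpowers c))) rfl (h.πz hk)
  obtain ⟨e⟩ := psu4_of (h.lx hπ hk hE hP) hc (h.cardC hπ hk) (g := QuotientGroup.mk' _ g₀)
    (by rw [πw hk g1]; exact (hP _).2 ⟨_, _, (q1 _).2.2.2.2.1 h₁, (q1 _).2.2.2.2.1 h₂, rfl⟩)
    (by rw [πw hk g1]; exact h.w_ne hk h₁) (fun g a b => h.hV hπ hk hE hP h₁ h₂ g1 g2 g a b) hK
  refine ⟨e.toMonoidHom.comp (QuotientGroup.mk' _), e.surjective.comp hπ, ?_⟩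
  rw [← MonoidHom.comap_ker, (MonoidHom.ker_eq_bot_iff _).2 e.injective, MonoidHom.comap_bot, hk]

end CL.L5
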