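import Cfsg.Agent.INV.L5.KC
import Cfsg.Agent.INV.L5.U53Q
import Cfsg.Agent.SOLV.Basic

/-! # The case `U₃(3)`: facts on `L(z₁)` and on `Y = L(t 2 t 3) L(t 2 t 0)` -/

set_option autoImplicit false
set_option maxHeartbeats 400000

namespace CL.L5

open Subgroup Cfsg CL.MSS CL.PComp
open scoped MatrixGroups
open CL.UQ (m)
open CL.Tr (sl23i sl23j sl23g card_sl23)

variable {G : Type*} [Group G] [Finite G] {t : Fin 5 → G}

/-- `L(t 0 t 1) ≅ U₃(3)`, with `f` the block `SL₂(3)` in the positions `3, 4`. -/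
structure K3 (t : Fin 5 → G) (f : SL(2, ZMod 3) →* G) : Prop where
  inj : Function.Injective f
  rng : f.range = Kp 3 (LL (t 0 * t 1)) (t 3 * t 4)
  fm : f m = t 3 * t 4
  card : Nat.card ↥(LL (t 0 * t 1) ⊓ Cz (t 3 * t 4)) = 96
  exp4 : ∀ x ∈ LL (t 0 * t 1), Commute x (t 3 * t 4) → Commute x (t 2 * t 3) → x ^ 4 = 1
  sq : ∃ v ∈ LL (t 0 * t 1), Commute v (t 3 * t 4) ∧ Commute v (t 2 * t 3) ∧ v * v = t 2 * t 3
  cmt : ∀ p ∈ LL (t 0 * t 1) ⊓ Cz (t 3 * t 4), ∀ q ∈ LL (t 0 * t 1) ⊓ Cz (t 3 * t 4),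
    p * q * p⁻¹ * q⁻¹ ∈ f.range
  cen : ∀ l ∈ LL (t 0 * t 1), (∀ x, Commute l (f x)) →
    ∀ l' ∈ LL (t 0 * t 1), Commute l' (t 3 * t 4) → Commute l l'
  perf : ⁅LL (t 0 * t 1), LL (t 0 * t 1)⁆ = LL (t 0 * t 1)

theorem q4 : ∀ x : SL(2, ZMod 3), x ^ 3 = 1 → x * sl23i = sl23i * x → x = 1 := by decide +kernel

omit [Finite G] in
theorem mem_Kp {p : ℕ} {L : Subgroup G} {a x : G} (h1 : x ∈ L) (h2 : Commute x a) {k : ℕ} (h3 : x ^ p ^ k = 1) :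
    x ∈ Kp p L a := subset_closure ⟨h1, h2, k, h3⟩

theorem Ld₀.k3 (D : Ld₀ t) {Γ : Type*} [Group Γ] [Finite Γ] {a b : Γ} {K₁ K₂ : Subgroup Γ}
    (μ : M3 3 a b K₁ K₂) (u : U3 a b K₁) (f : Γ →* G) (hr : f.range = LL (t 0 * t 1))
    (hk : f.ker ≤ center Γ) : ∃ f₂, K3 t f₂ := by
  obtain ⟨f', k', r', ha, hb⟩ := D.pair μ f hr hk 1
  simp only [Equiv.Perm.one_apply] at r' ha hb
  have hi : Function.Injective f' := (MonoidHom.ker_eq_bot_iff _).1 (by rw [k', ← le_bot_iff, ← u.zc]; exact hk)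
  obtain ⟨ε⟩ := u.u4
  have e1 : (f'.comp (K₁.subtype.comp ε.symm.toMonoidHom)).range = K₁.map f' := by
    rw [MonoidHom.range_comp, MonoidHom.range_comp, MonoidHom.range_eq_top.2 ε.symm.surjective,
      ← MonoidHom.range_eq_map, range_subtype]
  have e2 : ε ⟨a, μ.a_mem⟩ = m := ((q1 _).1 (by
    rw [← map_mul, ← map_one ε]; congr 1; exact Subtype.ext μ.a_sq)).resolve_left fun h =>
      μ.a_ne (congrArg Subtype.val (ε.map_eq_one_iff.1 h))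
  have e3 : (Cz a).map f' = LL (t 0 * t 1) ⊓ Cz (t 3 * t 4) := by
    rw [← r', ← ha]
    refine le_antisymm ?_ ?_
    · rintro _ ⟨x, hx, rfl⟩
      exact ⟨⟨x, rfl⟩, mem_Cz.2 ((mem_Cz.1 hx).map f')⟩
    · rintro _ ⟨⟨x, rfl⟩, hx⟩
      exact ⟨x, mem_Cz.2 ((mem_Cz.1 hx).of_map hi), rfl⟩
  have e4 : K₁ ≤ Cz a := μ.K1 ▸ (Kp_le _ _ _).trans inf_le_right
  have e5 : Nat.card K₁ = 24 := (Nat.card_congr ε.toEquiv).trans card_sl23
  refine ⟨f'.comp (K₁.subtype.comp ε.symm.toMonoidHom), hi.comp (K₁.subtype_injective.comp ε.symm.injective),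
    by rw [e1, (μ.map_Kp f' (k' ▸ hk)).1, r', ha], by simp [← e2, ha],
    by rw [← e3, card_map_of_injective hi, u.u2], ?_, ?_, ?_, ?_, ?_⟩
  · rw [← r', ← ha, ← hb]
    rintro _ ⟨x, rfl⟩ h1 h2
    rw [← map_pow, u.exp4 x (h1.of_map hi) (h2.of_map hi), map_one]
  · obtain ⟨x, h1, h2, h3⟩ := u.sq
    exact ⟨f' x, r' ▸ ⟨x, rfl⟩, ha ▸ h1.map f', hb ▸ h2.map f', by rw [← map_mul, h3, hb]⟩
  · rw [← e3, e1]
    rintro _ ⟨p, hp, rfl⟩ _ ⟨q, hq, rfl⟩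
    refine ⟨p * q * p⁻¹ * q⁻¹, ?_, by simp⟩
    have : (K₁.subgroupOf (Cz a)).Normal := normal_subgroupOf_of_le_normalizer fun g hg =>
      mem_normalizer_iff_cj.2 (by rw [μ.K1, cj_Kp, cj_top, conj_eq_of_comm (mem_Cz.1 hg)])
    have c1 : Nat.card (Cz a ⧸ K₁.subgroupOf (Cz a)) = 2 ^ 2 := by
      have := (K₁.subgroupOf (Cz a)).card_mul_index
      rw [Nat.card_congr (subgroupOfEquivOfLe e4).toEquiv, e5, u.u2, index_eq_card] at this
      omega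
    have c2 := (IsPGroup.isMulCommutative_of_card_eq_prime_sq c1).is_comm.comm
      (QuotientGroup.mk' _ ⟨p, hp⟩) (QuotientGroup.mk' _ ⟨q, hq⟩)
    have c3 : (⟨p, hp⟩ * ⟨q, hq⟩ * (⟨p, hp⟩ : Cz a)⁻¹ * (⟨q, hq⟩ : Cz a)⁻¹ : Cz a) ∈ K₁.subgroupOf (Cz a) := by
      rw [← QuotientGroup.ker_mk' (K₁.subgroupOf (Cz a)), MonoidHom.mem_ker, map_mul, map_mul, map_mul, c2]
      simp
    exact c3
  · rw [← r', ← ha]
    rintro _ ⟨x, rfl⟩ h1 _ ⟨y, rfl⟩ h2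
    have c1 : ∀ k ∈ K₁, Commute x k := fun k hk => by simpa using (h1 (ε ⟨k, hk⟩)).of_map hi
    have c2 : x ^ 96 = 1 := by
      rw [← u.u2]; exact congrArg Subtype.val (pow_card_eq_one' (x := (⟨x, mem_Cz.2 (c1 a μ.a_mem)⟩ : Cz a)))
    have c3 : x ^ 32 ∈ K₁ := μ.K1 ▸ mem_Kp (mem_top _) ((c1 a μ.a_mem).pow_left _) (k := 1) (by
      rw [← pow_mul]; exact c2)
    have c4 := q4 (ε ⟨_, c3⟩) (by
      rw [← map_pow, ε.map_eq_one_iff]; exact Subtype.ext (by simpa [← pow_mul] using c2)) (by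
      rw [← ε.apply_symm_apply sl23i, ← map_mul, ← map_mul]
      exact congrArg ε (Subtype.ext ((c1 _ (ε.symm sl23i).2).pow_left 32).eq))
    refine (u.u3 _ (ε.symm sl23g).2 ?_ x (c1 a μ.a_mem) (c1 _ (ε.symm sl23g).2)
      ⟨5, congrArg Subtype.val (ε.map_eq_one_iff.1 c4)⟩ y (h2.of_map hi)).map f'
    rw [orderOf_coe, MulEquiv.orderOf_eq]
    exact orderOf_eq_prime q3.2.2.2.2.2.1 (by decide +kernel)
  · rw [← r', MonoidHom.range_eq_map, ← map_commutator, ← commutator_def, μ.perf]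

/-- `SU₄` in the positions `≠ 2`. -/
def YY (t : Fin 5 → G) : Subgroup G := LL (t 2 * t 3) ⊔ LL (t 2 * t 0)

omit [Finite G] in
theorem Ind.cj_LL {g : G} {σ : Equiv.Perm (Fin 5)} (a : Ind t g σ) (k l : Fin 5) :
    g •ᶜ LL (t k * t l) = LL (t (σ k) * t (σ l)) := by rw [L5.cj_LL, a.two]

omit [Finite G] in
theorem Ind.mem_LL {g x : G} {σ : Equiv.Perm (Fin 5)} (a : Ind t g σ) {k l : Fin 5} (h : x ∈ LL (t k * t l)) :
    g * x * g⁻¹ ∈ LL (t (σ k) * t (σ l)) := a.cj_LL k l ▸ conj_mem_cj h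

namespace Ld₀

omit [Finite G]
variable (D : Ld₀ t)
include D

theorem swap' {a b d e : Fin 5} (i : Function.Injective ![a, b, d, e]) :
    ∃ g ∈ LL (t a * t b), Ind t g (Equiv.swap d e) := by
  obtain ⟨σ, rfl, rfl, rfl, rfl⟩ := exists_perm4 i
  obtain ⟨g, hg⟩ := D.perm σ
  obtain ⟨x, hx, h⟩ := D.swap
  exact ⟨_, hg.mem_LL hx, hg.conj_swap h⟩

theorem cen0' {a b : Fin 5} (i : a ≠ b) {l : G} (hl : l ∈ LL (t a * t b)) : Commute l (t a) := by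
  obtain ⟨σ, rfl, rfl⟩ := exists_perm2 i
  obtain ⟨g, hg⟩ := D.perm σ
  rw [← hg.cj_LL] at hl
  obtain ⟨x, hx, rfl⟩ := mem_cj'.1 hl
  exact hg 0 ▸ comm_conj (D.cen0 x hx) g

theorem LL_le_Y {j : Fin 5} (hj : j ≠ 2) : LL (t 2 * t j) ≤ YY t := by
  have a : ∀ {g : G} {σ : Equiv.Perm (Fin 5)} {k k' : Fin 5}, g ∈ YY t → Ind t g σ → σ 2 = 2 → σ k = k' →
      LL (t 2 * t k) ≤ YY t → LL (t 2 * t k') ≤ YY t := fun hg h h2 h3 hk => by
    have := cj_le_of_mem hk hg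
    rwa [h.cj_LL, h2, h3] at this
  obtain rfl | rfl | rfl | rfl : j = 0 ∨ j = 1 ∨ j = 3 ∨ j = 4 := by revert j; decide
  · exact le_sup_right
  · obtain ⟨g, hg, h⟩ := D.swap' (a := 2) (b := 3) (d := 0) (e := 1) (by decide)
    exact a (k := 0) (mem_sup_left hg) h (by decide) (by decide) le_sup_right
  · exact le_sup_left
  · obtain ⟨g, hg, h⟩ := D.swap' (a := 2) (b := 0) (d := 3) (e := 4) (by decide)
    exact a (k := 3) (mem_sup_right hg) h (by decide) (by decide) le_sup_left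

theorem Y_le : YY t ≤ Cz (t 2) :=
  sup_le (fun _ h => mem_Cz.2 (D.cen0' (by decide) h)) fun _ h => mem_Cz.2 (D.cen0' (by decide) h)

omit [Group G] D in
theorem third {k l : Fin 5} (hk : k ≠ 2) (hl : l ≠ 2) (e : k ≠ l) :
    ∃ j, j ≠ 2 ∧ Function.Injective ![2, j, k, l] := by
  revert k l; decide

theorem swap_Y {k l : Fin 5} (hk : k ≠ 2) (hl : l ≠ 2) (e : k ≠ l) : ∃ g ∈ YY t, Ind t g (Equiv.swap k l) := by
  obtain ⟨j, hj, i⟩ := third hk hl e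
  obtain ⟨g, hg, h⟩ := D.swap' i
  exact ⟨g, D.LL_le_Y hj hg, h⟩

theorem two_Y {k l : Fin 5} (hk : k ≠ 2) (hl : l ≠ 2) (e : k ≠ l) : t k * t l ∈ YY t := by
  obtain ⟨j, hj, i⟩ := third hk hl e
  exact D.LL_le_Y hj (D.mem_LL i)

theorem t2_Y : t 2 ∈ YY t := by
  rw [← D.prod4 (a := 0) (b := 1) (c := 2) (d := 3) (e := 4) (by decide)]
  exact mul_mem (D.two_Y (by decide) (by decide) (by decide)) (D.two_Y (by decide) (by decide) (by decide))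

/-- `A = (A ⊓ Y) ∪ (A ⊓ Y) t 0 t 2`. -/
theorem AA_Y {x : G} (hx : x ∈ AA t) : x ∈ YY t ∨ x * (t 0 * t 2) ∈ YY t := by
  have a : ∀ k, k ≠ 2 → t k * (t 0 * t 2) ∈ YY t := fun k hk => by
    rw [← mul_assoc]
    refine mul_mem ?_ D.t2_Y
    by_cases e : k = 0
    · rw [e, D.sq]; exact one_mem _
    · exact D.two_Y hk (by decide) e
  rcases D.mem_AA.1 hx with rfl | ⟨k, rfl⟩ | ⟨k, l, e, rfl⟩
  · exact Or.inl (one_mem _)
  · by_cases hk : k = 2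
    · exact Or.inl (hk ▸ D.t2_Y)
    · exact Or.inr (a k hk)
  · by_cases hk : k = 2
    · subst hk
      exact Or.inr (by rw [mul_assoc]; exact mul_mem D.t2_Y (a l e.symm))
    · by_cases hl : l = 2
      · subst hl
        exact Or.inr (by rw [D.c k, mul_assoc]; exact mul_mem D.t2_Y (a k hk))
      · exact Or.inl (D.two_Y hk hl e)

end Ld₀

theorem Ld₀.norm_Y (D : Ld₀ t) {g : G} {σ : Equiv.Perm (Fin 5)} (a : Ind t g σ) (h : σ 2 = 2) :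
    g ∈ normalizer (YY t : Set G) := by
  refine mem_normalizer_of_cj_le ?_
  rw [YY, cj_sup, a.cj_LL, a.cj_LL, h]
  exact sup_le (D.LL_le_Y fun e => absurd (σ.injective (e.trans h.symm)) (by decide))
    (D.LL_le_Y fun e => absurd (σ.injective (e.trans h.symm)) (by decide))

namespace K3

omit [Finite G]
variable (D : Ld₀ t) {f : SL(2, ZMod 3) →* G} (K : K3 t f)
include D K

theorem perfY : ⁅YY t, YY t⁆ = YY t := by
  have a : ∀ j, j ≠ 2 → LL (t 2 * t j) ≤ ⁅YY t, YY t⁆ := fun j hj => by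
    obtain ⟨σ, h0, h1⟩ := exists_perm2 hj.symm
    obtain ⟨g, hg⟩ := D.perm σ
    refine le_trans ?_ (commutator_mono (D.LL_le_Y hj) (D.LL_le_Y hj))
    rw [← h0, ← h1, ← hg.cj_LL, ← cj_commutator, K.perf]
  exact le_antisymm (commutator_le_self _) (sup_le (a _ (by decide)) (a _ (by decide)))

theorem sq' {a b k l : Fin 5} (i : Function.Injective ![a, b, k, l]) :
    ∃ v ∈ LL (t a * t b), (∀ j, Commute v (t j)) ∧ v * v = t k * t l := by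
  obtain ⟨v, hv, h1, h2, h3⟩ := K.sq
  have c0 := D.cen0 v hv
  have c01 := mem_Cz.1 (LL_le _ hv)
  have c2 : Commute v (t 2) := D.prod4 (a := 0) (b := 1) (c := 2) (d := 3) (e := 4) (by decide) ▸ c01.mul_right h1
  have c3 : Commute v (t 3) := D.cancel 2 (t 3) ▸ c2.mul_right h2
  have c : ∀ j, Commute v (t j) := fun j => by
    obtain rfl | rfl | rfl | rfl | rfl : j = 0 ∨ j = 1 ∨ j = 2 ∨ j = 3 ∨ j = 4 := by revert j; decide
    exacts [c0, D.cancel 0 (t 1) ▸ c0.mul_right c01, c2, c3, D.cancel 3 (t 4) ▸ c3.mul_right h1]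
  obtain ⟨σ, rfl, rfl, rfl, rfl⟩ := exists_perm4 i
  obtain ⟨g, hg⟩ := D.perm (σ * Equiv.swap 2 4)
  have e := Equiv.Perm.mul_apply σ (Equiv.swap 2 4)
  refine ⟨g * v * g⁻¹, ?_, fun j => ?_, ?_⟩
  · have := hg.mem_LL hv
    rwa [e, e, show Equiv.swap (2 : Fin 5) 4 0 = 0 by decide, show Equiv.swap (2 : Fin 5) 4 1 = 1 by decide] at this
  · obtain ⟨j, rfl⟩ := (σ * Equiv.swap 2 4).surjective j
    rw [← hg j]
    exact comm_conj (c j) g
  · rw [conj_mul_conj, h3, hg.two, D.c, e, e, show Equiv.swap (2 : Fin 5) 4 3 = 3 by decide,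
      Equiv.swap_apply_left]

end K3

end CL.L5
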